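import Cfsg.Agent.H74.CksDefs

/-!
`ExtStmt`: the split `BN`-pair with simple root groups attached to a model of a group of Lie type.
-/

set_option autoImplicit false

namespace Cfsg.Agent.H86.CksExt

open Equiv H34 H34.Split H35 H75 H75.T3G H74.Cks

universe u v

section roots

variable {ι Φ : Type*} [Fintype ι] [DecidableEq ι] {S : SignedSys ι Φ} {G : Type*} [Group G]
  {P : H34.Split S G} (L : H75.Lin P) {I K : Set ι}

include L in
theorem not_mem_Phi (hd : ∀ i ∈ I, i ∉ K) {r : Φ} (hr : r ∈ S.Phi I) : r ∉ S.Phi K := fun h =>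
  L.c_ne_zero r (funext fun i => by
    by_cases hi : i ∈ I
    · exact L.c_eq_zero h (hd i hi)
    · exact L.c_eq_zero hr hi)

variable [Finite Φ]

include L in
theorem wJ_keep (hd : ∀ i ∈ I, i ∉ K) (hc : S.wJ I * S.wJ K = S.wJ K * S.wJ I) {r : Φ}
    (hr : r ∈ S.Phi I) : S.wJ K r ∈ S.Phi I ∧ (S.pos (S.wJ K r) ↔ S.pos r) := by
  have h1 : ∀ {t}, t ∈ S.Phi I → (S.pos (S.wJ K t) ↔ S.pos t) := fun ht =>
    S.pos_iff_of_not_mem_Phi (S.wJ_mem K) (not_mem_Phi L hd ht)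
  have h2 : ∀ {t}, t ∈ S.Phi I → S.pos t → S.wJ K t ∈ S.Phi I := fun {t} ht hp => by
    refine S.inv_subset_Phi (S.wJ_mem I) ⟨(h1 ht).2 hp, ?_⟩
    rw [← Perm.mul_apply, hc, Perm.mul_apply, h1 (S.map_mem_Phi (S.wJ_mem I) ht), S.pos_wJ_iff ht]
    exact not_not.2 hp
  refine ⟨?_, h1 hr⟩
  by_cases hp : S.pos r
  · exact h2 hr hp
  · have := h2 (S.neg_mem_Phi hr) ((S.pos_neg r).2 hp)
    rwa [S.map_neg (S.wJ_mem_W K), S.neg_mem_Phi_iff] at this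

include L in
theorem comm_pos (hd : ∀ i ∈ I, i ∉ K) (hc : S.wJ I * S.wJ K = S.wJ K * S.wJ I) {r s : Φ}
    (hr : r ∈ S.Phi I) (hp : S.pos r) (hs : s ∈ S.Phi K) (hq : S.pos s) {x y : G} (hx : x ∈ P.X r)
    (hy : y ∈ P.X s) : x * y = y * x := by
  have hd' : ∀ i ∈ K, i ∉ I := fun i hi h => hd i h hi
  have h1 := eq_one_of_mem_U (fun t ht => ?_) (L.comm r s hp hq x hx y hy)
  · rwa [mul_inv_eq_one, mul_inv_eq_iff_eq_mul] at h1
  obtain ⟨-, -, -, a, b, ha, hb, e⟩ := ht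
  have e' := L.c_rel (S.wJ_mem_W I) e
  have hr' := S.map_mem_Phi (S.wJ_mem I) hr
  have hp' : ¬ S.pos (S.wJ I r) := fun h => (S.pos_wJ_iff hr).1 h hp
  obtain ⟨hs', hq'⟩ := wJ_keep L hd' hc.symm hs
  by_cases ht : S.pos (S.wJ I t)
  · refine L.c_ne_zero (S.wJ I r) (funext fun i => ?_)
    by_cases hi : i ∈ I
    · have h2 := L.c_pos _ ht i
      have h3 := L.c_nonpos hp' i
      rw [e'] at h2
      simp only [Pi.add_apply, Pi.smul_apply, smul_eq_mul, Pi.zero_apply,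
        L.c_eq_zero hs' (hd i hi)] at h2 h3 ⊢
      nlinarith
    · exact L.c_eq_zero hr' hi
  · refine L.c_ne_zero (S.wJ I s) (funext fun i => ?_)
    by_cases hi : i ∈ K
    · have h2 := L.c_nonpos ht i
      have h3 := L.c_pos _ (hq'.2 hq) i
      rw [e'] at h2
      simp only [Pi.add_apply, Pi.smul_apply, smul_eq_mul, Pi.zero_apply,
        L.c_eq_zero hr' (hd' i hi)] at h2 h3 ⊢
      nlinarith
    · exact L.c_eq_zero hs' hi

omit [Fintype ι] [DecidableEq ι] [Finite Φ] in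
theorem comm_of_conj {n x y : G} (h : n * x * n⁻¹ * (n * y * n⁻¹) = n * y * n⁻¹ * (n * x * n⁻¹)) :
    x * y = y * x := by
  calc x * y = n⁻¹ * (n * x * n⁻¹ * (n * y * n⁻¹)) * n := by group
    _ = _ := by rw [h]; group

include L in
theorem comm_any (hd : ∀ i ∈ I, i ∉ K) (hc : S.wJ I * S.wJ K = S.wJ K * S.wJ I) {r s : Φ}
    (hr : r ∈ S.Phi I) (hs : s ∈ S.Phi K) {x y : G} (hx : x ∈ P.X r)
    (hy : y ∈ P.X s) : x * y = y * x := by
  have hd' : ∀ i ∈ K, i ∉ I := fun i hi h => hd i h hi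
  have h1 : ∀ {r s : Φ}, r ∈ S.Phi I → s ∈ S.Phi K → S.pos s → ∀ {x y : G}, x ∈ P.X r →
      y ∈ P.X s → x * y = y * x := by
    intro r s hr hs hq x y hx hy
    by_cases hp : S.pos r
    · exact comm_pos L hd hc hr hp hs hq hx hy
    · obtain ⟨n, hn, e⟩ := P.exists_lift (S.wJ_mem_W I)
      obtain ⟨hs', hq'⟩ := wJ_keep L hd' hc.symm hs
      exact comm_of_conj (comm_pos L hd hc (S.map_mem_Phi (S.wJ_mem I) hr)
        ((S.pos_wJ_iff hr).2 hp) hs' (hq'.2 hq) (e ▸ P.conj n hn r x hx) (e ▸ P.conj n hn s y hy))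
  by_cases hq : S.pos s
  · exact h1 hr hs hq hx hy
  · obtain ⟨n, hn, e⟩ := P.exists_lift (S.wJ_mem_W K)
    exact comm_of_conj (h1 (wJ_keep L hd hc hr).1 (S.map_mem_Phi (S.wJ_mem K) hs)
      ((S.pos_wJ_iff hs).2 hq) (e ▸ P.conj n hn r x hx) (e ▸ P.conj n hn s y hy))

include L in
theorem comm_U (hd : ∀ i ∈ I, i ∉ K) (hc : S.wJ I * S.wJ K = S.wJ K * S.wJ I) {x y : G}
    (hx : x ∈ P.U (S.Phi I)) (hy : y ∈ P.U (S.Phi K)) : x * y = y * x := by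
  refine Subgroup.mem_centralizer_singleton_iff.1
    (U_le (K := Subgroup.centralizer {y}) (fun r hr x hx => ?_) hx)
  refine Subgroup.mem_centralizer_singleton_iff.2 (Subgroup.mem_centralizer_singleton_iff.1
    (U_le (K := Subgroup.centralizer {x}) (fun s hs y hy => ?_) hy)).symm
  exact Subgroup.mem_centralizer_singleton_iff.2 (comm_any L hd hc hr hs hx hy).symm

omit [Fintype ι] [DecidableEq ι] [Finite Φ] in
theorem conj_mem_WJ {w : Perm Φ} (hw : w ∈ S.W) (h : ∀ i ∈ I, w (S.α i) ∈ S.Phi K) {x : Perm Φ}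
    (hx : x ∈ S.WJ I) : w * x * w⁻¹ ∈ S.WJ K := by
  refine (Subgroup.closure_le ((S.WJ K).comap (MulAut.conj w).toMonoidHom)).2 ?_ hx
  rintro _ ⟨i, hi, rfl⟩
  obtain ⟨u, hu, k, hk, e⟩ := h i hi
  have e1 := S.conj' (mul_mem (inv_mem (S.WJ_le_W K hu)) hw) (i := i) (j := k)
    (by rw [Perm.mul_apply, e, perm_inv_app])
  change w * S.s i * w⁻¹ ∈ S.WJ K
  rw [show w * S.s i * w⁻¹ = u * (u⁻¹ * w * S.s i) * w⁻¹ by group, e1,
    show u * (S.s k * (u⁻¹ * w)) * w⁻¹ = u * S.s k * u⁻¹ by group]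
  exact mul_mem (mul_mem hu (S.s_mem_WJ hk)) (inv_mem hu)

omit [Fintype ι] [DecidableEq ι] in
theorem levi_rad {g : G} (h1 : g ∈ P.H ⊔ P.U (S.Phi K)) (h2 : g ∈ H75.rad P K) : g = 1 := by
  obtain ⟨a, ha, n, hn, -, u, hu, e⟩ := bruhat_J K h1
  have h3 := (bruhat_unique (Uinv_le_Up ha) hn hu (U_sub h2 fun _ h => h.1) (one_mem _) (one_mem _)
    (by rw [← e, mul_one, mul_one])).1
  exact eq_one_of_pos_of_inv (S.wJ_mem_W K) (U_sub h2 fun _ h => (pos_not_mem_iff.1 h).2)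
    (h3 ▸ U_sub ha fun _ h => h.2)

end roots

variable {p : ℕ} {Γ : Type u} [Group Γ] {M : Model.{u, v} p Γ}

variable (M) in
/-- the nodes attached to a set of generators -/
abbrev nd (J : Finset M.bn.S) : Set M.ι := nodes M.τ M.j M.inj M.h1 M.h2 J

theorem spl_U (J : Finset M.bn.S) : M.spl.U J = M.rad (nd M J) := rfl

theorem mem_nd {J : Finset M.bn.S} {i : M.ι} : i ∈ nd M J ↔ ∃ s ∈ J, Nd M s i := Iff.rfl

theorem mem_orb_of_ref {i k : M.ι} (h : ref M k = ref M i) : k ∈ M.τ.T.orb i := by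
  refine M.S.mem_of_α_mem_Phi (M.S.inv_subset_Phi (M.S.wJ_mem _) ⟨M.S.pos_α k, ?_⟩)
  rw [show M.S.wJ (M.τ.T.orb i) = M.S.wJ (M.τ.T.orb k) from h.symm]
  exact M.S.wJ_α (M.τ.T.mem_orb_self k)

theorem nd_singleton {s : M.bn.S} {i : M.ι} (h : Nd M s i) : nd M {s} = M.τ.T.orb i := by
  ext k
  rw [mem_nd]
  simp only [Finset.mem_singleton, exists_eq_left]
  refine ⟨fun h' => mem_orb_of_ref (h'.ν.symm.trans h.ν), fun h' => ?_⟩
  change M.j s = M.τ.lift (M.S.wJ (M.τ.T.orb k))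
  rw [M.τ.T.orb_eq_of_mem h']
  exact h

theorem H_norm (i : M.ι) : M.H ≤ Subgroup.normalizer (M.UJ i : Set Γ) := by
  have key : ∀ h ∈ M.H, ∀ u ∈ M.UJ i, h * u * h⁻¹ ∈ M.UJ i := fun h hh u hu =>
    ⟨by rw [map_mul, map_mul, map_inv]; exact conj_U_H hh hu.1, M.j_mem_fix _⟩
  intro h hh
  refine Subgroup.mem_normalizer_iff.2 fun u => ⟨key h hh u, fun hu => ?_⟩
  simpa [mul_assoc] using key _ (inv_mem hh) _ hu

theorem UJ_sup (i : M.ι) : M.UJ i ⊔ M.rad (M.τ.T.orb i) = M.U := by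
  refine le_antisymm (sup_le (M.UJ_le_U i) (M.rad_le_U _)) fun u hu => ?_
  obtain ⟨c, hc, a, ha, e⟩ := dec M.S.cl_pos (ref M i) (g := M.j u) hu
  obtain ⟨fc, fa⟩ := M.τ.fix_dec (M.τ.wJ_mem i) (U_sub hc fun _ h => h.2) (U_sub ha fun _ h => h.2.2)
    (e ▸ M.j_mem_fix u)
  obtain ⟨c, rfl⟩ := M.exists_of_Up ⟨U_sub hc fun _ h => h.1, fc⟩
  obtain ⟨a, rfl⟩ := M.exists_of_Up ⟨U_sub ha fun _ h => h.1, fa⟩
  rw [show u = c * a from M.inj (by rw [e, map_mul])]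
  exact mul_mem (Subgroup.mem_sup_right (U_sub hc fun _ h => pos_not_mem_iff.2 h))
    (Subgroup.mem_sup_left (M.τ.mem_UJ.2 ⟨U_sub ha fun _ h => h.2, fa⟩))

theorem spl_anti {J K : Finset M.bn.S} (h : J ⊆ K) : M.spl.U K ≤ M.spl.U J := fun _ hu =>
  U_sub (A' := {r | M.S.pos r ∧ r ∉ M.S.Phi (nd M J)}) hu fun _ hr => ⟨hr.1, fun h' => hr.2
    (M.S.Phi_mono (J := nd M J) (K := nd M K) (fun _ ⟨s, hs, e⟩ => ⟨s, h hs, e⟩) h')⟩

theorem cell' {s : M.bn.S} {i : M.ι} (h : Nd M s i) {g : Γ}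
    (hg : g ∈ BN.cell M.bn ((BN.gens M.bn).s s)) : ∃ y ∈ M.UJ i, g⁻¹ * (y * s) ∈ M.bn.B := by
  obtain ⟨b, hb, u, hu, e⟩ := h.cell (BN.inv_mem_cell_s hg)
  refine ⟨u⁻¹, inv_mem hu, ?_⟩
  rw [show g⁻¹ * (u⁻¹ * s) = b * (s * s) by rw [e]; group]
  exact mul_mem hb (M.bn.sq_mem s s.2)

theorem conj_rad {s : M.bn.S} {i : M.ι} (h : Nd M s i) {m : Γ} (hm : m ∈ M.bn.N)
    (hlt : (BN.gens M.bn).len (BN.mkW M.bn m hm) <
      (BN.gens M.bn).len ((BN.gens M.bn).s s * BN.mkW M.bn m hm)) (J : Finset M.bn.S)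
    (hJ : (BN.mkW M.bn m hm)⁻¹ * (BN.gens M.bn).s s * BN.mkW M.bn m hm ∉ BN.WJ M.bn J)
    {y : Γ} (hy : y ∈ M.UJ i) : m⁻¹ * y * m ∈ M.spl.U J := by
  have h1 := (h.lt_iff hm).1 hlt
  have hw := inv_mem (M.ν_mem hm)
  have hst : M.τ.T.Stable (nd M J) := stable_nodes _ _ _ _ _ J
  refine conj_UJ (A := {r | M.S.pos r ∧ r ∉ M.S.Phi (nd M J)}) hm
    (fun r hr hp => (rad_class_iff M.τ.T hst hw hr hp).2 ⟨h1, fun h2 => hJ ?_⟩) hy
  have h3 : (M.P.ν (M.j m))⁻¹ * ref M i * (M.P.ν (M.j m))⁻¹⁻¹ ∈ M.S.WJ (nd M J) := by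
    refine conj_mem_WJ (M.τ.T.fixJ_le_W _ hw) (fun k hk => ?_) (M.S.wJ_mem _)
    by_contra h4
    exact ((rad_class_iff M.τ.T hst hw (M.S.α_mem_Phi hk) (M.S.pos_α k)).1
      ⟨pos_of hw h1 (M.S.α_mem_Phi hk) (M.S.pos_α k), h4⟩).2 h2
  obtain ⟨n, hn, hnJ, e⟩ := exists_lift_PJ M.τ M.j M.inj M.h1 M.h2 J (M.τ.T.mem_fixJ.2
    ⟨h3, (M.τ.T.mem_fixJ.1 (mul_mem (mul_mem hw (M.τ.wJ_mem i)) (inv_mem hw))).2⟩)
  have hn' : n ∈ M.bn.N := hn
  have h4 : BN.mkW M.bn n hn' =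
      (BN.mkW M.bn m hm)⁻¹ * (BN.gens M.bn).s s * BN.mkW M.bn m hm := by
    apply ψ_injective M
    rw [map_mul, map_mul, map_inv, ψ_mkW, ψ_mkW, h.ψ, e, inv_inv]
  rw [← h4]
  exact (BN.mem_parabolic_iff_of_mem_cell (BN.self_mem_cell hn')).1 hnJ

theorem conj_X {s t : M.bn.S} {i k : M.ι} (h : Nd M s i) (h' : Nd M t k) {m : Γ} (hm : m ∈ M.bn.N)
    (hlt : (BN.gens M.bn).len (BN.mkW M.bn m hm) <
      (BN.gens M.bn).len ((BN.gens M.bn).s s * BN.mkW M.bn m hm))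
    (e : (BN.gens M.bn).s s * BN.mkW M.bn m hm = BN.mkW M.bn m hm * (BN.gens M.bn).s t)
    {y : Γ} (hy : y ∈ M.UJ i) : m⁻¹ * y * m ∈ M.UJ k := by
  have h1 := (h.lt_iff hm).1 hlt
  have hw := inv_mem (M.ν_mem hm)
  have e1 := congrArg (ψ M) e
  rw [map_mul, map_mul, ψ_mkW, h.ψ, h'.ψ] at e1
  have e2 : ref M k * (M.P.ν (M.j m))⁻¹ = (M.P.ν (M.j m))⁻¹ * ref M i := by
    rw [eq_inv_mul_iff_mul_eq, ← mul_assoc, ← e1, mul_inv_cancel_right]
  refine M.τ.mem_UJ.2 ⟨conj_UJ (A := M.S.inv (ref M k)) hm (fun r hr hp => ⟨pos_of hw h1 hr hp, ?_⟩) hy, M.j_mem_fix _⟩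
  rw [← Perm.mul_apply, e2, Perm.mul_apply, M.S.minrep_pos_iff (M.τ.T.fixJ_le_W _ hw)
    (fun _ hj => (M.τ.T.pos_iff_of_mem_orb (M.τ.T.mem_fixJ.1 hw).2 hj).2 h1)
    (M.S.map_mem_Phi (M.S.wJ_mem _) hr), M.S.pos_wJ_iff hr]
  exact not_not.2 hp

theorem L_le {s : M.bn.S} {i : M.ι} (h : Nd M s i) :
    M.UJ i ⊔ (M.UJ i).map (MulAut.conj (s : Γ)).toMonoidHom ≤
      (M.P.U (M.S.Phi (M.τ.T.orb i))).comap M.j := by
  refine sup_le (fun u hu => U_sub hu.1 fun _ h => h.1) ?_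
  rintro _ ⟨u, hu, rfl⟩
  change M.j (s * u * (s : Γ)⁻¹) ∈ M.P.U _
  rw [map_mul, map_mul, map_inv]
  exact U_sub (M.τ.conj_mem_VJ Nd.mem (M.j_mem_fix _) h.ν hu).1 fun _ h => h.1

theorem s_mem' {s : M.bn.S} {i : M.ι} (h : Nd M s i) :
    (s : Γ) ∈ M.H ⊔ (M.UJ i ⊔ (M.UJ i).map (MulAut.conj (s : Γ)).toMonoidHom) := by
  obtain ⟨n, hn, hn1, e⟩ := M.τ.exists_lift_orb i
  have h1 : M.τ.UJ i ⊔ M.τ.VJ i ≤
      (M.UJ i ⊔ (M.UJ i).map (MulAut.conj (s : Γ)).toMonoidHom).map M.j := by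
    refine sup_le (fun u hu => ?_) fun x hx => ?_
    · obtain ⟨u, rfl⟩ := M.exists_of_G1 (M.τ.UJ_le_G1 i hu)
      exact ⟨u, Subgroup.mem_sup_left hu, rfl⟩
    · obtain ⟨x, rfl⟩ := M.exists_of_G1 (M.τ.VJ_le_G1 i hx)
      refine ⟨x, Subgroup.mem_sup_right ⟨(s : Γ)⁻¹ * x * s, ?_, by simp [mul_assoc]⟩, rfl⟩
      change M.j _ ∈ M.τ.UJ i
      rw [map_mul, map_mul, map_inv]
      exact M.τ.conj_mem_UJ Nd.mem (M.j_mem_fix _) h.ν hx
  obtain ⟨n, hn2, rfl⟩ := h1 hn1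
  rw [show (s : Γ) = s * n⁻¹ * n by group]
  refine mul_mem (Subgroup.mem_sup_left ?_) (Subgroup.mem_sup_right ?_)
  · change M.j _ ∈ M.P.H
    rw [map_mul, map_inv]
    exact mul_inv_mem_H Nd.mem hn (h.ν.trans e.symm)
  · simpa using hn2

theorem cm2' {s t : M.bn.S} {i k : M.ι} (h : Nd M s i) (h' : Nd M t k)
    (ho : orderOf ((BN.gens M.bn).s s * (BN.gens M.bn).s t) = 2) {a b : Γ}
    (ha : a ∈ M.UJ i ⊔ (M.UJ i).map (MulAut.conj (s : Γ)).toMonoidHom)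
    (hb : b ∈ M.UJ k ⊔ (M.UJ k).map (MulAut.conj (t : Γ)).toMonoidHom) : a * b = b * a := by
  rw [h.orderOf h'] at ho
  have h1 : (ref M i * ref M k) * (ref M i * ref M k) = 1 := by rw [← sq, ← ho, pow_orderOf_eq_one]
  have h2 : ref M i * ref M k = ref M k * ref M i := by
    rw [← inv_eq_of_mul_eq_one_right h1, mul_inv_rev, M.S.wJ_inv, M.S.wJ_inv]
  have h3 : ∀ l ∈ M.τ.T.orb i, l ∉ M.τ.T.orb k := fun l hl hl' => by
    have : ref M i = ref M k := by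
      change M.S.wJ (M.τ.T.orb i) = M.S.wJ (M.τ.T.orb k)
      rw [← M.τ.T.orb_eq_of_mem hl, M.τ.T.orb_eq_of_mem hl']
    rw [this, M.S.wJ_mul_self, orderOf_one] at ho
    omega
  apply M.inj
  rw [map_mul, map_mul]
  exact comm_U M.L h3 h2 (L_le h ha) (L_le h' hb)

theorem ext : ExtStmt := by
  intro Γ _ _ _ p _ M n A q e h hA hH
  choose f hf using exists_nd' M
  have hb : Function.Bijective fun a => f (e a) := by
    refine ⟨fun a b k => hA a b ?_, fun s => ?_⟩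
    · rw [← h.ord, ← (hf _).orderOf (hf _), show f (e a) = f (e b) from k, InvGen.s_mul_s,
        orderOf_one]
    · obtain ⟨i, hi⟩ := exists_nd M s
      obtain ⟨a, ha⟩ := h.sur i
      exact ⟨a, (hi.eq (hf _) ha).symm⟩
  refine ⟨{ bn := M.bn
            sp := M.spl
            e := Equiv.ofBijective _ hb
            X := fun a => M.UJ (e a)
            X_T := fun a => by rw [inf_eq]; exact H_norm _
            X_sup := fun a => ?_
            anti := fun J K hJK => spl_anti hJK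
            cell := fun a g hg => cell' (hf _) hg
            conj := fun a m hm hlt J hJ y hy => conj_rad (hf _) hm hlt J hJ hy
            conjS := fun a b m hm hlt e' y hy => conj_X (hf _) (hf _) hm hlt e' hy
            comm := by rw [inf_eq]; exact hH
            s_mem := fun a => by rw [inf_eq]; exact s_mem' (hf _)
            levi := fun J => ?_
            cm2 := fun a b ho x hx y hy => cm2' (hf _) (hf _) ho hx hy },
    fun a b => ((hf _).orderOf (hf _)).trans (h.ord a b),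
    fun a => (card_UJ M _).trans (h.card a), fun a => rfl, M.spl_U_empty⟩
  · rw [M.spl_U_empty, spl_U, Equiv.ofBijective_apply, nd_singleton (hf _)]
    exact UJ_sup _
  · rw [eq_bot_iff, inf_eq]
    rintro g ⟨h1, h2⟩
    refine M.inj ((levi_rad (K := nd M (J.map (Equiv.ofBijective _ hb).toEmbedding)) ?_ h2).trans
      (map_one _).symm)
    refine (sup_le (fun x hx => Subgroup.mem_sup_left hx) (iSup₂_le fun a ha x hx => ?_) :
      _ ≤ (M.P.H ⊔ M.P.U _).comap M.j) h1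
    refine Subgroup.mem_sup_right (U_sub (L_le (hf (e a)) hx) fun r hr => M.S.Phi_mono ?_ hr)
    rw [← nd_singleton (hf (e a))]
    rintro k ⟨s, hs, e'⟩
    exact ⟨s, Finset.mem_singleton.1 hs ▸ Finset.mem_map_of_mem _ ha, e'⟩

theorem eqns : True := by
  have := @nd.eq_1.{0, 0}
  trivial

end Cfsg.Agent.H86.CksExt
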