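import Mathlib
import Cfsg.Agent.H78.G40A

/-! Project L40G, piece CVG: the centraliser of the four-group lies in the amalgam. -/

set_option autoImplicit false

namespace Cfsg.Agent.H86.G40Cvg

open Subgroup Cfsg.Agent.H83 Cfsg.Agent.H46.L40 Cfsg.Agent.H78.G40

universe u

local notation "C[" A "]" => Subgroup.centralizer (SetLike.coe A)
local notation "N[" A "]" => Subgroup.normalizer (SetLike.coe A)

theorem chk : w0 * z0 * w0⁻¹ = z0 ∧ w0 * a0 * w0⁻¹ = z0 * a0 ∧ n23 * z0 * n23⁻¹ = z0 * a0 ∧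
    n23 * a0 * n23⁻¹ = a0 ∧ y8 * z0 * y8⁻¹ = z0 ∧ y8 * a0 * y8⁻¹ = w0 * a0 := by
  decide +kernel

theorem comm_cj {G : Type u} [Group G] {g x y : G} (h : Commute (g * y * g⁻¹) x) :
    Commute y (g⁻¹ * x * g⁻¹⁻¹) := by
  have := h.conj g⁻¹
  rwa [show g⁻¹ * (g * y * g⁻¹) * g⁻¹⁻¹ = y by group] at this

theorem le_of_sylow {G : Type u} [Group G] [Finite G] {N P : Subgroup G}
    (h : ∀ p : ℕ, p.Prime → ∃ T, IsSylowIn p T N ∧ T ≤ P) : N ≤ P := by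
  rw [← relIndex_eq_one]
  by_contra hne
  obtain ⟨p, hp, hd⟩ := Nat.exists_prime_and_dvd hne
  have := Fact.mk hp
  obtain ⟨T, hT, hP⟩ := h p hp
  exact hT.not_dvd_relIndex (hd.trans (relIndex_dvd_of_le_left N hP))

theorem cvg : CvgS.{u} := by
  intro hK hD hO G _ _ S ⟨I, hI, hodd, hI'⟩ h2
  have hV : ∀ x, x ∈ C[S.V] ↔ Commute S.z x ∧ Commute S.a x := fun x => by
    rw [Dat.V, V0, MonoidHom.map_closure, centralizer_closure, mem_centralizer_iff]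
    simp only [Set.image_insert_eq, Set.image_singleton, Set.mem_insert_iff,
      Set.mem_singleton_iff, forall_eq_or_imp, forall_eq]
    rfl
  have hm : ∀ x, x ∈ I ↔ x ∈ S.X ⊓ C[S.V] ∧ Odd (orderOf x) := fun x =>
    ⟨fun h => ⟨hI h, hodd.of_dvd_nat (orderOf_dvd_natCard I h)⟩, fun h => hI' x h.1 h.2⟩
  have cN : ∀ g x, x ∈ S.X → Commute (g * S.z * g⁻¹) x → Commute (g * S.a * g⁻¹) x →
      g⁻¹ * x * g⁻¹⁻¹ ∈ S.X ⊓ C[S.V] := fun g x hx h1 h2 =>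
    ⟨S.Xn.conj_mem x hx _, (hV _).2 ⟨comm_cj h1, comm_cj h2⟩⟩
  have cI : ∀ g, ∀ x ∈ I, Commute (g * S.z * g⁻¹) x → Commute (g * S.a * g⁻¹) x →
      g⁻¹ * x * g⁻¹⁻¹ ∈ I := fun g x hx h1 h2 => (hm _).2 ⟨cN g x (hI hx).1 h1 h2, by
    have := ((hm x).1 hx).2
    rwa [← (MulAut.conj g⁻¹).orderOf_eq x] at this⟩
  have nI : ∀ g, (∀ x, Commute S.z x → Commute S.a x →
      Commute (g * S.z * g⁻¹) x ∧ Commute (g * S.a * g⁻¹) x) → g ∈ N[I] := fun g h =>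
    inv_mem_iff.1 (mem_normalizer_fintype fun x hx =>
      have h1 := (hV x).1 (hI hx).2
      cI g x hx (h x h1.1 h1.2).1 (h x h1.1 h1.2).2)
  obtain ⟨c1, c2, c3, c4, c5, c6⟩ := chk
  have ct : ∀ m, S.t * S.φ m * S.t⁻¹ = S.φ m := fun m => by rw [S.tL, mul_inv_cancel_right]
  have hφ : ∀ g m, S.φ g * S.φ m * (S.φ g)⁻¹ = S.φ (g * m * g⁻¹) := fun g m => by
    rw [map_mul, map_mul, map_inv]
  have hVR : S.V ≤ S.R := by
    rintro _ ⟨m, -, rfl⟩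
    exact subset_closure (Or.inl ⟨m, rfl⟩)
  have hIP : I ⊓ PP S.R ≤ C[S.R] := by
    rintro x ⟨hx, hp⟩
    have h3 : x ∈ ((S.R ⊔ C[S.R] : Subgroup G) : Set G) := hp
    rw [coe_mul_of_right_le_normalizer_left _ _ (centralizer_le_normalizer _)] at h3
    obtain ⟨r, hr, c, hc, rfl⟩ := h3
    have h4 : r ∈ C[S.V] := by
      have := C[S.V].mul_mem (hI hx).2 (C[S.V].inv_mem (centralizer_le hVR hc))
      simpa using this
    obtain ⟨n, hn⟩ := h2 r hr h4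
    have h5 : Commute r c := hc r hr
    have h6 := pow_orderOf_eq_one (r * c)
    rw [h5.mul_pow, mul_eq_one_iff_eq_inv] at h6
    have h7 : r ^ orderOf (r * c) ∈ S.R ⊓ C[S.R] :=
      ⟨S.R.pow_mem hr _, h6 ▸ C[S.R].inv_mem (C[S.R].pow_mem hc _)⟩
    rw [S.fn.zr, mem_bot] at h7
    have h8 : r = 1 := orderOf_eq_one_iff.1 (Nat.eq_one_of_dvd_coprimes
      ((Nat.coprime_two_left.2 ((hm _).1 hx).2).pow_left n) (orderOf_dvd_of_pow_eq_one hn)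
      (orderOf_dvd_of_pow_eq_one h7))
    simpa [h8] using hc
  obtain ⟨k1, k2, k3⟩ := hO G S I (fun x hx => (hI hx).1) hodd
    (nI _ fun x h1 h2 => by rw [ct, ct]; exact ⟨h1, h2⟩)
    (nI _ fun x h1 h2 => by rw [hφ, hφ, c1, c2, map_mul]; exact ⟨h1, h1.mul_left h2⟩)
    (nI _ fun x h1 h2 => by rw [hφ, hφ, c3, c4, map_mul]; exact ⟨h1.mul_left h2, h2⟩)
    (nI _ fun x h1 h2 => by
      have e : S.s * S.z * S.s⁻¹ = S.z := by
        rw [Dat.z, ← S.rl.ss, ← mul_assoc, mul_inv_cancel_right]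
      rw [S.rl.sa, map_mul, e]
      exact ⟨h1, h2.mul_left h1⟩)
    (fun x hx => (hI hx).2) hIP
  have k4 : S.φ (y8 * n23 * y8⁻¹) ∈ C[I] := fun x hx => by
    have h1 := (hV x).1 (hI hx).2
    have h3 : Commute (S.φ w0) x := (k1 x hx).symm
    have h4 := cI (S.φ y8) x hx (by rw [hφ, c5]; exact h1.1)
      (by rw [hφ, c6, map_mul]; exact h3.mul_left h1.2)
    have h5 : Commute _ (S.φ n23) := k2 _ h4
    have h6 := h5.conj (S.φ y8)
    rw [hφ, show S.φ y8 * ((S.φ y8)⁻¹ * x * (S.φ y8)⁻¹⁻¹) * (S.φ y8)⁻¹ = x by group] at h6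
    exact h6
  have k5 : ∀ m, S.φ m ∈ C[I] := fun m => by
    have : Subgroup.closure ({w0, n23, y8 * n23 * y8⁻¹} : Set S3) ≤ C[I].comap S.φ := by
      rw [closure_le]
      rintro _ (rfl | rfl | rfl)
      exacts [k1, k2, k4]
    exact this (hK.gen2 ▸ mem_top m)
  have k6 : I ≤ C[S.R] := by
    rw [le_centralizer_iff, Dat.R, Gn, closure_le]
    rintro _ (⟨m, rfl⟩ | rfl)
    exacts [k5 m, k3]
  have tN : S.t ∈ N[(S.X ⊓ C[S.V] : Subgroup G)] :=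
    inv_mem_iff.1 (mem_normalizer_fintype fun x hx =>
      have h1 := (hV x).1 hx.2
      cN S.t x hx.1 (by rw [ct]; exact h1.1) (by rw [ct]; exact h1.2))
  obtain ⟨d1, A, d2, d3⟩ := hD G S.R S.X S.t S.fn _ inf_le_left tN
  refine le_of_sylow fun p hp => ?_
  rcases hp.eq_two_or_odd' with rfl | ho
  · exact ⟨A, d1 A d2 d3, (d3.le.trans inf_le_right).trans le_sup_left⟩
  · have := Fact.mk hp
    obtain ⟨T, hT⟩ := exists_isSylowIn p (S.X ⊓ C[S.V])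
    refine ⟨T, hT, fun x hx => (le_sup_right : C[S.R] ≤ _) (k6 (hI' x (hT.le hx) ?_))⟩
    obtain ⟨k, hk⟩ := hT.isPGroup ⟨x, hx⟩
    exact (ho.pow (n := k)).of_dvd_nat (orderOf_dvd_of_pow_eq_one (congrArg Subtype.val hk))

end Cfsg.Agent.H86.G40Cvg
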