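import Cfsg.Agent.H17.KnDef2

/-!
# The trichotomy for the normaliser of `Q`
-/

set_option autoImplicit false
set_option maxRecDepth 100000
set_option synthInstance.maxSize 4000

namespace Cfsg.Agent.H86.KnT

open Equiv Subgroup Cfsg.Agent.H11.A16 Cfsg.Agent.H63 Cfsg.Agent.H17.Kn

universe u

theorem lin_tr (d : P) (hd : d ≠ 0) : ∃ σ ∈ AG, σ 0 = 0 ∧ σ 1 = d := by
  have h : ∀ d : P, d ≠ 0 → ∃ σ ∈ [1, lx 1 0, lx 2 0, lx 1 0 * lx 2 0, lx 0 1 * lx 1 0,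
    lx 0 2 * lx 2 0, lx 0 1 * lx 1 0 * lx 2 0], (σ 0 = 0 ∧ σ 1 = d) ∧ σ ∈ AG := by decide +kernel
  obtain ⟨σ, -, h1, h2⟩ := h d hd
  exact ⟨σ, h2, h1⟩

theorem two_tr {p q : P} (h : p ≠ q) : ∃ σ ∈ AG, σ 0 = p ∧ σ 1 = q := by
  have h1 : ∀ p q : P, p ≠ q → p ^^^ q ≠ 0 ∧ x p 0 = p ∧ x p (p ^^^ q) = q := by decide +kernel
  have h2 : ∀ p : P, x p ∈ AG := by decide +kernel
  obtain ⟨σ, h3, h4, h5⟩ := lin_tr _ (h1 p q h).1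
  exact ⟨x p * σ, mul_mem (h2 p) h3, by rw [Perm.mul_apply, h4, (h1 p q h).2.1],
    by rw [Perm.mul_apply, h5, (h1 p q h).2.2]⟩

theorem sec_dl (σ : Perm P) (p : P) : sec2 σ * dl p * (sec2 σ)⁻¹ = dl (σ p) := by
  refine N2.ext (mul_inv_cancel σ) (funext fun r => ?_)
  change (0 : ZMod 2) + ((if σ⁻¹ r = p then 1 else 0) + 0) = if r = σ p then 1 else 0
  rw [zero_add, add_zero]
  exact if_congr Perm.inv_eq_iff_eq rfl rfl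

theorem aff_of (f : P → ZMod 2) (h : f 3 = f 0 + f 1 + f 2 ∧ f 5 = f 0 + f 1 + f 4 ∧
    f 6 = f 0 + f 2 + f 4 ∧ f 7 = f 1 + f 2 + f 4) : (⟨1, f⟩ : N2) ∈ AP := by
  have h1 : ∀ a b c d : ZMod 2, ∀ p q r : P,
    ![a, b, c, a + b + c, d, a + b + d, a + c + d, b + c + d] (p ^^^ q ^^^ r) =
    ![a, b, c, a + b + c, d, a + b + d, a + c + d, b + c + d] p +
    ![a, b, c, a + b + c, d, a + b + d, a + c + d, b + c + d] q +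
    ![a, b, c, a + b + c, d, a + b + d, a + c + d, b + c + d] r := by decide +kernel
  have h2 : f = ![f 0, f 1, f 2, f 0 + f 1 + f 2, f 4, f 0 + f 1 + f 4, f 0 + f 2 + f 4,
      f 1 + f 2 + f 4] := by
    rw [← h.1, ← h.2.1, ← h.2.2.1, ← h.2.2.2]
    funext p
    fin_cases p <;> rfl
  refine ⟨⟨one_mem _, ?_⟩, rfl⟩
  change ∀ p q r, f (p ^^^ q ^^^ r) = f p + f q + f r
  rw [h2]
  exact h1 _ _ _ _

theorem wt_two {e : N2} (he : e ∈ EE) (hn : e ∉ AP) : ∃ p q, p ≠ q ∧ dl p * dl q * e ∈ AP := by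
  have h1 : ∀ a0 a1 a2 a3 a4 a5 a6 a7 : ZMod 2, a0 + a1 + a2 + a3 + a4 + a5 + a6 + a7 = 0 →
    (a3 = a0 + a1 + a2 ∧ a5 = a0 + a1 + a4 ∧ a6 = a0 + a2 + a4 ∧ a7 = a1 + a2 + a4) ∨
    ∃ q : P, 0 ≠ q ∧ a3 + (dl 0 * dl q).f 3 =
        a0 + (dl 0 * dl q).f 0 + (a1 + (dl 0 * dl q).f 1) + (a2 + (dl 0 * dl q).f 2) ∧
      a5 + (dl 0 * dl q).f 5 =
        a0 + (dl 0 * dl q).f 0 + (a1 + (dl 0 * dl q).f 1) + (a4 + (dl 0 * dl q).f 4) ∧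
      a6 + (dl 0 * dl q).f 6 =
        a0 + (dl 0 * dl q).f 0 + (a2 + (dl 0 * dl q).f 2) + (a4 + (dl 0 * dl q).f 4) ∧
      a7 + (dl 0 * dl q).f 7 =
        a1 + (dl 0 * dl q).f 1 + (a2 + (dl 0 * dl q).f 2) + (a4 + (dl 0 * dl q).f 4) := by
    decide +kernel
  obtain ⟨σ, f⟩ := e
  obtain rfl : σ = 1 := he.1
  have h2 : ∑ p, f p = 0 := he.2
  rw [Fin.sum_univ_eight] at h2
  rcases h1 _ _ _ _ _ _ _ _ h2 with h | ⟨q, hq, h⟩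
  · exact (hn (aff_of f h)).elim
  · exact ⟨0, q, hq, aff_of (fun p => f p + (dl 0 * dl q).f p) h⟩

theorem ee_le (m2 : Mod2) {K : Subgroup N2} (hK : QK ≤ K) {e : N2} (he : e ∈ EE) (hn : e ∉ AP)
    (h : e ∈ K) : EE ≤ K := by
  have cj : ∀ σ ∈ AG, dl 0 * dl 1 ∈ K ↔ dl (σ 0) * dl (σ 1) ∈ K := fun σ hσ => by
    have h1 : sec2 σ ∈ K := hK ⟨hσ, fun _ _ _ => rfl⟩
    rw [← sec_dl, ← sec_dl, show sec2 σ * dl 0 * (sec2 σ)⁻¹ * (sec2 σ * dl 1 * (sec2 σ)⁻¹) =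
      sec2 σ * (dl 0 * dl 1) * (sec2 σ)⁻¹ by group, K.mul_mem_cancel_right (inv_mem h1),
      K.mul_mem_cancel_left h1]
  obtain ⟨p, q, hpq, h1⟩ := wt_two he hn
  obtain ⟨σ, hσ, rfl, rfl⟩ := two_tr hpq
  have h2 := (cj σ hσ).2 ((K.mul_mem_cancel_right h).1 (hK h1.1))
  refine m2.gEE K fun p q => ?_
  by_cases h3 : p = q
  · rw [h3, m2.ab.2.2.2.1 (dl q) rfl]
    exact one_mem K
  · obtain ⟨τ, hτ, rfl, rfl⟩ := two_tr h3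
    exact (cj τ hτ).1 h2

section

variable {G : Type u} [Group G] {J : N2 → G} {φ : G → Perm Ω}

theorem r_uniq {X : Subgroup N2} (h : Em J X) {g : G} {u v w : N2} (hv : v ∈ X) (hw : w ∈ X)
    (h1 : R J g u v) (h2 : R J g u w) : v = w := h.inj v hv w hw (Eq.trans (Eq.symm h1) h2)

theorem ex_nrm [Finite G] (m2 : Mod2) (h : Em J QQ) {g : G} {m : N2} (hm : m ∈ QE)
    (hg : Ex J g m QQ) : g ∈ N[im J QQ] := by
  refine mem_normalizer_fintype fun a ha => ?_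
  obtain ⟨u, hu, rfl⟩ := h.mem.1 ha
  rw [show g * J u * g⁻¹ = J (m * u * m⁻¹) from hg u hu]
  exact mem_im (((m2.nrm m).2.2.2.2.1 hm).1 u hu)

theorem exists_real (J : N2 → G) (m2 : Mod2) :
    ∃ K : Subgroup N2, ∀ m, m ∈ K ↔ m ∈ QE ∧ ∃ g, Ex J g m QQ := by
  refine ⟨⟨⟨⟨{m | m ∈ QE ∧ ∃ g, Ex J g m QQ}, ?_⟩, one_mem _, 1, fun u _ => ?_⟩, ?_⟩,
    fun _ => Iff.rfl⟩
  · rintro a b ⟨ha, g, hg⟩ ⟨hb, h, hh⟩
    refine ⟨mul_mem ha hb, g * h, fun u hu => ?_⟩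
    rw [show a * b * u * (a * b)⁻¹ = a * (b * u * b⁻¹) * a⁻¹ by group]
    exact (hh u hu).trans (hg _ (((m2.nrm b).2.2.2.2.1 hb).1 u hu))
  · change 1 * J u * 1⁻¹ = J (1 * u * 1⁻¹)
    simp
  · rintro a ⟨ha, g, hg⟩
    refine ⟨inv_mem ha, g⁻¹, fun u hu => ?_⟩
    have h1 := (hg _ (((m2.nrm a⁻¹).2.2.2.2.1 (inv_mem ha)).1 u hu)).symm
    rwa [show a * (a⁻¹ * u * a⁻¹⁻¹) * a⁻¹ = u by group] at h1

theorem dich [Finite G] (m2 : Mod2) (h1 : TrfStmt) (h : Ki J φ) (K : Kit J φ) {g : G}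
    (hg : g ∈ N[im J QQ]) :
    (∀ u ∈ AP, ∃ v ∈ AP, R J g u v) ∨ ∀ u ∈ AP, ∃ v ∈ AA, R J g u v := by
  obtain ⟨-, lQ, -, lA, lP, -, -, -, -, lK, -⟩ := m2.le
  have em := h.em.mono lQ
  obtain ⟨α, hα, hr⟩ := em.au hg
  rcases h1 α hα with h2 | h2 | ⟨k, hk, h2, b, hb, h3⟩
  · exact Or.inl fun u hu => ⟨_, h2 u hu, hr u (lP hu)⟩
  · exact Or.inr fun u hu => ⟨_, h2 u hu, hr u (lP hu)⟩
  exfalso
  obtain ⟨y, -, -, hy⟩ := K.rq k hk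
  have h4 : g⁻¹ * (y * g) ∈ NA J := K.mna _ fun a ha => by
    obtain ⟨a', ha', e⟩ := h2 a ha
    have h5 := (hr a (lA ha)).trans (hy _ (hα.mem a (lA ha)))
    rw [e] at h5
    exact ⟨a', ha', h5.trans (hr a' (lA ha')).symm⟩
  obtain ⟨k', hk', -, h5⟩ := K.nq _ h4
    (mul_mem (inv_mem hg) (mul_mem (ex_nrm m2 em (lK hk) hy) hg))
  have h6 := ((m2.nrm k').2.2.2.1 hk').2 b hb
  have h7 := (h5 b (lP hb)).trans (hr _ (lP h6))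
  rw [mul_inv_cancel_left] at h7
  exact h3 _ h6 (r_uniq em (((m2.nrm k).2.2.2.2.1 (lK hk)).1 _ (hα.mem b (lP hb)))
    (hα.mem _ (lP h6)) ((hr b (lP hb)).trans (hy _ (hα.mem b (lP hb)))) h7)

theorem onto (m1 : Mod1) (m2 : Mod2) (h : Ki J φ) {g : G}
    (hg : ∀ u ∈ AP, ∃ v ∈ AA, R J g u v) : ∀ v ∈ AA, ∃ u ∈ AP, R J g u v := by
  obtain ⟨-, lQ, -, -, lP, -⟩ := m2.le
  choose f h1 h2 using hg
  have h3 : Function.Injective fun u : AP => (⟨f u u.2, h1 u u.2⟩ : AA) := fun u u' e => by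
    have h4 : f u u.2 = f u' u'.2 := congrArg Subtype.val e
    exact Subtype.ext (r_uniq h.em (lQ (lP u.2)) (lQ (lP u'.2)) (h2 u u.2).symm
      (h4 ▸ (h2 u' u'.2).symm))
  intro v hv
  obtain ⟨u, e⟩ := (h3.bijective_of_nat_card_le (by rw [m1.cAA, m1.cAP])).2 ⟨v, hv⟩
  have h4 : f u u.2 = v := congrArg Subtype.val e
  exact ⟨u, u.2, h4 ▸ h2 u u.2⟩

end

theorem tri (hB : Base.{u}) (h1 : TrfStmt) (h2 : AuqStmt) : TriStmt.{u} := by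
  intro G _ _ J φ h
  have K := hB.kit J φ h
  have m2 := hB.m2
  obtain ⟨-, lQ, -, -, lP, lE, lE1, -, -, lK, -⟩ := m2.le
  have em := h.em.mono lQ
  by_cases h0 : ∀ g ∈ N[im J QQ], g ∈ NA J
  · exact Or.inl h0
  obtain ⟨g0, hg0, hn0⟩ : ∃ g ∈ N[im J QQ], g ∉ NA J := by
    by_contra h3
    exact h0 fun g hg => not_not.1 fun h4 => h3 ⟨g, hg, h4⟩
  by_cases h3 : ∃ g ∈ N[im J QQ], ∀ u ∈ AP, ∃ v ∈ AA, R J g u v
  · obtain ⟨g1, hg1, h3⟩ := h3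
    have h4 := onto hB.m1 m2 h h3
    have h5 : ∀ (g : G) (Y : Subgroup N2), (∀ u ∈ AP, ∃ v ∈ Y, R J (g * g1) u v) →
        ∀ a ∈ AA, ∃ b ∈ Y, R J g a b := fun g Y h5 a ha => by
      obtain ⟨u, hu, h6⟩ := h4 a ha
      obtain ⟨v, hv, h7⟩ := h5 u hu
      have h8 := h6.symm.trans h7
      rw [mul_inv_cancel_right] at h8
      exact ⟨v, hv, h8⟩
    refine Or.inr (Or.inl ⟨h, fun g hg => ?_, g0, hg0, hn0⟩)
    rcases dich m2 h1 h K (mul_mem hg hg1) with h6 | h6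
    · exact Or.inr (h5 g _ h6)
    · exact Or.inl (K.mna g (h5 g _ h6))
  have nq : ∀ g ∈ N[im J QQ], ∃ m ∈ QE, Ex J g m QQ := fun g hg => by
    have h4 := (dich m2 h1 h K hg).resolve_right fun h4 => h3 ⟨g, hg, h4⟩
    obtain ⟨α, hα, hr⟩ := em.au hg
    obtain ⟨m, hm, h5⟩ := h2 α hα fun u hu => by
      obtain ⟨v, hv, h5⟩ := h4 u hu
      exact r_uniq em (lP hv) (hα.mem u (lP hu)) h5 (hr u (lP hu)) ▸ hv
    exact ⟨m, hm, fun u hu => h5 u hu ▸ hr u hu⟩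
  refine Or.inr (Or.inr ⟨h, nq, fun e he => ?_⟩)
  obtain ⟨L, hL⟩ := exists_real J m2
  have h4 : QK ≤ L := fun k hk => by
    obtain ⟨y, -, -, hy⟩ := K.rq k hk
    exact (hL k).2 ⟨lK hk, y, hy⟩
  obtain ⟨m, hm, h5⟩ := nq g0 hg0
  obtain ⟨k, hk, e0, he0, rfl⟩ := m2.pQE m hm
  refine ((hL e).1 (ee_le m2 h4 he0 (fun h6 => hn0 (K.mna _ fun a ha => ?_))
    ((L.mul_mem_cancel_left (h4 hk)).1 ((hL _).2 ⟨hm, g0, h5⟩)) he)).2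
  exact ⟨_, ((m2.nrm _).2.2.2.1 (mul_mem hk h6.1)).1 a ha, h5 a (m2.le.2.2.2.1 ha)⟩

end Cfsg.Agent.H86.KnT
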