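import Cfsg.Agent.H46.UDefs
import Cfsg.Agent.H82.UT5
import Cfsg.Agent.H5.FPFSolvable
import Cfsg.Agent.S1248

/-! An involution with centraliser `A₅ × 2 × O`: basic facts and the special group of order 64. -/

set_option autoImplicit false

namespace Cfsg.Agent.H86.S94

open Cfsg.Agent.H46.S94 Subgroup

universe u

local notation "C[" A "]" => Subgroup.centralizer (SetLike.coe A)
local notation "N[" A "]" => Subgroup.normalizer (SetLike.coe A)

theorem a5_pow : ∀ s : alternatingGroup (Fin 5), s ^ 2 = 1 ∨ s ^ 3 = 1 ∨ s ^ 5 = 1 := by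
  decide +kernel

variable {X : Type u} [Group X] {t σ : X} {Λ O Z P : Subgroup X}

theorem cardL (h : A5C t σ Λ O Z) : Nat.card Λ = 60 := by
  obtain ⟨e⟩ := h.iso
  rw [Nat.card_congr e.toEquiv, nat_card_alternatingGroup, Nat.card_fin]
  rfl

theorem powL (h : A5C t σ Λ O Z) {l : X} (hl : l ∈ Λ) : l ^ 2 = 1 ∨ l ^ 3 = 1 ∨ l ^ 5 = 1 := by
  obtain ⟨e⟩ := h.iso
  have k : ∀ n : ℕ, e ⟨l, hl⟩ ^ n = 1 → l ^ n = 1 := fun n hn => by
    rw [← map_pow, map_eq_one_iff _ e.injective] at hn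
    exact congrArg Subtype.val hn
  exact (a5_pow (e ⟨l, hl⟩)).imp (k 2) (Or.imp (k 3) (k 5))

/-- `Λ` has trivial centre. -/
theorem cenL (h : A5C t σ Λ O Z) {l : X} (hl : l ∈ Λ) (hc : l ∈ C[Λ]) : l = 1 := by
  obtain ⟨e⟩ := h.iso
  have hz : e ⟨l, hl⟩ ∈ center (alternatingGroup (Fin 5)) := mem_center_iff.2 fun g => by
    obtain ⟨g, rfl⟩ := e.surjective g
    rw [← map_mul, ← map_mul]
    exact congrArg e (Subtype.ext (hc g g.2))
  rw [alternatingGroup.center_eq_bot (by simp), mem_bot, map_eq_one_iff _ e.injective] at hz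
  exact congrArg Subtype.val hz

variable [Finite X]

/-- `Z` is a Sylow `2`-subgroup of `Λ`. -/
theorem two_inf (h : A5C t σ Λ O Z) {S : Subgroup X} (hS : IsPGroup 2 S) (hZ : Z ≤ S) {l : X}
    (hl : l ∈ Λ) (hs : l ∈ S) : l ∈ Z := by
  have : Fact (Nat.Prime 2) := ⟨Nat.prime_two⟩
  have h1 : Z ≤ S ⊓ Λ := le_inf hZ h.ZL
  obtain ⟨n, hn⟩ := IsPGroup.iff_card.1 (hS.to_inf_left (K := Λ))
  have h2 : Nat.card (S ⊓ Λ : Subgroup X) ∣ 60 := cardL h ▸ card_dvd_of_le inf_le_right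
  have h3 : Nat.card (S ⊓ Λ : Subgroup X) ≤ 4 := by
    rw [hn] at h2 ⊢
    by_contra hc
    have h4 : 3 ≤ n := by
      by_contra h5
      have : n ≤ 2 := by omega
      interval_cases n <;> omega
    have := (pow_dvd_pow 2 h4).trans h2
    omega
  rw [eq_of_le_of_card_ge h1 (by rw [h.cZ]; exact h3)]
  exact ⟨hs, hl⟩

omit [Finite X] in
theorem two_t (h : A5C t σ Λ O Z) : IsPGroup 2 (zpowers t) :=
  IsPGroup.of_card_dvd_pow (n := 1) (by
    rw [Nat.card_zpowers]; exact orderOf_dvd_of_pow_eq_one (by rw [pow_one, sq, h.tt]))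

omit [Finite X] in
theorem two_sup (h : A5C t σ Λ O Z) (hP : IV t σ Z P) : IsPGroup 2 (P ⊔ zpowers t : Subgroup X) :=
  hP.two.to_sup_of_normal_left' (two_t h) (zpowers_le_of_mem hP.tN)

/-- `C_P(t) = Z` -/
theorem cent_t (h : A5C t σ Λ O Z) (hP : IV t σ Z P) {c : X} (hc : c ∈ P) (e : c * t = t * c) :
    c ∈ Z := by
  obtain ⟨l, hl, o, ho, hco⟩ := h.cen c e
  obtain ⟨k, hk⟩ := hP.two ⟨c, hc⟩
  have hk' : c ^ 2 ^ k = 1 := congrArg Subtype.val hk
  have lo : Commute l o := h.OC ho l hl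
  have lt : Commute l t := h.Lt l hl
  have ot : Commute o t := h.Ot o ho
  have e1 : c ^ 2 = l ^ 2 * o ^ 2 := by
    rcases hco with rfl | rfl
    · exact lo.mul_pow 2
    · rw [(lo.mul_left ot.symm).mul_pow, lt.mul_pow, sq t, h.tt, mul_one]
  have e2 : l ^ 2 ^ (k + 1) * o ^ 2 ^ (k + 1) = 1 := by
    rw [pow_succ', pow_mul, pow_mul, ← ((lo.pow_left 2).pow_right 2).mul_pow, ← e1, ← pow_mul,
      mul_comm, pow_mul, hk', one_pow]
  have e3 : o ^ 2 ^ (k + 1) = 1 := cenL h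
    (by rw [eq_inv_of_mul_eq_one_right e2]; exact inv_mem (pow_mem hl _)) (h.OC (pow_mem ho _))
  have e4 : o = 1 := by
    have c1 : (orderOf o).Coprime (2 ^ (k + 1)) := Nat.Coprime.pow_right _
      (Nat.coprime_two_right.2 (h.odd.of_dvd_nat (O.orderOf_dvd_natCard ho)))
    exact orderOf_eq_one_iff.1 (c1.eq_one_of_dvd (orderOf_dvd_of_pow_eq_one e3))
  subst e4
  have hZ : Z ≤ P ⊔ zpowers t := hP.ZP.trans le_sup_left
  rcases hco with rfl | rfl
  · rw [mul_one] at hc ⊢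
    exact two_inf h (two_sup h hP) hZ hl (mem_sup_left hc)
  · rw [mul_one] at hc
    have : l ∈ Z := two_inf h (two_sup h hP) hZ hl (by
      have := mul_mem (mem_sup_left (T := zpowers t) hc)
        (inv_mem (mem_sup_right (S := P) (mem_zpowers t)))
      rwa [mul_inv_cancel_right] at this)
    exact absurd ((mul_mem_cancel_left (hP.ZP this)).1 hc) hP.tP

omit [Finite X] in
/-- `σ` is fixed point free on `Z`. -/
theorem fpf (h : A5C t σ Λ O Z) {w : X} (hw : w ∈ Z) (e : σ * w = w * σ) : w = 1 := by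
  have c : Commute σ w := e
  have s3 : σ ^ 3 = 1 := h.so ▸ pow_orderOf_eq_one σ
  have w4 : w ^ 4 = 1 := h.cZ ▸ congrArg Subtype.val (pow_card_eq_one' (x := (⟨w, hw⟩ : Z)))
  have s1 : ∀ n : ℕ, σ ^ n = 1 → 3 ∣ n := fun n hn => h.so ▸ orderOf_dvd_of_pow_eq_one hn
  rcases powL h (mul_mem h.sL (h.ZL hw)) with k | k | k
  · have : (σ * w) ^ 4 = 1 := by rw [show 4 = 2 * 2 from rfl, pow_mul, k, one_pow]
    rw [c.mul_pow, w4, mul_one] at this
    exact absurd (s1 4 this) (by norm_num)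
  · rw [c.mul_pow, s3, one_mul] at k
    rw [pow_succ, k, one_mul] at w4
    exact w4
  · have : (σ * w) ^ 20 = 1 := by rw [show 20 = 5 * 4 from rfl, pow_mul, k, one_pow]
    rw [c.mul_pow, show 20 = 4 * 5 from rfl, pow_mul w, w4, one_pow, mul_one] at this
    exact absurd (s1 _ this) (by norm_num)

/-- `σ` is irreducible on `Z`. -/
theorem irr (h : A5C t σ Λ O Z) {W : Subgroup X} (hW : σ ∈ N[W]) {w : X} (hw : w ∈ W) (hz : w ∈ Z)
    (h1 : w ≠ 1) : Z ≤ W := by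
  have d : Nat.card (W ⊓ Z : Subgroup X) ∣ 2 ^ 2 := by
    have := card_dvd_of_le (inf_le_right : W ⊓ Z ≤ Z)
    rwa [h.cZ] at this
  obtain ⟨k, hk, e⟩ := (Nat.dvd_prime_pow Nat.prime_two).1 d
  interval_cases k
  · rw [pow_zero, card_eq_one] at e
    exact absurd (mem_bot.1 (e ▸ (⟨hw, hz⟩ : w ∈ W ⊓ Z))) h1
  · exfalso
    obtain ⟨y, -, hy⟩ := (Nat.card_eq_two_iff' (1 : (W ⊓ Z : Subgroup X))).1 e
    have m : σ * w * σ⁻¹ ∈ W ⊓ Z :=
      ⟨(mem_normalizer_iff.1 hW w).1 hw, (mem_normalizer_iff.1 h.sZ w).1 hz⟩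
    have a1 := hy ⟨w, hw, hz⟩ fun k => h1 (congrArg Subtype.val k)
    have a2 := hy ⟨_, m⟩ fun k => h1 (by simpa using congrArg Subtype.val k)
    have a3 : σ * w * σ⁻¹ = w := congrArg Subtype.val (a2.trans a1.symm)
    exact h1 (fpf h hz (mul_inv_eq_iff_eq_mul.1 a3))
  · rw [← eq_of_le_of_card_ge (inf_le_right : W ⊓ Z ≤ Z) (by rw [e, h.cZ]; norm_num)]
    exact inf_le_left

/-- A nontrivial subgroup of `P` normalised by `t` and `σ` contains `Z`. -/
theorem le_of_inv (h : A5C t σ Λ O Z) (hP : IV t σ Z P) {W : Subgroup X} (hW : W ≤ P)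
    (ht : t ∈ N[W]) (hs : σ ∈ N[W]) (hne : W ≠ ⊥) : Z ≤ W := by
  have : Fact (Nat.Prime 2) := ⟨Nat.prime_two⟩
  obtain ⟨z, hz, h1, e⟩ := H5.exists_ne_one_mem_centralizer_of_isPGroup (two_t h)
    (hP.two.to_le hW) hne (zpowers_le_of_mem ht)
  exact irr h hs hz (cent_t h hP (hW hz) (e t (mem_zpowers t)).symm) h1

omit [Finite X] in
theorem norm_cen {g : X} (hg : g ∈ N[P]) : g ∈ N[P ⊓ C[P]] := by
  have k : ∀ g ∈ N[P], ∀ x ∈ P ⊓ C[P], g * x * g⁻¹ ∈ P ⊓ C[P] := fun g hg x hx =>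
    ⟨(mem_normalizer_iff.1 hg x).1 hx.1, fun y hy => by
      have := hx.2 _ ((mem_normalizer_iff''.1 hg y).1 hy)
      calc y * (g * x * g⁻¹) = g * (g⁻¹ * y * g * x) * g⁻¹ := by group
        _ = g * x * g⁻¹ * y := by rw [this]; group⟩
  exact mem_normalizer_iff.2 fun x => ⟨k g hg x, fun hx => by
    simpa [mul_assoc] using k _ (inv_mem hg) _ hx⟩

theorem sp_of (h : A5C t σ Λ O Z) (hP : IV t σ Z P) (h64 : Nat.card P = 64)
    (h4 : Nat.card (P ⊓ C[P] : Subgroup X) = 4) (hsq : ∀ x ∈ P, x * x ∈ C[P]) : Sp Z P := by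
  have h1 : Z ≤ P ⊓ C[P] := le_of_inv h hP inf_le_left (norm_cen hP.tN) (norm_cen hP.sN)
    fun e => by rw [e, card_bot] at h4; omega
  have h2 : Z = P ⊓ C[P] := eq_of_le_of_card_ge h1 (by rw [h4, h.cZ])
  exact ⟨h64, h1.trans inf_le_right, h2.ge, fun x hx => h2.ge ⟨mul_mem hx hx, hsq x hx⟩⟩

omit [Finite X] in
theorem map_center : (center P).map P.subtype = P ⊓ C[P] := by
  ext x
  constructor
  · rintro ⟨x, hx, rfl⟩
    exact ⟨x.2, fun y hy => congrArg Subtype.val (mem_center_iff.1 hx ⟨y, hy⟩)⟩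
  · rintro ⟨h1, h2⟩
    exact ⟨⟨x, h1⟩, mem_center_iff.2 fun y => Subtype.ext (h2 y y.2), rfl⟩

theorem spStmt : SpStmt.{u} := by
  intro X _ _ t σ Λ O Z P h hP hm
  rcases hm with ⟨F, _, _, hF, S, ⟨e⟩⟩ | ⟨F, _, _, hF, S, ⟨e⟩⟩
  · have : CharP F 2 := charP_of_card_eq_prime_pow (p := 2) (f := 2) (by rw [hF]; norm_num)
    obtain ⟨y, k, rfl⟩ := H82.exists_co_of_psl S e
    have hc : Nat.card F = 4 := by rw [Nat.card_eq_fintype_card, hF]
    have m : ∀ a b c, y a b c ∈ k.sub ⊤ ⊤ := fun a b c => k.mem_sub.2 ⟨trivial, trivial⟩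
    have e1 : k.sub ⊤ ⊤ ⊓ C[k.sub ⊤ ⊤] = k.sub ⊥ ⊥ := by
      ext g
      constructor
      · rintro ⟨⟨a, -, b, -, c, rfl⟩, h2⟩
        have f1 := h2 _ (m 1 0 0)
        have f2 := h2 _ (m 0 1 0)
        rw [k.mul, k.mul, k.eq_iff] at f1 f2
        exact k.mem_sub.2 ⟨by simpa using f2.2.2, by simpa using f1.2.2⟩
      · rintro ⟨a, rfl, b, rfl, c, rfl⟩
        refine ⟨m _ _ _, ?_⟩
        rintro _ ⟨a, -, b, -, c', rfl⟩
        rw [k.mul, k.mul]
        congr 1 <;> ring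
    refine sp_of h hP (by rw [k.card_top, hc]; norm_num) (by rw [e1, k.card_bot, hc]) ?_
    rintro _ ⟨a, -, b, -, c, rfl⟩
    refine (e1.ge ?_).2
    rw [k.mul]
    exact k.mem_sub.2 ⟨CharTwo.add_self_eq_zero a, CharTwo.add_self_eq_zero b⟩
  · obtain ⟨h1, h2, -, -, -, h3⟩ := S1248.result hF S
    refine sp_of h hP (by rw [Nat.card_congr e.toEquiv, h1]) ?_ fun x hx => ?_
    · rw [← map_center, card_map_of_injective P.subtype_injective,
        Nat.card_congr (centerCongr e).toEquiv, h2.card_four]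
    · have := h3 (e ⟨x, hx⟩ : (S : Subgroup (PSU 3 F 4)))
      rw [← QuotientGroup.mk_pow, QuotientGroup.eq_one_iff, mem_center_iff] at this
      intro y hy
      have k := this (e ⟨y, hy⟩)
      rw [← map_pow, ← map_mul, ← map_mul] at k
      have k' := congrArg Subtype.val (e.injective k)
      simpa [sq] using k'

end Cfsg.Agent.H86.S94
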