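import Cfsg.Agent.H35.L3Defs
import Cfsg.Agent.H83.Base

/-! The doubled root subgroups for a standard subgroup of type `L₃(q)`. -/

set_option autoImplicit false
set_option linter.unusedSectionVars false

namespace Cfsg.Agent.H86.L3

open Cfsg Cfsg.Agent.H63 Cfsg.Agent.H63.SL Cfsg.Agent.H35.L3 Subgroup
open scoped commutatorElement

universe u v

variable {F : Type v} [Field F] {G : Type u} [Group G] {x : Fin 3 → Fin 3 → F → G}

theorem perm3 : ∀ i j k : Fin 3, i ≠ j → j ≠ k → i ≠ k →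
    ∃ π : Equiv.Perm (Fin 3), π 0 = i ∧ π 1 = j ∧ π 2 = k := by decide

theorem third : ∀ i j : Fin 3, i ≠ j → ∃ k, j ≠ k ∧ i ≠ k := by decide

theorem row_perm (π : Equiv.Perm (Fin 3)) (i : Fin 3) :
    Row (fun i j => x (π i) (π j)) i = Row x (π i) :=
  congrArg Subgroup.closure (Set.ext fun _ => ⟨fun ⟨j, h, a, e⟩ => ⟨π j, π.injective.ne h, a, e⟩,
    fun ⟨j, h, a, e⟩ => ⟨π.symm j, fun c => h (by simp [c]), a, by simpa using e⟩⟩)

theorem col_perm (π : Equiv.Perm (Fin 3)) (i : Fin 3) :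
    Col (fun i j => x (π i) (π j)) i = Col x (π i) :=
  congrArg Subgroup.closure (Set.ext fun _ => ⟨fun ⟨j, h, a, e⟩ => ⟨π j, π.injective.ne h, a, e⟩,
    fun ⟨j, h, a, e⟩ => ⟨π.symm j, fun c => h (by simp [← c]), a, by simpa using e⟩⟩)

theorem hat_perm (π : Equiv.Perm (Fin 3)) (t : G) (i j : Fin 3) :
    HatS (fun i j => x (π i) (π j)) t i j = HatS x t (π i) (π j) := by
  simp only [HatS, Y3, row_perm, col_perm]

theorem row_fl (i : Fin 3) : Row (fl x true) i = Col x i.rev :=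
  congrArg Subgroup.closure (Set.ext fun _ => ⟨fun ⟨j, h, a, e⟩ => ⟨j.rev, Fin.rev_injective.ne h.symm, a, e⟩,
    fun ⟨j, h, a, e⟩ => ⟨j.rev, fun c => h (by simp [c]), a, by simpa [fl] using e⟩⟩)

theorem col_fl (i : Fin 3) : Col (fl x true) i = Row x i.rev :=
  congrArg Subgroup.closure (Set.ext fun _ => ⟨fun ⟨j, h, a, e⟩ => ⟨j.rev, Fin.rev_injective.ne h.symm, a, e⟩,
    fun ⟨j, h, a, e⟩ => ⟨j.rev, fun c => h (by simp [← c]), a, by simpa [fl] using e⟩⟩)

theorem hat_fl (t : G) (i j : Fin 3) : HatS (fl x true) t i j = HatS x t j.rev i.rev := by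
  simp only [HatS, Y3, row_fl, col_fl, sup_comm (Col x _)]
  rfl

theorem mem_row {i j : Fin 3} (h : i ≠ j) (a : F) : x i j a ∈ Row x i := subset_closure ⟨j, h, a, rfl⟩

theorem mem_col {i j : Fin 3} (h : i ≠ j) (a : F) : x i j a ∈ Col x j := subset_closure ⟨i, h, a, rfl⟩

theorem mem_all {i j : Fin 3} (h : i ≠ j) (a : F) : x i j a ∈ All x :=
  subset_closure ⟨i, j, h, a, rfl⟩

theorem cen_Y {p : G} {i k : Fin 3} : p ∈ C[Y3 x i k] ↔
    (∀ j, i ≠ j → ∀ a, Commute (x i j a) p) ∧ ∀ j, j ≠ k → ∀ a, Commute (x j k a) p := by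
  refine ⟨fun h => ⟨fun j hj a => h _ (mem_sup_left (mem_row hj a)),
    fun j hj a => h _ (mem_sup_right (mem_col hj a))⟩, fun h y hy => ?_⟩
  refine mem_centralizer_singleton_iff.1 ((sup_le ((closure_le _).2 ?_) ((closure_le _).2 ?_) :
    Y3 x i k ≤ C1[p]) hy)
  · rintro _ ⟨j, hj, a, rfl⟩; exact mem_centralizer_singleton_iff.2 (h.1 j hj a)
  · rintro _ ⟨j, hj, a, rfl⟩; exact mem_centralizer_singleton_iff.2 (h.2 j hj a)

theorem x_sq (st : St3 x) {i j : Fin 3} (h : i ≠ j) (a : F) : x i j a * x i j a = 1 := by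
  have h0 := st.add i j h 0 0
  rw [add_zero, left_eq_mul] at h0
  rw [← st.add i j h, ← two_mul, st.two, zero_mul, h0]

theorem x_zero (st : St3 x) {i j k : Fin 3} (h1 : i ≠ j) (h2 : j ≠ k) (h3 : i ≠ k) {a : F}
    (h : Commute (x i j a) (x j k 1)) : x i j a = 1 := by
  have := st.rel i j k h1 h2 h3 a 1
  rw [commutatorElement_eq_one_iff_commute.2 h, mul_one] at this
  rw [st.inj i k h3 a this.symm, ← x_sq st h1 0, ← st.add i j h1, add_zero]

theorem Y_le {L : Subgroup G} (m : M3 L x) (i k : Fin 3) : Y3 x i k ≤ L :=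
  m.gen ▸ sup_le (closure_mono fun _ ⟨j, h, e⟩ => ⟨i, j, h, e⟩)
    (closure_mono fun _ ⟨j, h, e⟩ => ⟨j, k, h, e⟩)

theorem start_perm {L : Subgroup G} {t : G} (m : M3 L x) (P : Pin3 x) (T : Tc L t)
    (π : Equiv.Perm (Fin 3)) (h : Start3 x t) : Start3 (fun i j => x (π i) (π j)) t := by
  obtain ⟨p, hp, c, c0, e⟩ := h
  obtain ⟨n, hn, hπ⟩ := P.wey π
  have k : ∀ i j, i ≠ j → ∀ a, Commute (x i j a) p → Commute (x (π i) (π j) a) (n * p * n⁻¹) :=
    fun i j h a c => hπ i j h a ▸ (Commute.conj_iff n).2 c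
  refine ⟨n * p * n⁻¹, cen_Y.2 ⟨fun j h a => k _ _ h a ((cen_Y.1 hp).1 j h a),
    fun j h a => k _ _ h a ((cen_Y.1 hp).2 j h a)⟩, c, c0, ?_⟩
  have h1 : n * t * n⁻¹ = t := by rw [T.tc n (m.gen ▸ hn), mul_inv_cancel_right]
  change _ = t * x (π 0) (π 2) c
  rw [← hπ 0 2 (by decide), ← h1, conj_mul, conj_mul, ← e]
  group

theorem start_fl {t : G} (h : Start3 x t) : Start3 (fl x true) t := by
  obtain ⟨p, hp, c⟩ := h
  refine ⟨p, ?_, c⟩
  rw [U3, Y3, row_fl, col_fl, sup_comm]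
  exact hp

/-- The facts given by one doubled row. -/
structure One (L : Subgroup G) (t : G) (V : Subgroup G) (H1 H2 : Set G) (a b : F → G) : Prop where
  sub : ∀ p, p ∈ closure H1 ↔ p ∈ H1
  le : ∀ s, a s ∈ H1
  surj : ∀ s, ∃ p ∈ H1, p * t * p⁻¹ = t * a s
  fix : ∀ p ∈ H1, Commute p t → ∃ s, p = a s
  card : Nat.card (closure H1) = Nat.card F ^ 2
  odd : ∀ k ∈ C[L], Commute k t → Odd (orderOf k) → ∀ p ∈ H1, Commute k p
  row : ∀ p ∈ H1, ∀ p', p' ∈ H1 ∨ p' ∈ H2 → Commute p p'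
  br : ∀ p ∈ H1, ∀ s, ⁅p, b s⁆ ∈ H2
  u : Uniq V (closure H1 ⊔ closure H2) t

theorem one0 [Finite G] {L W : Subgroup G} {t : G} (m : M3 L x) (P : Pin3 x) (K : KA L x)
    (T : Tc L t) (h : HatRow L x t W) :
    One L t (Row x 0) (HatS x t 0 1) (HatS x t 0 2) (x 0 1) (x 1 2) := by
  have st := m.st
  have tC : ∀ i j, t ∈ C[Y3 x i j] := fun i j y hy => T.tc y (Y_le m i j hy)
  have tW : t ∉ W := fun c => K.tn t T (Y_le m 0 0 (mem_sup_left (h.fix t c (Commute.refl t))))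
  have vX : ∀ j, 0 ≠ j → ∀ v ∈ Row x 0, v ∈ C[Y3 x 0 j] → ∃ a, v = x 0 j a := fun j hj v hv hc => by
    obtain ⟨k, h1, h2⟩ := third 0 j hj
    obtain ⟨a, b, rfl⟩ := (P.memR 0 k j h2 h1.symm hj v).1 hv
    refine ⟨b, ?_⟩
    rw [x_zero st h2 h1.symm hj (by
      simpa using (((cen_Y.1 hc).2 k h1.symm 1).mul_right
        (st.col k 0 j h1.symm hj 1 b).inv_right).symm), one_mul]
  have mem : ∀ j, 0 ≠ j → ∀ p, p ∈ HatS x t 0 j ↔ p ∈ W ⊓ C[Y3 x 0 j] := fun j hj p => by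
    refine ⟨fun ⟨h1, h2, ⟨a, h3⟩, h4⟩ => ⟨(h.uniq p (fun y hy => h1 y (mem_sup_left hy)) h2 (by
      rw [h3, inv_mul_cancel_left]; exact mem_row hj a)).resolve_right fun c => ?_, h1⟩,
      fun ⟨h1, h2⟩ => ⟨h2, h.sq p h1, ?_, ?_⟩⟩
    · obtain ⟨b, e⟩ := vX j hj _ c (mul_mem (inv_mem (tC 0 j)) h1)
      exact h4 ⟨b, by rw [← e, mul_inv_cancel_left]⟩
    · obtain ⟨b, e⟩ := vX j hj _ (h.mov p h1)
        (mul_mem (inv_mem (tC 0 j)) (mul_mem (mul_mem h2 (tC 0 j)) (inv_mem h2)))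
      exact ⟨b, by rw [← e, mul_inv_cancel_left]⟩
    · rintro ⟨a, rfl⟩
      exact tW ((mul_mem_cancel_right (h.le (mem_row hj a))).1 h1)
  have cl : ∀ j, 0 ≠ j → closure (HatS x t 0 j) = W ⊓ C[Y3 x 0 j] := fun j hj => by
    rw [← closure_eq (W ⊓ _)]; exact congrArg Subgroup.closure (Set.ext (mem j hj))
  have m1 := mem 1 (by decide)
  have m2 := mem 2 (by decide)
  have le : ∀ s, x 0 1 s ∈ HatS x t 0 1 := fun s => (m1 _).2 ⟨h.le (mem_row (by decide) s),
    cen_Y.2 ⟨fun j hj a => st.row 0 j 1 hj (by decide) a s,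
      fun j hj a => st.col j 0 1 hj (by decide) a s⟩⟩
  have fix : ∀ p ∈ HatS x t 0 1, Commute p t → ∃ s, p = x 0 1 s := fun p hp c =>
    vX 1 (by decide) p (h.fix p ((m1 p).1 hp).1 c) hp.1
  have surj : ∀ s, ∃ p ∈ HatS x t 0 1, p * t * p⁻¹ = t * x 0 1 s := fun s => by
    obtain ⟨p, hp, e⟩ := h.surj _ (mem_row (show (0 : Fin 3) ≠ 1 by decide) s)
    obtain ⟨p1, h1, p2, h2, rfl⟩ := h.dec p hp
    obtain ⟨a, ha⟩ := ((m1 _).2 h1).2.2.1
    obtain ⟨b, hb⟩ := ((m2 _).2 h2).2.2.1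
    refine ⟨p1, (m1 _).2 h1, ?_⟩
    have e1 : t * x 0 1 s = t * x 0 1 a * x 0 2 b :=
      calc _ = p1 * (p2 * t * p2⁻¹) * p1⁻¹ := by rw [← e]; group
        _ = p1 * t * p1⁻¹ * (p1 * x 0 2 b * p1⁻¹) := by rw [hb]; group
        _ = _ := by rw [ha, ← ((cen_Y.1 h1.2).1 2 (by decide) b).eq, mul_inv_cancel_right]
    rw [mul_assoc, mul_right_inj] at e1
    have e2 : x 0 1 (a + s) = x 0 2 b := by
      rw [st.add 0 1 (by decide), e1, ← mul_assoc, x_sq st (by decide), one_mul]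
    have e3 := x_zero st (k := 2) (by decide) (by decide) (by decide)
      (e2 ▸ st.col 0 1 2 (by decide) (by decide) b 1)
    rw [ha, e1, ← e2, e3, mul_one]
  have ab : ∀ p ∈ W, ∀ q ∈ W, Commute p q := fun p hp q hq => by
    have := inv_eq_of_mul_eq_one_right (h.sq _ (mul_mem hp hq))
    rw [mul_inv_rev, inv_eq_of_mul_eq_one_right (h.sq p hp),
      inv_eq_of_mul_eq_one_right (h.sq q hq)] at this
    exact this.symm
  refine ⟨fun p => by rw [cl 1 (by decide), m1], le, surj, fix, ?_,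
    fun k h1 h2 h3 p hp => (h.odd k h1 h2 h3 p ((m1 p).1 hp).1).symm,
    fun p hp q hq => ab p ((m1 p).1 hp).1 q (hq.elim (fun c => ((m1 q).1 c).1) fun c => ((m2 q).1 c).1),
    fun p hp s => (m2 _).2 ⟨?_, h.br p ((m1 p).1 hp).1 hp.1 s⟩, fun p h1 h2 h3 => ?_⟩
  · have sub : ∀ p : closure (HatS x t 0 1), p.1 ∈ HatS x t 0 1 := fun p => (m1 _).2 (cl 1 (by decide) ▸ p.2)
    let θ : closure (HatS x t 0 1) →* G := MonoidHom.mk' (fun p => t⁻¹ * (p * t * p.1⁻¹)) fun p q => by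
      obtain ⟨b, hb⟩ := (sub q).2.2.1
      calc _ = t⁻¹ * (p * (q * t * q.1⁻¹) * p.1⁻¹) := by rw [coe_mul]; group
        _ = t⁻¹ * (p * t * p.1⁻¹) * (p * x 0 1 b * p.1⁻¹) := by rw [hb]; group
        _ = _ := by rw [hb, ← ((cen_Y.1 (sub p).1).1 1 (by decide) b).eq, mul_inv_cancel_right,
          inv_mul_cancel_left]
    have mX := P.memX 0 1 (by decide)
    have e1 : θ.range = X3 x 0 1 := by
      ext g
      rw [mX]
      refine ⟨fun ⟨p, e⟩ => ?_, fun ⟨a, e⟩ => ?_⟩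
      · obtain ⟨b, hb⟩ := (sub p).2.2.1
        exact ⟨b, by rw [← e, ← inv_mul_cancel_left t (x 0 1 b), ← hb]; rfl⟩
      · obtain ⟨p, hp, hb⟩ := surj a
        exact ⟨⟨p, subset_closure hp⟩, by rw [e, ← inv_mul_cancel_left t (x 0 1 a), ← hb]; rfl⟩
    have e2 : θ.ker = (X3 x 0 1).subgroupOf _ := by
      ext p
      rw [mem_subgroupOf, mX, MonoidHom.mem_ker]
      change t⁻¹ * (p * t * p.1⁻¹) = 1 ↔ _
      rw [inv_mul_eq_one, eq_mul_inv_iff_mul_eq]
      exact ⟨fun c => fix p (sub p) c.symm,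
        fun ⟨a, e⟩ => e ▸ (T.tc _ (m.gen ▸ mem_all (by decide) a)).symm⟩
    rw [← θ.ker.card_mul_index, index_ker, e1, e2, Nat.card_congr (subgroupOfEquivOfLe fun g hg => by
      obtain ⟨a, rfl⟩ := (mX g).1 hg
      exact subset_closure (le a)).toEquiv, P.cardX 0 1 (by decide), pow_two]
  · set b := x 1 2 s with hb
    have bi : b⁻¹ = b := inv_eq_of_mul_eq_one_right (x_sq st (by decide) s)
    have bt : Commute b t := T.tc _ (m.gen ▸ mem_all (by decide) s)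
    have nV : ∀ v ∈ Row x 0, b * v * b⁻¹ ∈ Row x 0 := fun v hv => by
      obtain ⟨a, c, rfl⟩ := (P.memR 0 1 2 (by decide) (by decide) (by decide) v).1 hv
      rw [show b * (x 0 1 a * x 0 2 c) * b⁻¹ = ⁅x 0 1 a, b⁆⁻¹ * x 0 1 a * (b * x 0 2 c * b⁻¹) by
        rw [commutatorElement_def]; group, (st.col 1 0 2 (by decide) (by decide) s c).eq,
        mul_inv_cancel_right, st.rel 0 1 2 (by decide) (by decide) (by decide)]
      exact mul_mem (mul_mem (inv_mem (mem_row (by decide) _)) (mem_row (by decide) _))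
        (mem_row (by decide) _)
    have nV' : ∀ v ∈ Row x 0, b⁻¹ * v * b ∈ Row x 0 := fun v hv => by
      simpa only [bi] using nV v hv
    have pW := ((m1 p).1 hp).1
    rw [show ⁅p, b⁆ = p * (b * p * b⁻¹)⁻¹ by rw [commutatorElement_def]; group]
    refine W.mul_mem pW (W.inv_mem ((h.uniq _ (fun y hy => ?_) (by rw [conj_mul, hp.2.1]; group)
      ?_).resolve_right fun c => tW ?_))
    · calc _ = b * (b⁻¹ * y * b * p) * b⁻¹ := by group
        _ = _ := by rw [hp.1 _ (mem_sup_left (nV' y hy))]; group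
    · convert nV _ (h.mov p pW) using 1
      calc _ = t⁻¹ * b * p * (b⁻¹ * t * b) * p⁻¹ * b⁻¹ := by group
        _ = _ := by rw [← bt.inv_right.eq, bt.inv_left.eq]; group
    · have := h.le (nV' _ c)
      rw [show b⁻¹ * (t⁻¹ * (b * p * b⁻¹)) * b = b⁻¹ * (t⁻¹ * b) * p by group, ← bt.inv_right.eq,
        inv_mul_cancel_left] at this
      exact inv_mem_iff.1 ((W.mul_mem_cancel_right pW).1 this)
  · refine (h.uniq p h1 h2 h3).imp_left fun c => ?_
    obtain ⟨p1, a, p2, b, rfl⟩ := h.dec p c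
    exact mul_mem_sup (subset_closure ((m1 _).2 a)) (subset_closure ((m2 _).2 b))

theorem oneG (pin : PinStmt3.{u, v}) (ka : KAStmt.{u, v}) (row : RowStmt.{u, v}) [Finite F]
    [Finite G] {L : Subgroup G} {t : G} (m : M3 L x) (T : Tc L t) (r : R2 L t) (s : Start3 x t)
    {i j k : Fin 3} (h1 : i ≠ j) (h2 : j ≠ k) (h3 : i ≠ k) :
    One L t (Row x i) (HatS x t i j) (HatS x t i k) (x i j) (x j k) := by
  obtain ⟨π, rfl, rfl, rfl⟩ := perm3 i j k h1 h2 h3
  have m' := (ka L x m).perm π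
  obtain ⟨W, hW⟩ := row L _ m' t T r (start_perm m (pin x m.st) T π s)
  simpa only [row_perm, hat_perm] using one0 m' (pin _ m'.st) (ka L _ m') T hW

theorem hat (pin : PinStmt3.{u, v}) (ka : KAStmt.{u, v}) (row : RowStmt.{u, v}) :
    HatStmt3.{u, v} := by
  intro F _ _ G _ _ L x m t T r s
  have A := fun {i j k} => oneG pin ka row m T r s (i := i) (j := j) (k := k)
  have B : ∀ {i j k : Fin 3}, i ≠ j → j ≠ k → i ≠ k →
      One L t (Col x k) (HatS x t j k) (HatS x t i k) (x j k) (x i j) := fun {i j k} h1 h2 h3 => by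
    simpa only [row_fl, hat_fl, fl, if_true, Fin.rev_rev] using
      oneG pin ka row (ka L x m).flip T r (start_fl s) (Fin.rev_injective.ne h2.symm)
        (Fin.rev_injective.ne h1.symm) (Fin.rev_injective.ne h3.symm)
  have A' : ∀ i j, i ≠ j → ∃ k, One L t (Row x i) (HatS x t i j) (HatS x t i k) (x i j) (x j k) :=
    fun i j h => (third i j h).imp fun _ c => A h c.1 c.2
  have sub : ∀ i j, i ≠ j → ∀ p, p ∈ closure (HatS x t i j) ↔ p ∈ HatS x t i j :=
    fun i j h => (A' i j h).elim fun _ c => c.sub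
  refine ⟨fun i j => closure (HatS x t i j), sub,
    fun i j h a => (A' i j h).elim fun _ c => subset_closure (c.le a),
    fun i j h a => (A' i j h).elim fun _ c => (c.surj a).imp fun _ d => ⟨subset_closure d.1, d.2⟩,
    fun i j h p hp => (A' i j h).elim fun _ c => c.fix p ((c.sub p).1 hp),
    fun i j h => (A' i j h).elim fun _ c => c.card,
    fun k a b d i j h p hp => (A' i j h).elim fun _ c => c.odd k a b d p ((c.sub p).1 hp),
    fun i j k h1 h2 p hp q hq => ?_, fun i j k h1 h2 p hp q hq => ?_,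
    fun i j k h1 h2 h3 p hp b => subset_closure ((A h1 h2 h3).br p ((sub _ _ h1 p).1 hp) b),
    fun i j k h1 h2 h3 p hp b => ?_, (A (by decide) (by decide) (by decide)).u,
    (B (by decide) (by decide) (by decide)).u⟩
  · rw [sub _ _ h1] at hp
    rw [sub _ _ h2] at hq
    by_cases e : j = k
    · exact (A' i j h1).elim fun _ c => c.row p hp q (Or.inl (e ▸ hq))
    · exact (A h1 e h2).row p hp q (Or.inr hq)
  · rw [sub _ _ h1] at hp
    rw [sub _ _ h2] at hq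
    by_cases e : j = i
    · exact (A' i k h1).elim fun _ c => c.row p hp q (Or.inl (e ▸ hq))
    · exact (B e h1 h2).row p hp q (Or.inr hq)
  · rw [← commutatorElement_inv]
    exact inv_mem (subset_closure ((B h1 h2 h3).br p ((sub _ _ h2 p).1 hp) b))

theorem kdec [Finite G] {L : Subgroup G} {t k : G} (r2 : R2 L t) (hk : k ∈ C[L])
    (hkt : Commute k t) : ∃ k0 ∈ C[L], Commute k0 t ∧ Odd (orderOf k0) ∧ (k = k0 ∨ k = t * k0) := by
  have : Fact (Nat.Prime 2) := ⟨Nat.prime_two⟩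
  obtain ⟨a, b, ⟨m, rfl⟩, ⟨n, rfl⟩, e, ha, hb⟩ := H83.exists_p_parts (p := 2) k
  refine ⟨_, zpow_mem hk n, hkt.zpow_left n, Nat.coprime_two_right.1 hb, ?_⟩
  rcases r2 _ (zpow_mem hk m) (hkt.zpow_left m) ha with e' | e'
  · left; simpa [e'] using e
  · right; simpa [e'] using e

theorem com (ka : KAStmt.{u, v}) : ComStmt3.{u, v} := by
  intro F _ _ G _ _ L x m t Xh T r2 H i j k h1 h2 h3 p hp q hq
  have st := m.st
  have tt : t * t = 1 := by rw [← pow_two, ← T.t2, pow_orderOf_eq_one]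
  have xL : ∀ {i j}, i ≠ j → ∀ a, x i j a ∈ L := fun h a => m.gen ▸ mem_all h a
  obtain ⟨p1, p2, ⟨r, p3⟩, -⟩ := (H.mem i j h1 p).1 hp
  obtain ⟨q1, q2, ⟨s, q3⟩, -⟩ := (H.mem j k h2 q).1 hq
  have pa := (cen_Y.1 p1).1
  have qb := (cen_Y.1 q1).2
  have Z := fun z hz => (H.mem i k h3 z).1 hz
  have za := fun z hz => (cen_Y.1 (Z z hz).1).1 j h1
  have zb := fun z hz => (cen_Y.1 (Z z hz).1).2 j h2
  have zp := H.row i j k h1 h3 p hp
  have zq := fun z hz => (H.col i j k h3 h2 z hz q hq).symm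
  set g := p * q with hg
  have e0 : ⁅p, q⁆ = g * g := by
    rw [commutatorElement_def, inv_eq_of_mul_eq_one_right p2, inv_eq_of_mul_eq_one_right q2, hg]
    group
  have zg : ∀ z ∈ Xh i k, g * z * g⁻¹ = z := fun z hz => by
    rw [((zp z hz).mul_left (zq z hz)).eq, mul_inv_cancel_right]
  have ga : ∀ a, ∃ z ∈ Xh i k, g * x i j a * g⁻¹ = z * x i j a := fun a => by
    have hz := inv_mem (H.br' i j k h1 h2 h3 q hq a)
    refine ⟨_, hz, ?_⟩
    calc _ = p * ⁅x i j a, q⁆⁻¹ * p⁻¹ * (p * x i j a * p⁻¹) := by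
          rw [hg, commutatorElement_def]; group
      _ = _ := by rw [(zp _ hz).eq, ← (pa j h1 a).eq, mul_inv_cancel_right, mul_inv_cancel_right]
  have gb : ∀ a, g * x j k a * g⁻¹ = ⁅p, x j k a⁆ * x j k a := fun a =>
    calc _ = p * (q * x j k a * q⁻¹) * p⁻¹ := by rw [hg]; group
      _ = _ := by rw [← (qb j h2 a).eq, mul_inv_cancel_right, commutatorElement_def]; group
  have cU : ∀ y, (∃ z ∈ Xh i k, g * y * g⁻¹ = z * y) → Commute y (g * g) := by
    rintro y ⟨z, hz, e⟩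
    have : g * g * y * (g * g)⁻¹ = y :=
      calc _ = g * (g * y * g⁻¹) * g⁻¹ := by group
        _ = g * z * g⁻¹ * (g * y * g⁻¹) := by nth_rewrite 1 [e]; group
        _ = _ := by rw [zg z hz, e, ← mul_assoc, (Z z hz).2.1, one_mul]
    exact (mul_inv_eq_iff_eq_mul.1 this).symm
  have cc : ∀ a, Commute (x i k a) (g * g) := fun a =>
    cU _ ⟨1, one_mem _, by rw [zg _ (H.le i k h3 a), one_mul]⟩
  have gU : g * g ∈ C[Y3 x i k] := by
    refine cen_Y.2 ⟨fun l hl a => ?_, fun l hl a => ?_⟩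
    · obtain rfl | rfl : l = j ∨ l = k := by omega
      exacts [cU _ (ga a), cc a]
    · obtain rfl | rfl : l = j ∨ l = i := by omega
      exacts [cU _ ⟨_, H.br i l k h1 h2 h3 p hp a, gb a⟩, cc a]
  obtain ⟨z, hz, e1⟩ : ∃ z ∈ Xh i k, g * g * t * (g * g)⁻¹ = t * z := by
    obtain ⟨z2, hz2, e2⟩ := ga r
    have hz1 := H.br i j k h1 h2 h3 p hp s
    have e3 := gb s
    have e4 : g * t * g⁻¹ = t * x i j r * (⁅p, x j k s⁆ * x j k s) :=
      calc _ = p * (q * t * q⁻¹) * p⁻¹ := by rw [hg]; group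
        _ = p * t * p⁻¹ * (⁅p, x j k s⁆ * x j k s) := by rw [q3, commutatorElement_def]; group
        _ = _ := by rw [p3]
    set z1 := ⁅p, x j k s⁆
    refine ⟨z1 * z2 * ⁅x i j r, x j k s⁆, mul_mem (mul_mem hz1 hz2)
      (st.rel i j k h1 h2 h3 r s ▸ H.le i k h3 _), ?_⟩
    calc _ = g * (g * t * g⁻¹) * g⁻¹ := by group
      _ = g * t * g⁻¹ * (g * x i j r * g⁻¹) * (g * z1 * g⁻¹ * (g * x j k s * g⁻¹)) := by
          nth_rewrite 1 [e4]; group
      _ = _ := by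
          rw [e4, e2, e3, zg z1 hz1, ← mul_assoc z1 z1, (Z z1 hz1).2.1, one_mul,
            commutatorElement_def, inv_eq_of_mul_eq_one_right (x_sq st h1 r),
            inv_eq_of_mul_eq_one_right (x_sq st h2 s)]
          simp only [mul_assoc, (za z1 hz1 r).left_comm, (zb z2 hz2 s).left_comm,
            (za z2 hz2 r).left_comm]
  obtain ⟨e, rfl⟩ := H.fix i k h3 z hz (by
    have := inv_eq_of_mul_eq_one_right (show t * z * (t * z) = 1 by rw [← e1, conj_mul, tt]; group)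
    rw [mul_inv_rev, inv_eq_of_mul_eq_one_right tt, inv_eq_of_mul_eq_one_right (Z z hz).2.1] at this
    exact this)
  obtain ⟨z0, hz0, e2⟩ := H.surj i k h3 e
  have ct : Commute (z0 * (g * g)) t := mul_inv_eq_iff_eq_mul.1 (show _ * t * (z0 * (g * g))⁻¹ = t from
    calc _ = z0 * (g * g * t * (g * g)⁻¹) * z0⁻¹ := by group
      _ = z0 * t * z0⁻¹ * (z0 * x i k e * z0⁻¹) := by rw [e1]; group
      _ = _ := by rw [e2, ← ((cen_Y.1 (Z z0 hz0).1).1 k h3 e).eq, mul_inv_cancel_right, mul_assoc,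
        x_sq st h3, mul_one])
  obtain ⟨c, κ, hκ, e3⟩ := (ka L x m).cY i k h3 _ (T.cN (mem_centralizer_singleton_iff.2 ct))
    (mul_mem (Z z0 hz0).1 gU)
  have κt : Commute κ t := by
    have := (Commute.inv_left (T.tc _ (xL h3 c))).mul_left (show Commute (x i k c * κ) t from e3 ▸ ct)
    rwa [inv_mul_cancel_left] at this
  have hw := mul_mem (inv_mem hz0) (H.le i k h3 c)
  have e5 : g * g = z0⁻¹ * x i k c * κ := by rw [mul_assoc z0⁻¹, ← e3, inv_mul_cancel_left]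
  generalize z0⁻¹ * x i k c = w at hw e5
  have wi := inv_eq_of_mul_eq_one_right (Z w hw).2.1
  have e6 : p * (g * g) * p⁻¹ = (g * g)⁻¹ := by
    rw [hg, mul_inv_rev, mul_inv_rev, inv_eq_of_mul_eq_one_right p2, inv_eq_of_mul_eq_one_right q2]
    calc _ = p * p * (q * p * q * p) := by group
      _ = _ := by rw [p2]; group
  obtain ⟨o, kL, kt, ho, e7⟩ := kdec r2 hκ κt
  have od := H.odd _ kL kt ho
  rcases e7 with e7 | e7 <;> rw [e7] at e5
  · rw [e5, ((zp w hw).mul_right (od i j h1 p hp).symm).eq, mul_inv_cancel_right,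
      mul_inv_rev, wi, ← (od i k h3 w hw).eq, mul_left_inj] at e6
    have : o = 1 := orderOf_eq_one_iff.1 (Nat.eq_one_of_dvd_coprimes (Nat.coprime_two_right.2 ho)
      dvd_rfl (orderOf_dvd_of_pow_eq_one (by rw [pow_two]; nth_rewrite 1 [e6]; group)))
    rw [e0, e5, this, mul_one]
    exact hw
  · obtain ⟨d, e8⟩ := (Z w hw).2.2.1
    have e9 : x i k d * x i j r * o = o⁻¹ := mul_left_cancel (a := t * w) <|
      calc _ = t * (w * x i k d) * x i j r * o := by group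
        _ = w * t * w⁻¹ * w * x i j r * o := by
          rw [e8, ← ((cen_Y.1 (Z w hw).1).1 k h3 d).eq]; group
        _ = p * w * p⁻¹ * (p * t * p⁻¹) * (p * o * p⁻¹) := by
          rw [(zp w hw).eq, ← (od i j h1 p hp).eq, p3]
          group
        _ = (g * g)⁻¹ := by rw [← e6, e5]; group
        _ = _ := by
          rw [e5, mul_inv_rev, mul_inv_rev, inv_eq_of_mul_eq_one_right tt, wi, mul_assoc,
            (kt.mul_right (od i k h3 w hw)).inv_left.eq]
    have e10 : x i j r = (x i k d)⁻¹ * (o * o)⁻¹ := by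
      rw [mul_inv_rev]; nth_rewrite 1 [← e9]; group
    have := x_zero st h1 h2 h3 (e10 ▸ (st.col i j k h3 h2 d 1).inv_left.mul_left
      (Commute.symm (C[L].inv_mem (mul_mem kL kL) _ (xL h2 1))))
    rw [this, mul_one] at p3
    obtain ⟨a, rfl⟩ := H.fix i j h1 p hp (mul_inv_eq_iff_eq_mul.1 p3)
    exact H.br' i j k h1 h2 h3 q hq a

theorem eqns : True := by
  have := @HatS.eq_1.{0, 0}
  have := @Y3.eq_1.{0, 0}
  have := @U3.eq_1.{0, 0}
  have := @fl.eq_1.{0, 0}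
  trivial

end Cfsg.Agent.H86.L3
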