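import Cfsg.Agent.H46.J1Defs
import Cfsg.Agent.H86.S94Sp
import Cfsg.Agent.S3157

/-! A standard subgroup of type `J₁`: the special group of order 64 is of type `L₃(4)`. -/

set_option autoImplicit false

namespace Cfsg.Agent.H86.S94

open Cfsg.Agent.H46.S94 Subgroup

universe u

local notation "C[" A "]" => Subgroup.centralizer (SetLike.coe A)
local notation "N[" A "]" => Subgroup.normalizer (SetLike.coe A)

/-- an element of order three of `GL₃(2)` is inverted by an involution -/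
theorem inv_aut' {V : Type*} [CommGroup V] [Finite V] (h2 : ∀ v : V, v * v = 1)
    (h8 : Nat.card V = 8) (r : MulAut V) (r3 : r * r * r = 1) (r1 : r ≠ 1) {z : V} (z1 : z ≠ 1)
    (rz : r z = z) : ∃ α : MulAut V, α z = z ∧ α * α = 1 ∧ α * r * α * r = 1 := by
  classical
  obtain ⟨v, hv⟩ : ∃ v, r v ≠ v := by
    by_contra k
    push Not at k
    exact r1 (MulEquiv.ext k)
  have c : ∀ a b : V, a * (a * b) = b := fun a b => by rw [← mul_assoc, h2, one_mul]
  have r3' : ∀ x, r (r (r x)) = x := fun x => DFunLike.congr_fun r3 x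
  obtain ⟨w, w1, ru⟩ : ∃ w : V, w ≠ 1 ∧ r (r w) = w * r w := by
    refine ⟨v * r v, fun e => hv (by rw [← c v (r v), e, mul_one]), ?_⟩
    simp only [map_mul, r3']
    rw [mul_assoc, c, mul_comm]
  obtain ⟨u, hu⟩ : ∃ u, u = r w := ⟨_, rfl⟩
  rw [← hu] at ru
  have u1 : u ≠ 1 := fun e => w1 (r.injective (by rw [← hu, e, map_one]))
  have uw : u ≠ w := fun e => w1 (by
    have := ru
    rw [e, h2] at this
    exact r.injective (by rw [this, map_one]))
  have zw : z ≠ w := fun e => uw (by rw [hu, ← e, rz])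
  let W : Subgroup V :=
    { carrier := {x | x = 1 ∨ x = z ∨ x = w ∨ x = z * w}
      one_mem' := Or.inl rfl
      mul_mem' := by
        rintro a b (rfl | rfl | rfl | rfl) (rfl | rfl | rfl | rfl) <;>
          simp [h2, mul_comm, mul_left_comm]
      inv_mem' := fun {a} ha => by rwa [inv_eq_of_mul_eq_one_right (h2 a)] }
  have mW : ∀ x, x ∈ W ↔ x = 1 ∨ x = z ∨ x = w ∨ x = z * w := fun x => Iff.rfl
  have cW : Nat.card W = 4 := by
    have e : (W : Set V) = ({1, z, w, z * w} : Finset V) := by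
      ext x; simp [mW]
    have zw1 : z * w ≠ 1 := fun e => zw (by rw [← c w z, mul_comm w z, e, mul_one])
    rw [← SetLike.coe_sort_coe, e, Nat.card_coe_set_eq, Set.ncard_coe_finset,
      Finset.card_insert_of_notMem (by simp [z1.symm, w1.symm, zw1.symm]),
      Finset.card_insert_of_notMem (by simp [zw, w1]),
      Finset.card_insert_of_notMem (by simp [z1]), Finset.card_singleton]
  have iW : W.index = 2 := by
    have := W.index_mul_card
    rw [cW, h8] at this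
    omega
  have zW : z ∈ W := Or.inr (Or.inl rfl)
  have wW : w ∈ W := Or.inr (Or.inr (Or.inl rfl))
  have uW : u ∉ W := by
    rintro (e | e | e | e)
    · exact u1 e
    · exact zw (r.injective (by rw [rz, ← hu, e]))
    · exact uw e
    · refine u1 (mul_left_cancel (a := w) ?_)
      rw [← ru, e, map_mul, rz, ← hu, e, c, mul_one]
  let f : V →* V := MonoidHom.mk' (fun x => if x ∈ W then x else x * w) fun a b => by
    by_cases ha : a ∈ W <;> by_cases hb : b ∈ W <;>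
      simp [mul_mem_iff_of_index_two iW, ha, hb, c, mul_comm, mul_left_comm]
  have f1 : ∀ x ∈ W, f x = x := fun x hx => if_pos hx
  have f2 : ∀ x ∉ W, f x = x * w := fun x hx => if_neg hx
  have ff : ∀ x, f (f x) = x := fun x => by
    by_cases hx : x ∈ W
    · rw [f1 x hx, f1 x hx]
    · rw [f2 x hx, map_mul, f2 x hx, f1 w wW, mul_assoc, h2, mul_one]
  let α : MulAut V := { f with invFun := f, left_inv := ff, right_inv := ff }
  have a : ∀ x, α x = f x := fun _ => rfl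
  refine ⟨α, f1 z zW, MulEquiv.ext ff, ?_⟩
  have bz : (α * r * α * r) z = z := by
    simp only [MulAut.mul_apply, a, rz, f1 z zW]
  have bw : (α * r * α * r) w = w := by
    simp only [MulAut.mul_apply, a]
    rw [← hu, f2 u uW, map_mul r, ru, ← hu, mul_assoc, h2, mul_one, f1 w wW]
  have bu : (α * r * α * r) u = u := by
    have e : f (w * u) = u := by rw [map_mul, f1 w wW, f2 u uW, mul_comm u, c]
    simp only [MulAut.mul_apply, a]
    rw [ru, e, ru, e]
  have bW : ∀ x ∈ W, (α * r * α * r) x = x := by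
    rintro x (rfl | rfl | rfl | rfl)
    exacts [map_one _, bz, bw, by rw [map_mul, bz, bw]]
  refine MulEquiv.ext fun x => ?_
  by_cases hx : x ∈ W
  · exact bW x hx
  · have : u * x ∈ W := by simp [mul_mem_iff_of_index_two iW, uW, hx]
    rw [← c u x, map_mul, bu, bW _ this]
    rfl

theorem inv_aut {V : Type*} [Group V] [Finite V] (h2 : ∀ v : V, v * v = 1)
    (h8 : Nat.card V = 8) (r : MulAut V) (r3 : r * r * r = 1) (r1 : r ≠ 1) {z : V} (z1 : z ≠ 1)
    (rz : r z = z) : ∃ α : MulAut V, α z = z ∧ α * α = 1 ∧ α * r * α⁻¹ * r = 1 := by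
  let : CommGroup V := { ‹Group V› with
    mul_comm := fun a b => by
      rw [← inv_eq_of_mul_eq_one_right (h2 (a * b)), mul_inv_rev,
        inv_eq_of_mul_eq_one_right (h2 a), inv_eq_of_mul_eq_one_right (h2 b)] }
  obtain ⟨α, h1, h3, h4⟩ := inv_aut' h2 h8 r r3 r1 z1 rz
  exact ⟨α, h1, h3, by rwa [inv_eq_of_mul_eq_one_right h3]⟩

/-- an action descends to a quotient -/
theorem exists_theta {A B M : Type*} [Group A] [Group B] [Group M] (κ : A →* B)
    (hs : Function.Surjective κ) (β : M →* MulAut A)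
    (hk : ∀ m a, κ a = 1 → κ (β m a) = 1) :
    ∃ θ : M →* MulAut B, ∀ m a, θ m (κ a) = κ (β m a) := by
  let f : M → B →* B := fun m =>
    κ.liftOfSurjective hs ⟨κ.comp (β m).toMonoidHom, fun a ha => hk m a ha⟩
  have hf : ∀ m a, f m (κ a) = κ (β m a) := fun m a =>
    κ.liftOfRightInverse_comp_apply _ _ _ a
  have k : ∀ m b, f m⁻¹ (f m b) = b := fun m b => by
    obtain ⟨a, rfl⟩ := hs b
    rw [hf, hf, map_inv, MulAut.inv_apply_self]
  let g : M → MulAut B := fun m =>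
    { f m with invFun := f m⁻¹, left_inv := k m, right_inv := fun b => by simpa using k m⁻¹ b }
  refine ⟨MonoidHom.mk' g fun m n => MulEquiv.ext fun b => ?_, hf⟩
  obtain ⟨a, rfl⟩ := hs b
  change f (m * n) (κ a) = f m (f n (κ a))
  rw [hf, hf, hf, map_mul, MulAut.mul_apply]

/-- an automorphism inverting `r` modulo inner automorphisms is adjusted to an involution -/
theorem exists_inv {P : Type*} [Group P] [Finite P] {r m : MulAut P} (r3 : r * r * r = 1)
    (r1 : r ≠ 1) (fp : ∀ y, r y = y → y = 1) (sq : ∀ y : P, y * y ∈ center P)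
    (h1 : ∃ a, m * m = MulAut.conj a) (h2 : ∃ c, m * r * m⁻¹ * r = MulAut.conj c) :
    ∃ x : MulAut P, orderOf x = 2 ∧ x * r * x⁻¹ = r⁻¹ := by
  obtain ⟨a, h1⟩ := h1
  obtain ⟨c, h2⟩ := h2
  have cj : ∀ (β : MulAut P) (d : P), β * MulAut.conj d * β⁻¹ = MulAut.conj (β d) := fun β d => by
    ext y; simp
  have inj : Function.Injective fun b : P => b * (r⁻¹ b)⁻¹ := fun b b' e => by
    have e' : b * (r⁻¹ b)⁻¹ = b' * (r⁻¹ b')⁻¹ := e
    have : r⁻¹ (b'⁻¹ * b) = b'⁻¹ * b := by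
      rw [map_mul, map_inv]
      calc (r⁻¹ b')⁻¹ * r⁻¹ b = b'⁻¹ * (b' * (r⁻¹ b')⁻¹) * r⁻¹ b := by group
        _ = b'⁻¹ * b := by rw [← e']; group
    have k : b'⁻¹ * b = 1 := fp _ (by
      conv_lhs => rw [← this]
      exact MulAut.apply_inv_self _ _ _)
    exact (inv_mul_eq_one.1 k).symm
  obtain ⟨b, hb⟩ := Finite.injective_iff_surjective.1 inj c
  have hb' : b * (r⁻¹ b)⁻¹ = c := hb
  have e : (MulAut.conj b)⁻¹ * m * r * ((MulAut.conj b)⁻¹ * m)⁻¹ = r⁻¹ := by
    calc _ = (MulAut.conj b)⁻¹ * (m * r * m⁻¹ * r) * r⁻¹ * MulAut.conj b := by group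
      _ = r⁻¹ := by rw [h2, ← hb', map_mul, map_inv, ← cj]; group
  set x := (MulAut.conj b)⁻¹ * m with hx
  refine ⟨x, ?_, e⟩
  have x2 : x * x = MulAut.conj (b⁻¹ * m b⁻¹ * a) := by
    rw [map_mul, map_mul, ← cj, ← h1, map_inv, hx]; group
  set d := b⁻¹ * m b⁻¹ * a
  have cm : r * (x * x) * r⁻¹ = x * x := by
    have : x * x * r * (x * x)⁻¹ = r := by
      calc x * x * r * (x * x)⁻¹ = x * (x * r * x⁻¹) * x⁻¹ := by group
        _ = x * r⁻¹ * x⁻¹ := by rw [e]
        _ = (x * r * x⁻¹)⁻¹ := by group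
        _ = r := by rw [e, inv_inv]
    calc r * (x * x) * r⁻¹ = x * x * r * (x * x)⁻¹ * (x * x) * r⁻¹ := by rw [this]
      _ = x * x := by group
  rw [x2, cj] at cm
  have cen : ∀ y, MulAut.conj y = (1 : MulAut P) ↔ y ∈ center P := fun y => by
    rw [mem_center_iff]
    refine ⟨fun k g => ?_, fun k => MulEquiv.ext fun g => ?_⟩
    · have : y * g * y⁻¹ = g := DFunLike.congr_fun k g
      rw [← mul_inv_eq_iff_eq_mul.1 this]
    · change y * g * y⁻¹ = g
      rw [← k, mul_inv_cancel_right]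
  have r3' : ∀ y, r (r (r y)) = y := fun y => DFunLike.congr_fun r3 y
  have cm2 : MulAut.conj (r (r d)) = MulAut.conj d := by rw [← cj, cm, cj, cm]
  have dd : d * r d * r (r d) = 1 := fp _ (by
    rw [map_mul, map_mul, r3']
    have k : d * (r d * r (r d)) * d⁻¹ = r d * r (r d) := by
      have k1 : d * r d * d⁻¹ = r d := by
        have := DFunLike.congr_fun cm (r d)
        simp only [MulAut.conj_apply, mul_inv_cancel_right] at this
        exact this.symm
      have k2 : d * r (r d) * d⁻¹ = r (r d) := by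
        have := DFunLike.congr_fun cm2 (r (r d))
        simp only [MulAut.conj_apply, mul_inv_cancel_right] at this
        exact this.symm
      calc _ = d * r d * d⁻¹ * (d * r (r d) * d⁻¹) := by group
        _ = _ := by rw [k1, k2]
    rw [mul_assoc d, ← mul_inv_eq_iff_eq_mul.1 k])
  have d1 : MulAut.conj d = 1 := by
    have := congrArg MulAut.conj dd
    rw [map_mul, map_mul, cm, cm2, ← map_mul, (cen _).2 (sq d), one_mul, map_one] at this
    exact this
  refine orderOf_eq_prime (p := 2) (by rw [pow_two, x2, d1]) fun x1 => r1 ?_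
  rw [x1, one_mul, inv_one, mul_one] at e
  calc r = r * r * r * (r⁻¹ * r⁻¹) := by group
    _ = 1 := by rw [r3, one_mul]; nth_rw 1 [← e]; group

theorem exists_kappa {G X : Type u} [Group G] [Group X] {Y : Subgroup G} (π : Y →* X)
    (hs : Function.Surjective π) (P : Subgroup X) : ∃ κ : pre π P →* P, Function.Surjective κ ∧
      ∀ p : pre π P, ∃ y : Y, (y : G) = p ∧ (κ p : X) = π y := by
  have hle : pre π P ≤ Y := map_subtype_le _
  refine ⟨(π.comp (inclusion hle)).codRestrict P fun p => ?_, fun x => ?_,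
    fun p => ⟨inclusion hle p, rfl, rfl⟩⟩
  · obtain ⟨_, y, hy, rfl⟩ := p
    exact hy
  · obtain ⟨y, hy⟩ := hs x
    exact ⟨⟨y, y, show π y ∈ P from hy ▸ x.2, rfl⟩, Subtype.ext hy⟩

theorem norm_St {G : Type u} [Group G] {T : Subgroup G} {t g : G} (h1 : g ∈ N[T])
    (h2 : g * t = t * g) : g ∈ N[St1 T t] := by
  refine normalizer_inf_normalizer_le_normalizer_sup _ _ ⟨h1, centralizer_le_normalizer _ ?_⟩
  rintro _ ⟨n, rfl⟩
  exact ((show Commute g t from h2).zpow_right n).eq.symm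

/-- `C_P(σ) = 1` -/
theorem cent_s {X : Type u} [Group X] [Finite X] {t σ : X} {Λ O Z P : Subgroup X}
    (h : A5C t σ Λ O Z) (hP : IV t σ Z P) {y : X} (hy : y ∈ P) (e : σ * y = y * σ) : y = 1 := by
  by_contra y1
  have k : ∀ g ∈ N[P], g * σ = σ * g → g ∈ N[(P ⊓ centralizer {σ} : Subgroup X)] :=
    fun g hg c => mem_normalizer_fintype fun x hx => ⟨(mem_normalizer_iff.1 hg x).1 hx.1,
      mem_centralizer_singleton_iff.2 (by
        have := mem_centralizer_singleton_iff.1 hx.2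
        calc g * x * g⁻¹ * σ = g * x * g⁻¹ * (σ * g) * g⁻¹ := by group
          _ = g * (x * σ) * g⁻¹ := by rw [← c]; group
          _ = σ * (g * x * g⁻¹) := by rw [this, ← mul_assoc, c]; group)⟩
  have hZ := le_of_inv h hP inf_le_left (k t hP.tN (h.Lt σ h.sL).symm) (k σ hP.sN rfl) fun b =>
    y1 (mem_bot.1 (b ▸ (⟨hy, mem_centralizer_singleton_iff.2 e.symm⟩ : y ∈ P ⊓ centralizer {σ})))
  have : Z = ⊥ := eq_bot_iff.2 fun w hw =>
    mem_bot.2 (fpf h hw (mem_centralizer_singleton_iff.1 (hZ hw).2).symm)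
  have c := h.cZ
  rw [this, card_bot] at c
  omega

theorem jn2x : JN2xStmt.{u} := by
  intro Γ _ G _ _ φ F t ζ O T z σ ρ V L X _ t' ρ' π P hc hq ha hi hsp hp
  have : Finite X := Finite.of_surjective π hq.surj
  obtain ⟨κ, ks, kπ⟩ := exists_kappa π hq.surj P
  have jf := hc.jf
  have inj := hc.cx.inj
  let M1 : Subgroup G := N[St1 T t] ⊓ F ⊓ centralizer {φ z}
  have p256 : ∀ p ∈ pre π P, p ^ 2 ^ 8 = 1 := fun p m => by
    have := pow_card_eq_one' (x := (⟨p, m⟩ : pre π P))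
    rw [hp.card] at this
    exact congrArg Subtype.val this
  have hN : M1 ≤ N[pre π P] := fun m hm => mem_normalizer_fintype fun p m' => by
    refine hp.all _ (mul_mem (mul_mem hm.1 (hp.le m')) (inv_mem hm.1))
      ⟨8, by rw [conj_pow, p256 p m', mul_one, mul_inv_cancel]⟩ fun v hv => ?_
    obtain ⟨n, e⟩ := hp.pz p m' _ ((mem_normalizer_iff''.1 (hc.lt.gl.1 hm.1) v).1 hv)
    have c : Commute m (φ z) := mem_centralizer_singleton_iff.1 hm.2
    refine ⟨n, ?_⟩
    have e' : φ z ^ n = p * (m⁻¹ * v * m) * p⁻¹ * (m⁻¹ * v * m)⁻¹ := e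
    calc φ z ^ n = m * φ z ^ n * m⁻¹ := by rw [(c.zpow_right n).eq]; group
      _ = _ := by rw [e']; group
  have k1 : ∀ p, κ p = 1 ↔ (p : G) ∈ zpowers ζ := fun p => by
    obtain ⟨y, e1, e2⟩ := kπ p
    rw [← hp.eR, ← e1, ← hq.ker, ← e2, OneMemClass.coe_eq_one]
  obtain ⟨θ, hθ⟩ := exists_theta κ ks ((pre π P).normalizerMonoidHom.comp (inclusion hN))
    fun m a e => (k1 _).2 ((mem_normalizer_iff.1
      (hc.ab.b m m.2.1 (mem_centralizer_singleton_iff.1 m.2.2)) a).1 ((k1 a).1 e))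
  -- the kernel on `V` induces inner automorphisms
  have inner : ∀ k : M1, (k : G) ∈ C[V.map φ] → ∃ d, θ k = MulAut.conj d := fun k hk => by
    let S : Subgroup G :=
      { carrier := {g | ∃ d ∈ pre π P, ∀ p ∈ pre π P, g * p * g⁻¹ = d * p * d⁻¹}
        one_mem' := ⟨1, one_mem _, fun _ _ => rfl⟩
        mul_mem' := by
          rintro g g' ⟨d, hd, e⟩ ⟨d', hd', e'⟩
          refine ⟨d * d', mul_mem hd hd', fun p m => ?_⟩
          calc g * g' * p * (g * g')⁻¹ = g * (g' * p * g'⁻¹) * g⁻¹ := by group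
            _ = _ := by rw [e' p m, e _ (mul_mem (mul_mem hd' m) (inv_mem hd'))]; group
        inv_mem' := by
          rintro g ⟨d, hd, e⟩
          refine ⟨d⁻¹, inv_mem hd, fun p m => ?_⟩
          have := e _ (mul_mem (mul_mem (inv_mem hd) m) hd)
          calc g⁻¹ * p * g⁻¹⁻¹ = g⁻¹ * (d * (d⁻¹ * p * d) * d⁻¹) * g := by group
            _ = _ := by rw [← this]; group }
    have l : T ⊔ O ⊓ F ≤ S := by
      refine sup_le (fun x hx => ⟨x, hp.TP hx, fun _ _ => rfl⟩) fun o ho => ⟨1, one_mem _, ?_⟩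
      intro p m
      have oM : o ∈ M1 := ⟨⟨norm_St (centralizer_le_normalizer _ fun x hx =>
        (hc.tf.OC hx o ho.1).symm) (hc.cx.Ot o ho.1), ho.2⟩,
        mem_centralizer_singleton_iff.2 (hc.cx.oA ho.1 z).symm⟩
      have c1 : o * p * o⁻¹ * p⁻¹ ∈ O := by
        have := O.mul_mem ho.1 ((mem_normalizer_iff.1 (hc.lt.nO (hp.le m).1) _).1 (O.inv_mem ho.1))
        simpa only [mul_assoc] using this
      have c2 : o * p * o⁻¹ * p⁻¹ ∈ pre π P :=
        mul_mem ((mem_normalizer_iff.1 (hN oM) p).1 m) (inv_mem m)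
      rw [mul_inv_eq_one.1 (hc.cx.o_one c1 (p256 _ c2))]
      group
    obtain ⟨d, hd, e⟩ := l (hc.lt.ker ⟨k.2.1, hk⟩)
    refine ⟨κ ⟨d, hd⟩, MulEquiv.ext fun y => ?_⟩
    obtain ⟨p, rfl⟩ := ks y
    rw [hθ, MulAut.conj_apply, ← map_inv, ← map_mul, ← map_mul]
    exact congrArg κ (Subtype.ext (e p p.2))
  have r3 : φ ρ * φ ρ * φ ρ = 1 := by
    rw [← map_mul, ← map_mul, ← pow_three', ← jf.ro, pow_orderOf_eq_one, map_one]
  have rz : φ ρ * φ z = φ z * φ ρ := by rw [← map_mul, ← map_mul, mem_Cz.1 (jf.Lz jf.rL)]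
  have rM : φ ρ ∈ M1 := ⟨⟨norm_St hc.tf.rN (hc.cx.AC ρ), hc.AF ⟨ρ, rfl⟩⟩,
    mem_centralizer_singleton_iff.2 rz⟩
  have rV : φ ρ ∈ N[V.map φ] := hc.lt.gl.1 rM.1
  let ν := (V.map φ).normalizerMonoidHom
  have nk : ∀ n, ν n = 1 ↔ (n : G) ∈ C[V.map φ] := fun n => by
    rw [← MonoidHom.mem_ker, normalizerMonoidHom_ker, mem_subgroupOf]
  obtain ⟨α, a1, a2, a3⟩ := inv_aut (V := V.map φ)
    (by rintro ⟨_, v, hv, rfl⟩; exact Subtype.ext (by
      change φ v * φ v = 1
      rw [← map_mul, jf.el v hv, map_one]))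
    (by rw [card_map_of_injective inj, jf.cV]) (ν ⟨_, rV⟩)
    (by rw [← map_mul, ← map_mul, ← map_one ν]; exact congrArg ν (Subtype.ext r3))
    (fun e => by
      have k : ρ ∈ V := jf.CV fun v hv =>
        inj (by rw [map_mul, map_mul]; exact (nk _).1 e _ ⟨v, hv, rfl⟩)
      have := orderOf_dvd_of_pow_eq_one (show ρ ^ 2 = 1 by rw [pow_two, jf.el ρ k])
      rw [jf.ro] at this
      omega)
    (z := ⟨φ z, z, jf.zV, rfl⟩)
    (fun e => jf.z1 (inj ((congrArg Subtype.val e).trans (map_one φ).symm)))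
    (Subtype.ext (mul_inv_eq_iff_eq_mul.2 rz))
  obtain ⟨m, hm, em⟩ := hc.lt.gl.2 α
  have mV : m ∈ N[V.map φ] := hc.lt.gl.1 hm
  have nm : ν ⟨m, mV⟩ = α := MulEquiv.ext fun v => Subtype.ext (em v)
  have mM : m ∈ M1 := ⟨hm, mem_centralizer_singleton_iff.2 (mul_inv_eq_iff_eq_mul.1
    ((em ⟨φ z, z, jf.zV, rfl⟩).trans (congrArg Subtype.val a1)))⟩
  have fp : ∀ y, θ ⟨_, rM⟩ y = y → y = 1 := fun y e => by
    obtain ⟨p, rfl⟩ := ks y
    rw [hθ] at e
    obtain ⟨y, e1, e2⟩ := kπ p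
    obtain ⟨y', e3, e4⟩ := kπ (((pre π P).normalizerMonoidHom.comp (inclusion hN)) ⟨_, rM⟩ p)
    obtain ⟨r, e5, e6⟩ := hq.er
    have e7 : y' = r * y * r⁻¹ := Subtype.ext (by
      rw [e3]
      change φ ρ * p * (φ ρ)⁻¹ = r * y * (r : G)⁻¹
      rw [e1, e5])
    rw [e, e7, map_mul, map_mul, map_inv, e6, ← e2] at e4
    exact Subtype.ext (cent_s ha hi (κ p).2 (mul_inv_eq_iff_eq_mul.1 e4.symm))
  have s3 : θ ⟨_, rM⟩ * θ ⟨_, rM⟩ * θ ⟨_, rM⟩ = 1 := by
    rw [← map_mul, ← map_mul, ← map_one θ]; exact congrArg θ (Subtype.ext r3)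
  have s1 : θ ⟨_, rM⟩ ≠ 1 := fun e => by
    have : Subsingleton P := ⟨fun a b => by rw [fp a (by rw [e]; rfl), fp b (by rw [e]; rfl)]⟩
    have := Nat.card_of_subsingleton (1 : P)
    rw [hsp.card] at this
    omega
  obtain ⟨x, x2, xr⟩ := exists_inv (m := θ ⟨m, mM⟩) s3 s1 fp
    (fun y => mem_center_iff.2 fun g => Subtype.ext (hsp.ZC (hsp.sq y y.2) g g.2))
    (by
      rw [← map_mul]
      refine inner _ ((nk (⟨m, mV⟩ * ⟨m, mV⟩)).1 ?_)
      rw [map_mul, nm, a2])
    (by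
      rw [← map_inv, ← map_mul, ← map_mul, ← map_mul]
      refine inner _ ((nk (⟨m, mV⟩ * ⟨_, rV⟩ * ⟨m, mV⟩⁻¹ * ⟨_, rV⟩)).1 ?_)
      rw [map_mul, map_mul, map_mul, map_inv, nm, a3])
  refine (S3157.result hsp.card (fun c => ?_) _ x
    (orderOf_eq_prime (p := 3) (by rw [pow_three', s3]) s1) x2 xr fp
    (x.toMonoidHom.eqLocus (MonoidHom.id _)) fun y => Iff.rfl).1
  have l : P ≤ im π ((V ⊓ L).map φ) := fun a m' => hsp.cZ ⟨m', fun b mb =>
    congrArg Subtype.val (c.1.1 (⟨b, mb⟩ : P) ⟨a, m'⟩)⟩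
  have := card_le_of_le l
  rw [hsp.card, ha.cZ] at this
  omega

end Cfsg.Agent.H86.S94
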