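import Cfsg.Agent.H50.DerDefs

/-! DER-CENT: centralisers of elements of a regular abelian Sylow subgroup. -/

set_option autoImplicit false

namespace Cfsg.Agent.H86.DerCent

open MulAction Subgroup Cfsg.Agent.H50.Der

universe u v

/-- a faithful group with a regular Sylow subgroup in the centre of its normaliser is regular -/
theorem reg {C : Type*} {Ω : Type*} [Group C] [Finite C] [MulAction C Ω] {q : ℕ} (pr : q.Prime)
    {P : Subgroup C} (pg : IsPGroup q P) {ω : Ω} (faith : ∀ g : C, (∀ a : Ω, g • a = a) → g = 1)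
    (tr : ∀ a : Ω, ∃ z ∈ P, z • ω = a) (free : ∀ z ∈ P, z • ω = ω → z = 1)
    (cop : ¬ q ∣ Nat.card (stabilizer C ω))
    (nc : normalizer (P : Set C) ≤ centralizer (P : Set C)) {g : C} (hg : g • ω = ω) : g = 1 := by
  have : Fact q.Prime := ⟨pr⟩
  have hc : IsComplement' P (stabilizer C ω) := isComplement'_stabilizer ω
    (fun h e => Subtype.ext (free h h.2 e)) fun g => by
      obtain ⟨z, hz, e⟩ := tr (g • ω)
      exact ⟨⟨z⁻¹, inv_mem hz⟩, by rw [← e]; exact inv_smul_smul z ω⟩
  have hi := hc.symm.index_eq_card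
  let S := pg.toSylow (hi ▸ cop)
  have hS : normalizer (S : Set C) ≤ centralizer (S : Set C) := nc
  have hk := (MonoidHom.ker_transferSylow_isComplement' S hS).index_eq_card
  have le : stabilizer C ω ≤ (MonoidHom.transferSylow S hS).ker := fun s hs => by
    obtain ⟨k, hk⟩ := S.isPGroup'.exists_orderOf_eq_pow (MonoidHom.transferSylow S hS s)
    have d := (orderOf_map_dvd (MonoidHom.transferSylow S hS) s).trans
      (orderOf_dvd_natCard _ hs)
    rw [hk] at d
    rcases k with _ | k
    · exact orderOf_eq_one_iff.1 hk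
    · exact absurd ((dvd_pow_self q k.succ_ne_zero).trans d) cop
  have e : stabilizer C ω = (MonoidHom.transferSylow S hS).ker :=
    eq_of_le_of_card_ge le (hk.symm.trans hi).le
  have n : (stabilizer C ω).Normal := e ▸ inferInstance
  refine faith g fun a => ?_
  obtain ⟨z, -, rfl⟩ := tr a
  have := n.conj_mem' g hg z
  rwa [mem_stabilizer_iff, mul_smul, mul_smul, inv_smul_eq_iff] at this

theorem cent : CentStmt.{u, v} := by
  intro X Ω V _ _ _ _ q ι ω E act c z z1 g hg
  let C := centralizer ({ι z} : Set X)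
  have m : ∀ v, ι v ∈ C := fun v =>
    mem_centralizer_singleton_iff.2 (by rw [← map_mul, ← map_mul, mul_comm])
  let j : V →* C := ι.codRestrict C m
  -- the point stabiliser in the normaliser is trivial
  have key : ∀ s : C, s ∈ normalizer (j.range : Set C) → s • ω = ω → s = 1 := fun s hs e => by
    have hE : (s : X) ∈ E := (c.memE s).2 ⟨e, fun v =>
      let ⟨w, hw⟩ := (mem_normalizer_iff.1 hs (j v)).1 ⟨v, rfl⟩
      ⟨w, (congrArg Subtype.val hw).symm⟩⟩
    have h1 : ι (act ⟨s, hE⟩ z) = ι z := by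
      rw [c.act_eq, mem_centralizer_singleton_iff.1 s.2, mul_inv_cancel_right]
    have h2 : act ⟨s, hE⟩ z * z⁻¹ = 1 := c.free _ (by
      rw [map_mul, h1, ← map_mul, mul_inv_cancel, map_one, one_smul])
    have h3 := congrArg Subtype.val (c.semi _ z z1 (mul_inv_eq_one.1 h2))
    exact Subtype.ext h3
  have fx : ∀ s : C, ∃ v, ((j v)⁻¹ * s) • ω = ω := fun s =>
    let ⟨v, hv⟩ := c.tr (s • ω)
    ⟨v, by rw [mul_smul, inv_smul_eq_iff]; exact hv.symm⟩
  obtain ⟨v, hv⟩ := fx ⟨g, mem_centralizer_singleton_iff.2 hg⟩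
  refine ⟨v, (congrArg Subtype.val (inv_mul_eq_one.1 (reg c.pr (P := j.range)
    (c.pg.of_surjective _ j.rangeRestrict_surjective)
    (fun s hs => Subtype.ext (c.faith s hs)) (fun a => ?_) ?_ (fun h => c.cop (h.trans ?_))
    (fun s hs => ?_) hv))).symm⟩
  · obtain ⟨w, hw⟩ := c.tr a
    exact ⟨j w, ⟨w, rfl⟩, hw⟩
  · rintro _ ⟨w, rfl⟩ e
    rw [c.free w e, map_one]
  · exact card_dvd_of_injective ((C.subtype.comp (stabilizer C ω).subtype).codRestrict
      (stabilizer X ω) fun s => s.2) fun a b e => by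
        have e' := congrArg Subtype.val e
        exact Subtype.ext (Subtype.ext e')
  · obtain ⟨w, hw⟩ := fx s
    rw [← inv_mul_eq_one.1 (key _ (mul_mem (inv_mem (le_normalizer ⟨w, rfl⟩)) hs) hw)]
    rintro _ ⟨w', rfl⟩
    rw [← map_mul, ← map_mul, mul_comm]

end Cfsg.Agent.H86.DerCent
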