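import Cfsg.Agent.H56.HLDefs

/-! HL-MA: the projective plane of the vertices of `L₃(q)`. -/

set_option autoImplicit false

namespace Cfsg.Agent.H86.HlMa

open Matrix Subgroup Cfsg.Agent.H56.HL Cfsg.Agent.H32
open scoped LinearAlgebra.Projectivization

universe u

variable {K : Type} [Field K]

theorem par {n ψ : Fin 3 → K} (hn : n ≠ 0) (h : n ⨯₃ ψ = 0) : ∃ c : K, ψ = c • n := by
  by_contra k
  exact crossProduct_ne_zero_iff_linearIndependent.2
    ((LinearIndependent.pair_iff' hn).2 fun a e => k ⟨a, e.symm⟩) h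

theorem cross_ne {x y : Fin 3 → K} (hx : x ≠ 0) (h : ¬ ∃ c : K, y = c • x) : x ⨯₃ y ≠ 0 :=
  fun e => h (par hx e)

/-- a vector orthogonal to two independent vectors is a multiple of the cross product -/
theorem perp {x y ψ : Fin 3 → K} (h : x ⨯₃ y ≠ 0) (h1 : ψ ⬝ᵥ x = 0) (h2 : ψ ⬝ᵥ y = 0) :
    ∃ c : K, ψ = c • x ⨯₃ y :=
  par h (by rw [cross_cross_eq_smul_sub_smul, dotProduct_comm x, dotProduct_comm y, h1, h2]; simp)

/-- counting projective points -/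
theorem count {α : Type*} (f : (Fin 3 → K) → α)
    (hf : ∀ v w : Fin 3 → K, v ≠ 0 → w ≠ 0 → (f v = f w ↔ ∃ c : K, w = c • v))
    (W : Submodule K (Fin 3 → K)) :
    Set.ncard {X | ∃ v, v ≠ 0 ∧ v ∈ W ∧ X = f v} = Nat.card (ℙ K W) := by
  have ne : ∀ p : ℙ K W, (p.rep : Fin 3 → K) ≠ 0 := fun p e => p.rep_nonzero (Subtype.ext e)
  rw [← Nat.card_coe_set_eq]
  refine (Nat.card_congr (Equiv.ofBijective (fun p : ℙ K W =>
    (⟨f p.rep, p.rep, ne p, p.rep.2, rfl⟩ : {X | ∃ v, v ≠ 0 ∧ v ∈ W ∧ X = f v})) ⟨?_, ?_⟩)).symm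
  · intro p p' e
    obtain ⟨c, hc⟩ := (hf _ _ (ne p) (ne p')).1 (congrArg Subtype.val e)
    rw [← p.mk_rep, ← p'.mk_rep, eq_comm, Projectivization.mk_eq_mk_iff']
    exact ⟨c, Subtype.ext hc.symm⟩
  · rintro ⟨_, v, v0, hv, rfl⟩
    have v0' : (⟨v, hv⟩ : W) ≠ 0 := fun e => v0 (congrArg Subtype.val e)
    obtain ⟨a, ha⟩ := Projectivization.exists_smul_eq_mk_rep K (⟨v, hv⟩ : W) v0'
    exact ⟨Projectivization.mk K _ v0', Subtype.ext
      ((hf _ _ v0 (ne _)).2 ⟨a, (congrArg Subtype.val ha).symm⟩).symm⟩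

theorem ma : MAStmt.{u} := by
  intro G _ _ K _ _ π N h v φ v0 φ0 e
  refine ⟨fun k => ?_, fun X hX => ?_, fun X Y hX hY ne => ?_,
    fun X Y M M' hX ne a1 a2 a3 a4 => ?_, ?_, ?_, ?_⟩
  · obtain ⟨w, w0, k⟩ := (h.sameE _ v v0).1 k
    exact h.neEF w φ w0 φ0 k.symm
  · exact ((h.vx X).1 hX).imp (h.sameE X v v0).2 (h.sameF X φ φ0).2
  · obtain ⟨x, x0, rfl⟩ := (h.sameE _ v v0).1 hX
    obtain ⟨y, y0, rfl⟩ := (h.sameE _ v v0).1 hY
    have n0 := cross_ne x0 fun k => ne ((h.eqE x y x0 y0).2 k)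
    exact ⟨FL π (x ⨯₃ y), (h.adj _ _ x0 n0).2 (by rw [dotProduct_comm, dot_self_cross]),
      (h.adj _ _ y0 n0).2 (by rw [dotProduct_comm, dot_cross_self])⟩
  · obtain ⟨x, x0, rfl⟩ := (h.sameE _ v v0).1 hX
    obtain ⟨ψ, ψ0, e1, rfl⟩ := (h.adjE _ x x0).1 a1
    obtain ⟨ψ', ψ0', e3, rfl⟩ := (h.adjE _ x x0).1 a3
    obtain ⟨y, y0, e2, rfl⟩ := (h.adjF _ ψ ψ0).1 a2
    have e4 := (h.adj _ _ y0 ψ0').1 a4
    have n0 := cross_ne x0 fun k => ne ((h.eqE x y x0 y0).2 k)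
    rw [← (h.eqF _ _ n0 ψ0).2 (perp n0 e1 e2), ← (h.eqF _ _ n0 ψ0').2 (perp n0 e3 e4)]
  · have h2 := Module.Dual.finrank_ker_add_one_of_ne_zero (f := dotProductBilin K K φ) (by
      intro h0
      obtain ⟨z, hz⟩ := H26.exists_dot_eq_one φ0
      have := LinearMap.congr_fun h0 z
      simp [dotProduct_comm φ, hz] at this)
    rw [Module.finrank_fin_fun] at h2
    have := count (EP π) h.eqE (LinearMap.ker (dotProductBilin K K φ))
    rw [Projectivization.card_of_finrank_two K _ (by omega), Nat.card_eq_fintype_card] at this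
    rw [← this]
    exact congrArg _ (Set.ext fun X => h.adjF X φ φ0)
  · have := count (EP π) h.eqE ⊤
    rw [Projectivization.card_of_finrank K _ (n := 3) (by simp), Nat.card_eq_fintype_card] at this
    simp only [Finset.sum_range_succ, Finset.range_zero, Finset.sum_empty, Submodule.mem_top,
      true_and] at this
    refine ((congrArg _ (Set.ext fun X => h.sameE X v v0)).trans this).trans ?_
    ring
  · rintro _ ⟨ψ, e1, rfl⟩ t1
    have ψ0 : ψ ≠ 0 := fun k => t1 (by rw [k, ts_zero_right, map_one])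
    exact ⟨FL π ψ, (h.adj _ _ v0 ψ0).2 e1, v, e1, rfl⟩

end Cfsg.Agent.H86.HlMa
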