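import Cfsg.Agent.H86.HlMa
import Cfsg.Agent.S0242
import Cfsg.Agent.H67.Conj

/-! HL-MB: the Sylow subgroup of a flag of `L₃(q)`. -/

set_option autoImplicit false

namespace Cfsg.Agent.H86.HlMb

open Matrix Subgroup Cfsg.Agent.H56.HL Cfsg.Agent.H32 Cfsg.Agent.H83 Cfsg.Agent.H86.HlMa

universe u

variable {K : Type} [Field K]

theorem smul_perp {v φ : Fin 3 → K} (e : φ ⬝ᵥ v = 0) (c : K) : (c • φ) ⬝ᵥ v = 0 := by
  rw [smul_dotProduct, e, smul_zero]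

/-- the commutator relation -/
theorem rel {v φ ψ w : Fin 3 → K} (e : φ ⬝ᵥ v = 0) (e1 : ψ ⬝ᵥ v = 0) (e2 : φ ⬝ᵥ w = 0) :
    ts v ψ * ts w φ = ts v ((ψ ⬝ᵥ w) • φ) * (ts w φ * ts v ψ) := by
  apply Subtype.ext
  change (ts v ψ : Matrix (Fin 3) (Fin 3) K) * (ts w φ : Matrix (Fin 3) (Fin 3) K) =
    (ts v ((ψ ⬝ᵥ w) • φ) : Matrix (Fin 3) (Fin 3) K) *
      ((ts w φ : Matrix (Fin 3) (Fin 3) K) * (ts v ψ : Matrix (Fin 3) (Fin 3) K))
  rw [coe_ts e1, coe_ts e2, coe_ts (smul_perp e _), H26.tv_mul_tv, H26.tv_mul_tv, e, zero_smul,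
    add_zero, add_mul, one_mul, mul_add, mul_add, mul_one, vecMulVec_mul_vecMulVec,
    vecMulVec_mul_vecMulVec, smul_perp e, smul_perp e2, zero_smul, zero_smul, vecMulVec_zero,
    vecMulVec_smul]
  abel

theorem exists_perp {φ ψ : Fin 3 → K} (φ0 : φ ≠ 0) (h : ¬ ∃ a : K, ψ = a • φ) (c : K) :
    ∃ w, φ ⬝ᵥ w = 0 ∧ ψ ⬝ᵥ w = c := by
  obtain ⟨z, hz⟩ := H26.exists_dot_eq_one (cross_ne φ0 h)
  refine ⟨c • z ⨯₃ φ, ?_, ?_⟩
  · rw [dotProduct_smul, dot_cross_self, smul_zero]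
  · rw [dotProduct_smul, triple_product_permutation, hz, smul_eq_mul, mul_one]

/-- two vectors orthogonal to two independent vectors are proportional -/
theorem par2 {φ ψ v w : Fin 3 → K} (φ0 : φ ≠ 0) (h : ¬ ∃ a : K, ψ = a • φ) (v0 : v ≠ 0)
    (e1 : v ⬝ᵥ φ = 0) (e2 : v ⬝ᵥ ψ = 0) (e3 : w ⬝ᵥ φ = 0) (e4 : w ⬝ᵥ ψ = 0) : ∃ c : K, w = c • v := by
  obtain ⟨a, ha⟩ := perp (cross_ne φ0 h) e1 e2
  obtain ⟨b, hb⟩ := perp (cross_ne φ0 h) e3 e4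
  have a0 : a ≠ 0 := fun k => v0 (by rw [ha, k, zero_smul])
  exact ⟨b / a, by rw [hb, ha, smul_smul, div_mul_cancel₀ _ a0]⟩

theorem card_dvd (K : Type) [Field K] [Fintype K] (h : Even (Fintype.card K)) :
    ∃ m, Odd m ∧ Nat.card (SpecialLinearGroup (Fin 3) K) ∣ Fintype.card K ^ 3 * m := by
  have e := S0242.result (F := K) rfl 3 (by norm_num)
  have p : 0 < Fintype.card K := Fintype.card_pos
  generalize Fintype.card K = q at *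
  have o : ∀ i, Odd (q ^ (i + 1) - 1) := fun i =>
    Nat.Even.sub_odd (Nat.one_le_pow _ _ p) (h.pow_of_ne_zero i.succ_ne_zero) odd_one
  refine ⟨_, ((o 0).mul (o 1)).mul (o 2), (Dvd.intro_left _ e).trans (dvd_of_eq ?_)⟩
  rw [Fin.prod_univ_three]
  show (q ^ 3 - q ^ 0) * (q ^ 3 - q ^ 1) * (q ^ 3 - q ^ 2) = _
  have e1 : q ^ 3 - q ^ 1 = q * (q ^ (1 + 1) - 1) := by rw [Nat.mul_sub]; congr 1 <;> ring
  have e2 : q ^ 3 - q ^ 2 = q ^ 2 * (q ^ (0 + 1) - 1) := by rw [Nat.mul_sub]; congr 1 <;> ring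
  rw [e1, e2, pow_zero]
  ring

theorem mb : MBStmt.{u} := by
  intro G _ _ K _ _ π N h v φ v0 φ0 e
  have : Fact (Nat.Prime 2) := ⟨Nat.prime_two⟩
  have ad := (h.adj v φ v0 φ0).2 e
  have zinj : ∀ c c' : K, π (ts v (c • φ)) = π (ts v (c' • φ)) → c = c' := fun c c' k => by
    have k' := h.inj _ _ _ _ (smul_perp e c) (smul_perp e c') k
    rw [vecMulVec_smul, vecMulVec_smul] at k'
    exact smul_left_injective K (vecMulVec_ne_zero v0 φ0) k'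
  have z0 : ∀ c : K, π (ts v (c • φ)) = 1 → c = 0 := fun c k =>
    zinj c 0 (by rw [k, zero_smul, ts_zero_right, map_one])
  have zm : ∀ c : K, π (ts v (c • φ)) ∈ EP π v ⊓ FL π φ := fun c =>
    (h.memZ v φ _ v0 φ0 e).2 ⟨c, rfl⟩
  have cZ : Nat.card ↥(EP π v ⊓ FL π φ) = Fintype.card K := by
    rw [← Nat.card_eq_fintype_card]
    refine (Nat.card_congr (Equiv.ofBijective (fun c : K => (⟨_, zm c⟩ : ↥(EP π v ⊓ FL π φ)))
      ⟨fun c c' k => zinj c c' (congrArg Subtype.val k), fun x => ?_⟩)).symm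
    obtain ⟨c, hc⟩ := (h.memZ v φ _ v0 φ0 e).1 x.2
    exact ⟨c, Subtype.ext hc.symm⟩
  have nF : EP π v ≤ normalizer (FL π φ : Set G) := by
    rintro _ ⟨ψ, e1, rfl⟩
    exact cj_eq_self_iff.1 (by rw [cj_FL, vecMul_ts_inv e1, e, zero_smul, sub_zero])
  have mul : ∀ u ∈ EP π v ⊔ FL π φ, ∃ a ∈ EP π v, ∃ b ∈ FL π φ, u = a * b := fun u hu => by
    have : u ∈ ((EP π v ⊔ FL π φ : Subgroup G) : Set G) := hu
    rw [coe_mul_of_left_le_normalizer_right _ _ nF] at this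
    obtain ⟨a, ha, b, hb, k⟩ := this
    exact ⟨a, ha, b, hb, k.symm⟩
  have cU : Nat.card ↥(EP π v ⊔ FL π φ) = Fintype.card K ^ 3 := by
    have k := H67.card_sup_mul_card_inf nF
    rw [cZ, ad.vl.card, ad.vr.card] at k
    exact Nat.eq_of_mul_eq_mul_right Fintype.card_pos (k.trans (by ring))
  -- the commutator of two elements
  have key : ∀ ψ w ψ' w' : Fin 3 → K, ψ ⬝ᵥ v = 0 → φ ⬝ᵥ w = 0 → ψ' ⬝ᵥ v = 0 → φ ⬝ᵥ w' = 0 →
      π (ts v ψ) * π (ts w φ) * (π (ts v ψ') * π (ts w' φ)) * (π (ts v ψ) * π (ts w φ))⁻¹ *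
        (π (ts v ψ') * π (ts w' φ))⁻¹ = π (ts v ((ψ ⬝ᵥ w' - ψ' ⬝ᵥ w) • φ)) := by
    intro ψ w ψ' w' e1 e2 e3 e4
    have r1 := congrArg π (rel e e1 e4)
    have r2 := congrArg π (rel e e3 e2)
    simp only [map_mul] at r1 r2
    have s : π (ts v ((ψ ⬝ᵥ w') • φ)) = π (ts v ((ψ ⬝ᵥ w' - ψ' ⬝ᵥ w) • φ)) *
        π (ts v ((ψ' ⬝ᵥ w) • φ)) := by
      rw [← map_mul, ← ts_add_right (smul_perp e _) (smul_perp e _), ← add_smul, sub_add_cancel]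
    have mE : ∀ ψ, ψ ⬝ᵥ v = 0 → π (ts v ψ) ∈ EP π v := fun ψ k => ⟨ψ, k, rfl⟩
    have mF : ∀ w, φ ⬝ᵥ w = 0 → π (ts w φ) ∈ FL π φ := fun w k => ⟨w, k, rfl⟩
    have c1 := ad.vl.comm (mE ψ e1) (mE ψ' e3)
    have c2 := ad.vr.comm (mF w e2) (mF w' e4)
    have c3 := ad.vl.comm (mE ψ e1) (zm (ψ' ⬝ᵥ w)).1
    have c4 := ad.vl.comm (mE ψ' e3) (zm (ψ ⬝ᵥ w')).1
    have c5 := ad.vl.comm (zm (ψ ⬝ᵥ w' - ψ' ⬝ᵥ w)).1 (zm (ψ' ⬝ᵥ w)).1
    generalize π (ts v ψ) = a, π (ts w φ) = b, π (ts v ψ') = a', π (ts w' φ) = b',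
      π (ts v ((ψ ⬝ᵥ w') • φ)) = z, π (ts v ((ψ' ⬝ᵥ w) • φ)) = z',
      π (ts v ((ψ ⬝ᵥ w' - ψ' ⬝ᵥ w) • φ)) = y at r1 r2 s c1 c2 c3 c4 c5 ⊢
    have k1 : z' * (a * b * (a' * b')) = a * a' * (b * b') := by
      calc _ = (z' * a) * (b * a') * b' := by group
        _ = a * (z' * (b * a')) * b' := by rw [← c3]; group
        _ = _ := by rw [← r2]; group
    have k2 : z * (a' * b' * (a * b)) = a * a' * (b * b') := by
      calc _ = (z * a') * (b' * a) * b := by group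
        _ = a' * (z * (b' * a)) * b := by rw [← c4]; group
        _ = a' * a * (b' * b) := by rw [← r1]; group
        _ = _ := by rw [c1, c2]
    rw [mul_inv_eq_iff_eq_mul, mul_inv_eq_iff_eq_mul]
    refine mul_left_cancel (a := z') (k1.trans (k2.symm.trans ?_))
    rw [s, c5]
    group
  refine ⟨cZ, ⟨sup_le ad.vl.le ad.vr.le, ad.vl.isPGroup.to_sup_of_normal_right' ad.vr.isPGroup nF,
    fun P hP pP le => ?_⟩, cU, mul, fun u hu u2 => ?_, fun x hx y hy => ?_,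
    fun x hx nx z hz => ?_, fun x hx nx y hy c => ?_⟩
  · have : CharP K 2 := CharTwo.of_one_ne_zero_of_two_eq_zero one_ne_zero h.md.two
    obtain ⟨m, mo, hm⟩ := card_dvd K (Nat.even_iff.2
      (FiniteField.even_card_of_char_two (ringChar.eq K 2)))
    obtain ⟨k, hk⟩ := pP.exists_card_eq
    have d : Nat.card P ∣ Fintype.card K ^ 3 * m :=
      ((card_dvd_of_le hP).trans (h.md.range ▸ card_range_dvd π)).trans hm
    refine (eq_of_le_of_card_ge le ?_).symm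
    rw [cU]
    refine Nat.le_of_dvd (pow_pos Fintype.card_pos 3) (Nat.Coprime.dvd_of_dvd_mul_right ?_ d)
    rw [hk]
    exact (Nat.coprime_two_left.2 mo).pow_left k
  · obtain ⟨_, ⟨ψ, e1, rfl⟩, _, ⟨w, e2, rfl⟩, rfl⟩ := mul u hu
    have mE : π (ts v ψ) ∈ EP π v := ⟨ψ, e1, rfl⟩
    have mF : π (ts w φ) ∈ FL π φ := ⟨w, e2, rfl⟩
    have r := congrArg π (rel e e1 e2)
    have i := inv_eq_of_mul_eq_one_right u2
    rw [_root_.mul_inv_rev, ad.vl.inv_eq mE, ad.vr.inv_eq mF] at i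
    rw [map_mul, map_mul, map_mul, i, right_eq_mul] at r
    by_cases k : ∃ a : K, ψ = a • φ
    · obtain ⟨a, rfl⟩ := k
      exact Or.inr (mul_mem (zm a).2 mF)
    · obtain ⟨c, rfl⟩ := par2 φ0 k v0 (by rwa [dotProduct_comm]) (by rwa [dotProduct_comm])
        (w := w) (by rwa [dotProduct_comm]) (by rw [dotProduct_comm, z0 _ r])
      exact Or.inl (mul_mem mE (ts_smul e c ▸ (zm c).1))
  · obtain ⟨_, ⟨ψ, e1, rfl⟩, _, ⟨w, e2, rfl⟩, rfl⟩ := mul x hx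
    obtain ⟨_, ⟨ψ', e3, rfl⟩, _, ⟨w', e4, rfl⟩, rfl⟩ := mul y hy
    rw [key ψ w ψ' w' e1 e2 e3 e4]
    exact zm _
  · obtain ⟨_, ⟨ψ, e1, rfl⟩, _, ⟨w, e2, rfl⟩, rfl⟩ := mul x hx
    obtain ⟨c, rfl⟩ := (h.memZ v φ _ v0 φ0 e).1 hz
    by_cases k : ∃ a : K, ψ = a • φ
    · obtain ⟨a, rfl⟩ := k
      by_cases k' : ∃ b : K, w = b • v
      · obtain ⟨b, rfl⟩ := k'
        exact absurd (mul_mem (zm a) (ts_smul e b ▸ zm b)) nx
      · obtain ⟨ψ', e3, e4⟩ := exists_perp v0 k' (-c)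
        rw [dotProduct_comm] at e3 e4
        refine ⟨_, mul_mem (mem_sup_left ⟨ψ', e3, rfl⟩)
          (mem_sup_right ⟨0, dotProduct_zero φ, rfl⟩), ?_⟩
        rw [key _ w ψ' 0 e1 e2 e3 (dotProduct_zero φ), e4, dotProduct_zero, zero_sub, neg_neg]
    · obtain ⟨w', e3, e4⟩ := exists_perp φ0 k c
      refine ⟨_, mul_mem (mem_sup_left ⟨0, zero_dotProduct v, rfl⟩)
        (mem_sup_right ⟨w', e3, rfl⟩), ?_⟩
      rw [key ψ w 0 w' e1 e2 (zero_dotProduct v) e3, e4, zero_dotProduct, sub_zero]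
  · obtain ⟨ψ, e1, rfl⟩ := hx
    obtain ⟨_, ⟨ψ', e3, rfl⟩, _, ⟨w', e4, rfl⟩, rfl⟩ := mul y hy
    have k := key ψ 0 ψ' w' e1 (dotProduct_zero φ) e3 e4
    rw [ts_zero_left, map_one, mul_one, c, mul_inv_cancel_right, mul_inv_cancel, dotProduct_zero,
      sub_zero] at k
    obtain ⟨b, rfl⟩ := par2 φ0 (ψ := ψ) (fun ⟨a, ha⟩ => nx (ha ▸ (zm a).2)) v0
      (by rwa [dotProduct_comm]) (by rwa [dotProduct_comm]) (w := w') (by rwa [dotProduct_comm])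
      (by rw [dotProduct_comm, z0 _ k.symm])
    exact mul_mem ⟨ψ', e3, rfl⟩ (ts_smul e b ▸ (zm b).1)

end Cfsg.Agent.H86.HlMb
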