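import Cfsg.Agent.H56.HLK

/-! HL-P3b: planes in the parabolic case. -/

set_option autoImplicit false

namespace Cfsg.Agent.H86.HlP3b

open MulAction Subgroup Cfsg.Agent.H56.HL Cfsg.Agent.H83
open scoped Cfsg.Agent.H63

universe u v

theorem p3b : P3bStmt.{u, v} := by
  intro G Ω _ _ _ _ _ NN q EE h
  intro ha hb
  have nj : ∀ {x F W}, Pln NN q EE x F → Adj (NN x) q W F → ∀ g ∈ JJ Ω F, g ∈ N[W] :=
    fun {x F W} hF hW g hg => by
      obtain ⟨y, hy, hA⟩ := id hF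
      obtain ⟨p, hp, rfl⟩ := h.ln.surj h.st hy ((h.st.kit x).ka.sameAdj hA hW)
      exact h.ln.norm hp (mem_JJ.1 hg x (hF.mem h.st)) (mem_JJ.1 hg p ((ha.fixF hF p hp).2 hW))
  refine ⟨fun {a F} hF x hx y hy x' hx' y' hy' ne ne' => ?_, fun a x y => ?_,
    fun {a x y F F'} hF hF' ne hy h1 h2 h3 h4 => ?_, fun {x F} hF g hg hs => ?_,
    fun {x F} hF le => ?_⟩
  · have a1 := (ha.fixF (hb.pl hF hx) y ne).1 hy
    have a2 := (ha.fixF (hb.pl hF hx') y' ne').1 hy'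
    obtain ⟨g, rfl, rfl⟩ := h.st.two x y x' y' ne ne'
    have a3 := a1.cj' g
    rw [← h.st.smul, ← h.ln.smul g ne] at a3
    obtain ⟨s, hs, e⟩ := (h.st.kit _).ka.trN a3.symm a2.symm
    exact ⟨s * g, cj_eq_self_iff.1 (by rw [cj_mul, e]),
      by rw [mul_smul]; exact h.st.fix _ (SS_le_N hs), by rw [mul_smul]; exact h.sS ne' hs⟩
  · have ex : ∀ x, ∃ x', a ≠ x' ∧ (x = a ∨ x = x') := fun x => by
      by_cases e : a = x
      · obtain ⟨b, hb⟩ := h.st.exists_ne a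
        exact ⟨b, hb, Or.inl e.symm⟩
      · exact ⟨x, e, Or.inr rfl⟩
    obtain ⟨x', hx, ex'⟩ := ex x
    obtain ⟨y', hy, ey'⟩ := ex y
    obtain ⟨F, a1, a2⟩ : ∃ F, Adj (NN a) q (EE a x') F ∧ Adj (NN a) q (EE a y') F := by
      obtain ⟨F, hF⟩ := (h.st.kit a).ka.nbr (h.ln.vx hx)
      by_cases e : EE a x' = EE a y'
      · exact ⟨F, hF, e ▸ hF⟩
      · exact ((h.st.kit a).l3.fa hF).join _ _ (Same.refl _ _) (h.ln.same hx hy) e
    have hF : Pln NN q EE a F := ⟨x', hx, a1⟩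
    refine ⟨F, hF, ?_, ?_⟩
    · rcases ex' with rfl | rfl
      exacts [hF.mem h.st, (ha.fixF hF _ hx).2 a1]
    · rcases ey' with rfl | rfl
      exacts [hF.mem h.st, (ha.fixF hF _ hy).2 a2]
  · have ne' : a ≠ y := fun e => hy (e ▸ h.ln.left h.st ne)
    exact (h.st.kit a).ka.uniq (fun e : EE a x = EE a y => hy (e ▸ h.ln.right h.st ne')) ((ha.fixF hF x ne).1 h1)
      ((ha.fixF hF y ne').1 h2) ((ha.fixF hF' x ne).1 h3) ((ha.fixF hF' y ne').1 h4)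
  · obtain ⟨y, -, hA⟩ := id hF
    obtain ⟨X, hX, n1, -⟩ := (h.st.kit x).ka.third hA hA
    obtain ⟨Y, hY, n2, n3⟩ := (h.st.kit x).ka.third hA hX
    exact ((h.st.kit x).l3.fd hA).three g hs X Y hX hY n1 n2 n3.symm (nj hF hA g hg)
      (nj hF hX g hg) (nj hF hY g hg)
  · obtain ⟨y, -, hA⟩ := id hF
    obtain ⟨X, hX, n1, -⟩ := (h.st.kit x).ka.third hA hA
    obtain ⟨s, hs, e⟩ := (h.st.kit x).ka.trN hA hX
    exact n1 (e.symm.trans (cj_eq_self (nj hF hA s (le hs))))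

end Cfsg.Agent.H86.HlP3b
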