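import Mathlib
import Cfsg.Agent.H6.E82Defs

/-! Project E82, piece MULT: eigenvalue multiplicities along a composition series. -/

set_option autoImplicit false

namespace Cfsg.Agent.H86.E82Mult

open Cfsg.Agent.H6.E82 Module Finset

section
variable {k W W' : Type*} [Field k] [AddCommGroup W] [Module k W] [AddCommGroup W'] [Module k W']
  [FiniteDimensional k W]

theorem fin_add (Φ : W →ₗ[k] W') {T T' : Submodule k W} (hT : T ≤ T')
    (h : ∀ v ∈ T', Φ v = 0 ↔ v ∈ T) : finrank k T' = finrank k T + finrank k (T'.map Φ) := by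
  have h1 := LinearMap.finrank_range_add_finrank_ker (Φ.domRestrict T')
  have h2 : LinearMap.ker (Φ.domRestrict T') = T.comap T'.subtype := by
    ext v
    simpa using h v.1 v.2
  rw [LinearMap.range_domRestrict, h2, (Submodule.comapSubtypeEquivOfLe hT).finrank_eq] at h1
  omega

theorem step_dm (f : Module.End k W) (f' : Module.End k W') (Φ : W →ₗ[k] W')
    {U U' : Submodule k W} (hU : U ≤ U') (hf : ∀ v ∈ U', f v ∈ U')
    (hΦ : ∀ v ∈ U', Φ (f v) = f' (Φ v)) (hk : ∀ v ∈ U', Φ v = 0 ↔ v ∈ U) {n : ℕ} (hn : (n : k) ≠ 0)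
    (hfn : f ^ n = 1) {η : k} (hη : η ^ n = 1) :
    finrank k (U' ⊓ f.eigenspace η : Submodule k W) =
      finrank k (U ⊓ f.eigenspace η : Submodule k W) +
        finrank k (U'.map Φ ⊓ f'.eigenspace η : Submodule k W') := by
  have hn0 : n ≠ 0 := by rintro rfl; exact hn Nat.cast_zero
  have hη0 : η ≠ 0 := by rintro rfl; rw [zero_pow hn0] at hη; exact zero_ne_one hη
  have h1 : (U' ⊓ f.eigenspace η).map Φ = U'.map Φ ⊓ f'.eigenspace η := by
    refine le_antisymm ?_ ?_
    · rintro _ ⟨v, ⟨hv, he⟩, rfl⟩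
      refine ⟨⟨v, hv, rfl⟩, Module.End.mem_eigenspace_iff.2 ?_⟩
      rw [← hΦ v hv, Module.End.mem_eigenspace_iff.1 he, map_smul]
    · rintro _ ⟨⟨v, hv, rfl⟩, he⟩
      have he := Module.End.mem_eigenspace_iff.1 he
      have hp : ∀ j : ℕ, (f ^ j) v ∈ U' ∧ Φ ((f ^ j) v) = η ^ j • Φ v := by
        intro j
        induction j with
        | zero => simpa using hv
        | succ j ih =>
          rw [pow_succ', Module.End.mul_apply]
          refine ⟨hf _ ih.1, ?_⟩
          rw [hΦ _ ih.1, ih.2, map_smul, he, smul_smul, pow_succ]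
      let a : ℕ → W := fun j => (η⁻¹) ^ j • (f ^ j) v
      have ha : ∑ j ∈ range n, a (j + 1) = ∑ j ∈ range n, a j := by
        have h2 := sum_range_succ a n
        have h3 : a n = a 0 := by simp [a, hfn, hη]
        rw [sum_range_succ', h3] at h2
        exact add_right_cancel h2
      refine ⟨(n : k)⁻¹ • ∑ j ∈ range n, a j, ⟨U'.smul_mem _ (U'.sum_mem fun j _ =>
        U'.smul_mem _ (hp j).1), Module.End.mem_eigenspace_iff.2 ?_⟩, ?_⟩
      · rw [map_smul, smul_comm, map_sum]
        congr 1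
        rw [← ha, smul_sum]
        refine sum_congr rfl fun j _ => ?_
        simp only [a, map_smul, smul_smul]
        rw [pow_succ' f, Module.End.mul_apply]
        congr 1
        rw [pow_succ]
        field_simp
      · rw [map_smul, map_sum, sum_congr rfl (g := fun _ => Φ v) fun j _ => by
          simp only [a, map_smul, (hp j).2, smul_smul]
          rw [← mul_pow, inv_mul_cancel₀ hη0, one_pow, one_smul]]
        rw [sum_const, card_range, ← Nat.cast_smul_eq_nsmul k, smul_smul, inv_mul_cancel₀ hn,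
          one_smul]
  rw [← h1]
  refine fin_add Φ (inf_le_inf_right _ hU) fun v hv => ?_
  rw [hk v hv.1]
  exact ⟨fun h => ⟨h, hv.2⟩, fun h => h.1⟩

end

theorem SE_cons (L : List ℕ) {r : ℕ} (hr : r < 64) (n e : ℕ) :
    SE (fun s => (r :: L).count s) n e = SE (fun s => L.count s) n e + EE n r e := by
  unfold SE
  simp only [List.count_cons, add_mul, sum_add_distrib, beq_iff_eq, ite_mul, one_mul, zero_mul]
  rw [sum_ite_eq, if_pos (mem_range.2 hr)]

theorem mult (hP : ParStmt) (hM : MonoStmt) (hX : EigxStmt) (hT : EigtStmt) : MultStmt := by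
  intro p W _ _ _ ρ U L hS
  obtain ⟨h65, h63, -, hl, -⟩ := hP.2 p
  induction hS with
  | nil =>
    refine ⟨⟨fun e _ => ?_, fun e _ => ?_⟩, by simp⟩ <;> simp [dm, SE]
  | @cons U U' L r _ hs ih =>
    obtain ⟨hr, hU, hI, Φ, hΦ, hm, hk⟩ := hs
    obtain ⟨⟨i1, i2⟩, i3⟩ := ih
    refine ⟨⟨fun e he => ?_, fun e he => ?_⟩, ?_⟩
    · rw [SE_cons L hr, ← i1 e he, ← hX p r hr e he]
      unfold dm
      rw [← hm]
      refine step_dm _ _ Φ hU (hI _) (hΦ _) hk (n := 65) ?_ ?_ ?_
      · rw [Ne, CharP.cast_eq_zero_iff K 2]; decide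
      · rw [← map_pow, ← h65, pow_orderOf_eq_one, map_one]
      · rw [← pow_mul, mul_comm, pow_mul, ← Units.val_pow_eq_pow_val, p.hθ.pow_eq_one,
          Units.val_one, one_pow]
    · rw [SE_cons L hr, ← i2 e he, ← hT p r hr e he]
      unfold dm
      rw [← hm]
      refine step_dm _ _ Φ hU (hI _) (hΦ _) hk (n := 63) ?_ ?_ ?_
      · rw [Ne, CharP.cast_eq_zero_iff K 2]; decide
      · rw [← map_pow, ← h63, pow_orderOf_eq_one, map_one]
      · rw [← pow_mul, mul_comm, pow_mul, ← Units.val_pow_eq_pow_val, hl.pow_eq_one,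
          Units.val_one, one_pow]
    · rw [fin_add Φ hU hk, hm, ((hM p).2 r hr).2.1, i3, List.map_cons, List.sum_cons, add_comm]

end Cfsg.Agent.H86.E82Mult
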