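import Cfsg.Agent.H6.TIDefs
import Cfsg.Agent.H10.HBe1
import Cfsg.Agent.H86.ZDFinal

/-! Cliques of points give Bender groups. -/

set_option autoImplicit false

namespace Cfsg.Agent.H86.TB

open Cfsg Subgroup Cfsg.Agent.H6.TI MulAction
open Cfsg.Agent.H83 (cj)
open Cfsg.Agent.H6.ZD (ZH FB)
open Cfsg.Agent.H10.HB
open Cfsg.Agent.H8.GD (KD)
open scoped Cfsg.Agent.H63 commutatorElement

universe u

variable {G : Type u} [Group G] [Finite G] {Ω Γ : Set (Subgroup G)}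

/-- the elements permuting `Γ` -/
def NG (Γ : Set (Subgroup G)) : Subgroup G :=
  let M : Submonoid G :=
    { carrier := {g | Nor Γ g}
      one_mem' := fun P hP => by rwa [H83.cj_one]
      mul_mem' := fun ha hb P hP => H83.cj_mul _ _ P ▸ ha _ (hb P hP) }
  { M with
    inv_mem' := fun {g} hg => by
      have := M.pow_mem hg (orderOf g - 1)
      rwa [eq_inv_of_mul_eq_one_left (show g ^ (orderOf g - 1) * g = 1 by
        rw [← pow_succ, Nat.sub_add_cancel (orderOf_pos g), pow_orderOf_eq_one])] at this }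

instance : MulAction (NG Γ) Γ where
  smul g P := ⟨cj g P, g.2 P P.2⟩
  one_smul P := Subtype.ext (H83.cj_one _)
  mul_smul g k P := Subtype.ext (H83.cj_mul _ _ _)

/-- the induced group -/
abbrev Im (Γ : Set (Subgroup G)) : Subgroup (Equiv.Perm Γ) := (toPermHom (NG Γ) Γ).range

/-- the projection -/
abbrev pj (Γ : Set (Subgroup G)) : NG Γ →* Im Γ := (toPermHom (NG Γ) Γ).rangeRestrict

/-- the images of the elements of the points -/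
def DD (Γ : Set (Subgroup G)) : Set (Im Γ) := {d | d ≠ 1 ∧ ∃ P ∈ Γ, ∃ p : NG Γ, p.1 ∈ P ∧ pj Γ p = d}

theorem fix_iff {g : NG Γ} {P : Γ} : pj Γ g • P = P ↔ g.1 ∈ N[P.1] :=
  Subtype.ext_iff.trans H83.cj_eq_self_iff

theorem one_iff {g : NG Γ} : pj Γ g = 1 ↔ Fx Γ g.1 :=
  ⟨fun e P hP => (fix_iff (P := ⟨P, hP⟩)).1 (by rw [e, one_smul]),
    fun e => Subtype.ext (Equiv.ext fun P => fix_iff.2 (e P P.2))⟩

theorem pt_eq (c : Clq Ω Γ) {P : Subgroup G} (hP : P ∈ Γ) {p : NG Γ} (hp : p.1 ∈ P)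
    (h1 : pj Γ p ≠ 1) {Q : Γ} (e : pj Γ p • Q = Q) : Q = ⟨P, hP⟩ := by
  by_contra n
  exact h1 (one_iff.2 fun R hR => c.ax P hP Q Q.2 R hR (fun e => n (Subtype.ext e.symm))
    ⟨hp, fix_iff.1 e⟩)

theorem zh (h : TI Ω) (c : Clq Ω Γ) : ZH (Im Γ) Γ (DD Γ) := by
  have sq : ∀ d ∈ DD Γ, d * d = 1 := by
    rintro _ ⟨-, P, hP, p, hp, rfl⟩
    rw [← map_mul, show p * p = 1 from Subtype.ext (h.sq P (c.sub hP) _ hp), map_one]
  have fix : ∀ d ∈ DD Γ, ∃! ω : Γ, d • ω = ω := by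
    rintro _ ⟨h1, P, hP, p, hp, rfl⟩
    exact ⟨⟨P, hP⟩, fix_iff.2 (le_normalizer hp), fun Q e => pt_eq c hP hp h1 e⟩
  refine ⟨fun d hd => orderOf_eq_prime (by rw [pow_two, sq d hd]) hd.1, ?_, fix, ?_⟩
  · rintro _ ⟨h1, P, hP, p, hp, rfl⟩ g
    obtain ⟨g, rfl⟩ := (toPermHom (NG Γ) Γ).rangeRestrict_surjective g
    exact ⟨by simpa using h1, _, g.2 P hP, g * p * g⁻¹, ⟨p, hp, rfl⟩, by simp⟩
  · rintro _ ⟨h1, P, hP, p, hp, rfl⟩ _ hb ne cm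
    obtain ⟨h2, Q, hQ, q, hq, rfl⟩ := id hb
    have : pj Γ q • (⟨P, hP⟩ : Γ) = ⟨P, hP⟩ := pt_eq c hP hp h1 (by
      rw [← mul_smul, cm, mul_smul, (fix_iff (P := ⟨P, hP⟩)).2 (le_normalizer hp)])
    obtain rfl : P = Q := congrArg Subtype.val (pt_eq c hQ hq h2 this)
    exact fix _ ⟨fun e => ne (by rw [eq_inv_of_mul_eq_one_left e,
      inv_eq_of_mul_eq_one_right (sq _ hb)]), P, hP, p * q, mul_mem hp hq, map_mul _ _ _⟩

theorem le_NG (c : Clq Ω Γ) {P : Subgroup G} (hP : P ∈ Γ) : P ≤ NG Γ := c.cl P hP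

theorem one_iff' (c : Clq Ω Γ) {A B : Subgroup G} (hA : A ∈ Γ) (hB : B ∈ Γ) (ne : A ≠ B) {g : NG Γ}
    (hg : g.1 ∈ A) : pj Γ g = 1 ↔ g.1 ∈ ax A B :=
  one_iff.trans ⟨fun e => ⟨hg, e B hB⟩, fun e R hR => c.ax A hA B hB R hR ne e⟩

theorem fb (h : TI Ω) (ba : BA Ω) (c : Clq Ω Γ) {A B : Subgroup G} (hA : A ∈ Γ) (hB : B ∈ Γ)
    (ne : A ≠ B) (q4 : 4 ≤ qq A B) : FB (Im Γ) Γ (DD Γ) := by
  have nt : Nontrivial Γ := ⟨⟨A, hA⟩, ⟨B, hB⟩, fun e => ne (congrArg Subtype.val e)⟩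
  have orb : ∀ ω : Γ, ∃ d ∈ DD Γ, d • ω = ω := fun P => by
    obtain ⟨Q, hQ⟩ := exists_ne P
    obtain ⟨p, hp, n⟩ := SetLike.not_le_iff_exists.1 fun e =>
      hQ (Subtype.ext (h.wc _ (c.sub P.2) _ (c.sub Q.2) e).symm)
    exact ⟨pj Γ ⟨p, le_NG c P.2 hp⟩, ⟨fun e => n (one_iff.1 e Q Q.2), P, P.2, _, hp, rfl⟩,
      fix_iff.2 (le_normalizer hp)⟩
  have ker : ∀ x : Im Γ, x ∈ H6.ZD.kerD (DD Γ) Γ ⊤ → x = 1 := fun x hx =>
    Subtype.ext (Equiv.ext fun P => by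
      obtain ⟨d, hd, e⟩ := orb P
      exact hx.2 ⟨P, d, hd, trivial, e⟩)
  refine ⟨zh h c, inferInstance, orb, nt, ?_, fun x hx x2 => ?_⟩
  · obtain ⟨a, ha, n⟩ := SetLike.not_le_iff_exists.1 fun e => ne (h.wc _ (c.sub hA) _ (c.sub hB) e)
    obtain ⟨b, n1, n2⟩ : ∃ b : A, b.1 * a ∉ ax A B ∧ b.1 ∉ ax A B := by
      by_contra! k
      have := Nat.le_of_dvd two_pos (index_dvd_two_iff.2 ⟨⟨a, ha⟩, fun b => or_iff_not_imp_left.2
        (k b)⟩ : ((ax A B).subgroupOf A).index ∣ 2)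
      unfold qq relIndex at q4
      omega
    have k := fun {g} => one_iff' c hA hB ne (g := g)
    refine ⟨pj Γ ⟨a, le_NG c hA ha⟩, ⟨fun e => n ((k ha).1 e).2, A, hA, _, ha, rfl⟩,
      pj Γ ⟨b, le_NG c hA b.2⟩, ⟨fun e => n2 ((k b.2).1 e), A, hA, _, b.2, rfl⟩, trivial, trivial,
      fun e => n1 ((k (g := ⟨b, le_NG c hA b.2⟩ * ⟨a, le_NG c hA ha⟩) (mul_mem b.2 ha)).1 ?_), ?_⟩
    · rw [map_mul, ← e, ← map_mul]
      exact (congrArg _ (Subtype.ext (h.sq A (c.sub hA) a ha))).trans (map_one _)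
    · rw [← map_mul, ← map_mul]
      exact congrArg _ (Subtype.ext (ba.mul_comm A (c.sub hA) a ha b b.2))
  · obtain ⟨P, Q, n⟩ := nt
    obtain ⟨d, hd, e⟩ := orb P
    obtain ⟨d', hd', e'⟩ := orb Q
    obtain ⟨ω, h1, h2⟩ := ZB.allStmt zd_coreStmt _ (zh h c) ⊤
      ⟨P, ⟨d, hd, trivial, e⟩, Q, ⟨d', hd', trivial, e'⟩, n⟩ x hx
      (fun k => by rw [ker x k, orderOf_one] at x2; omega)
      (by rw [← pow_two, ← x2, pow_orderOf_eq_one]; exact one_mem _)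
    refine ⟨ω, h1.2, fun R k => ?_⟩
    obtain ⟨d, hd, e⟩ := orb R
    exact h2 R ⟨⟨d, hd, trivial, e⟩, k⟩

theorem EE_eq (c : Clq Ω Γ) {A : Subgroup G} (hA : A ∈ Γ) :
    EE (DD Γ) (⟨A, hA⟩ : Γ) = ((pj Γ).comp (inclusion (le_NG c hA))).range := by
  refine le_antisymm ((closure_le _).2 ?_) ?_
  · rintro _ ⟨⟨h1, P, hP, p, hp, rfl⟩, e⟩
    obtain rfl : A = P := congrArg Subtype.val (pt_eq c hP hp h1 e)
    exact ⟨⟨p, hp⟩, rfl⟩
  · rintro _ ⟨a, rfl⟩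
    by_cases e : (pj Γ).comp (inclusion (le_NG c hA)) a = 1
    · exact e ▸ one_mem _
    · exact subset_closure ⟨⟨e, A, hA, _, a.2, rfl⟩, fix_iff.2 (le_normalizer a.2)⟩

theorem be : BEStmt.{u} := by
  intro G _ _ Ω h ba
  refine ⟨fun Γ c A hA B hB ne q4 y yN yΓ y2 ⟨a, ha, n⟩ => ?_,
    fun Γ c A hA B hB ne q4 y yN y' yN' yΓ yΓ' y2 y2' cm => ?_⟩
  · have F := fb h ba c hA hB ne q4
    set ρ := (pj Γ).comp (inclusion (le_NG c hA)) with hρ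
    set Y := pj Γ ⟨y, yΓ⟩ with hY
    have Y2 : Y * Y = 1 := by rw [← map_mul]; exact (congrArg _ (Subtype.ext y2)).trans (map_one _)
    have YA : Y • (⟨A, hA⟩ : Γ) = ⟨A, hA⟩ := fix_iff.2 yN
    have k : ∀ a : A, ρ a * Y = Y * ρ a ↔ ⁅a.1, y⁆ ∈ ax A B := fun a => by
      rw [← commutatorElement_eq_one_iff_mul_comm, hρ, MonoidHom.comp_apply, ← map_commutatorElement]
      refine one_iff' c hA hB ne ?_
      change a.1 * y * a.1⁻¹ * y⁻¹ ∈ A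
      rw [mul_assoc, mul_assoc, ← mul_assoc y]
      exact mul_mem a.2 ((mem_normalizer_iff.1 yN _).1 (inv_mem a.2))
    have aE : ρ ⟨a, ha⟩ ∈ EE (DD Γ) (⟨A, hA⟩ : Γ) := EE_eq c hA ▸ ⟨_, rfl⟩
    obtain ⟨β, b1, b2⟩ := second F Y2 (fun e => n ((k ⟨a, ha⟩).1
      (EE_comm F aE ((mem_EE F).2 ⟨e, Y2, YA⟩)))) ⟨A, hA⟩
    have e1 := ((rk F ⟨A, hA⟩).fld β (mem_orb F β) b1 Y trivial YA b2 (Y2 ▸ one_mem _)
      fun e => n ((k ⟨a, ha⟩).1 ((centMod_iff F).1 e _ aE).symm)).2 (norm_EE F YA)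
    rw [EE_eq c hA, ← hρ] at e1
    have e2 : {a | a ∈ A ∧ ⁅a, y⁆ ∈ ax A B}.ncard = Nat.card ((ρ.range ⊓ C1[Y]).comap ρ) := by
      rw [← card_map_of_injective A.subtype_injective, ← Nat.card_coe_set_eq]
      refine Nat.card_congr (Equiv.subtypeEquivRight fun x => ⟨fun ⟨a, b⟩ => ⟨⟨x, a⟩,
        ⟨⟨_, rfl⟩, mem_centralizer_singleton_iff.2 ((k _).2 b)⟩, rfl⟩, ?_⟩)
      rintro ⟨a, b, rfl⟩
      exact ⟨a.2, (k a).1 (mem_centralizer_singleton_iff.1 b.2)⟩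
    have e3 := ((ρ.range ⊓ C1[Y]).comap ρ).card_mul_index
    have e4 := ((ρ.range ⊓ C1[Y]).subgroupOf ρ.range).card_mul_index
    have e5 := ρ.ker.card_mul_index
    rw [index_comap, ← e2, relIndex] at e3
    rw [Nat.card_congr (subgroupOfEquivOfLe inf_le_left).toEquiv, ← e1, pow_two] at e4
    rw [index_ker, show ρ.ker = (ax A B).subgroupOf A from
      Subgroup.ext fun a => one_iff' c hA hB ne a.2,
      Nat.card_congr (subgroupOfEquivOfLe ax_le).toEquiv, ← e1] at e5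
    have p : 0 < Nat.card ↥(ρ.range ⊓ C1[Y]) := Nat.card_pos
    rw [Nat.eq_of_mul_eq_mul_left p e4, ← e5, pow_two, ← mul_assoc] at e3
    rw [Nat.eq_of_mul_eq_mul_right p e3, ← e5, hh]
    ring
  · have F := fb h ba c hA hB ne q4
    have k : ∀ x : NG Γ, x.1 ∈ N[A] → x.1 * x.1 = 1 → pj Γ x ∈ KD (DD Γ) ⊤ →
        ∃ a ∈ A, Fx Γ (x * a) := fun x h1 h2 h3 => by
      have sq : pj Γ x * pj Γ x = 1 := by
        rw [← map_mul]; exact (congrArg _ (Subtype.ext h2)).trans (map_one _)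
      obtain ⟨a, e⟩ := EE_eq c hA ▸ (mem_EE F).2 ⟨h3, sq, (fix_iff (P := ⟨A, hA⟩)).2 h1⟩
      exact ⟨a, a.2, (one_iff (g := x * inclusion (le_NG c hA) a)).1 (by
        rw [map_mul, ← sq, ← e]; rfl)⟩
    by_cases h1 : pj Γ ⟨y, yΓ⟩ ∈ KD (DD Γ) ⊤
    · exact ⟨y, Or.inl rfl, k ⟨y, yΓ⟩ yN y2 h1⟩
    by_cases h2 : pj Γ ⟨y', yΓ'⟩ ∈ KD (DD Γ) ⊤
    · exact ⟨y', Or.inr (Or.inl rfl), k ⟨y', yΓ'⟩ yN' y2' h2⟩
    refine ⟨y * y', Or.inr (Or.inr rfl), k (⟨y, yΓ⟩ * ⟨y', yΓ'⟩) (mul_mem yN yN') ?_ ?_⟩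
    · change y * y' * (y * y') = 1
      rw [mul_assoc, ← mul_assoc y', ← cm, mul_assoc, y2', mul_one, y2]
    · rw [map_mul]
      refine b4 F ?_ ?_ ?_ h1 h2 <;> simp only [← map_mul]
      · exact (congrArg _ (Subtype.ext y2)).trans (map_one _)
      · exact (congrArg _ (Subtype.ext y2')).trans (map_one _)
      · exact congrArg _ (Subtype.ext cm)

theorem eqns : True := by
  have := @NG.eq_1.{0}
  have := @DD.eq_1.{0}
  have := @hh.eq_1.{0}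
  have := @qq.eq_1.{0}
  trivial

end Cfsg.Agent.H86.TB
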