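import Cfsg.Agent.H73.CVKit
import Cfsg.Agent.H20.C6Prim

/-! # Project CV: the pieces PRIM and REAL -/

set_option autoImplicit false

namespace Cfsg.Agent.H86.CvPrim

open Matrix Cfsg.Geo Cfsg.Agent.H26
open Cfsg.Agent.H25 Cfsg.Agent.H73.CV
open Cfsg.Agent.H25.CU (qF hf subSU qF_eq hf_eq)
open Cfsg.Agent.H25.C6 hiding Fld Mod Bc Low Ar Tri StdStmt NrmStmt EsStmt GeoStmt TpStmt TvStmt OddStmt ZsStmt H3bStmt
  H3cStmt H3dStmt H3Stmt A1Stmt K0Stmt SwStmt PrimStmt RealStmt BigStmt SmallStmt ClsStmt A2Stmt CopStmt Tv5Stmt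
  LiftStmt KbStmt KoddStmt UqStmt One
open scoped MatrixGroups commutatorElement

universe u

theorem prim : PrimStmt.{u} := by
  intro F _ _ r n p ω H h
  obtain ⟨w, hw, hw'⟩ := h.w
  have ho := h.fld.ord
  refine H20.C6P.gen (r := r) ?_ ?_ ?_ (fun k => ?_) (fun k hk => ?_) h.z h.u hw (fun k l hkl => ?_) ?_
  · rcases h.fld.rn with ⟨-, rfl⟩ | ⟨-, rfl⟩ <;> norm_num
  · rcases h.fld.rn with ⟨rfl, -⟩ | ⟨rfl, -⟩ <;> norm_num
  · intro k l hkl
    rw [pow_eq_pow_iff_modEq, ho] at hkl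
    rcases h.fld.rn with ⟨rfl, rfl⟩ | ⟨rfl, rfl⟩ <;> revert k l <;> decide
  · rw [← pow_mul, mul_comm, pow_mul, ← ho, pow_orderOf_eq_one, one_pow]
  · rw [← orderOf_dvd_iff_pow_eq_one, ho] at hk
    rcases h.fld.rn with ⟨rfl, rfl⟩ | ⟨rfl, rfl⟩ <;> revert k <;> decide
  · rw [hw', wB, of_apply, sub_eq_zero, Units.val_inj, inv_pow, eq_inv_iff_mul_eq_one, ← pow_add,
      ← orderOf_dvd_iff_pow_eq_one, ho] at hkl
    rcases h.fld.rn with ⟨rfl, rfl⟩ | ⟨rfl, rfl⟩ <;> revert k l <;> decide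
  · intro e he h1
    have h2 := Nat.le_of_dvd (by rcases h.fld.rn with ⟨-, rfl⟩ | ⟨-, rfl⟩ <;> norm_num) he
    rcases h.fld.rn with ⟨rfl, rfl⟩ | ⟨rfl, rfl⟩ <;> norm_num at h2 <;> interval_cases e <;>
      revert he h1 <;> decide

theorem no_shift7 : ∀ c : ZMod 7, ∃ k : Fin 3, ∀ l : Fin 3,
    ((((k : ℕ) + 1) * (k + 1) + ((l : ℕ) + 1) * (l + 1) : ℕ) : ZMod 7) ≠ c := by decide

theorem no_shift11 : ∀ c : ZMod 11, ∃ k : Fin 5, ∀ l : Fin 5,
    ((((k : ℕ) + 1) * (k + 1) + ((l : ℕ) + 1) * (l + 1) : ℕ) : ZMod 11) ≠ c := by decide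

theorem realS : RealStmt.{u} := fun F _ _ r n p ω H P h hP hR => by
  have hF := h.fld
  haveI := Fact.mk hF.prime_r
  haveI : Nonempty (Fin n) := ⟨⟨0, by have := hF.three_le; omega⟩⟩
  obtain ⟨ε, f, hf, -, hfix⟩ := exists_sq_of_trace (σ := idF F) (fun _ => rfl) hP.galg_top hR
  obtain ⟨c, hc⟩ := hf.sesq.le_similarityGroup hP.galg_top hP.nb hf.nondeg hfix h.u
  have key : ∀ k : Fin n, ∃ l : Fin n,
      ω ^ (((k : ℕ) + 1) * (k + 1) + ((l : ℕ) + 1) * (l + 1)) = c := fun k => by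
    by_contra H
    push Not at H
    have h0 : ∀ l, f (Pi.single k 1) (Pi.single l 1) = 0 := fun l => by
      have h1 := hc (Pi.single k 1) (Pi.single l 1)
      have h2 : ∀ m : Fin n, (uB n ω).1 *ᵥ Pi.single m 1 =
          ((ω ^ (((m : ℕ) + 1) * (m + 1)) : Fˣ) : F) • Pi.single m 1 := fun m => by
        ext j
        by_cases e : j = m <;> simp [uB, coe_gD, e]
      rw [h2, h2, hf.sesq.smul_left, hf.sesq.smul_right, ← mul_assoc] at h1
      refine (mul_eq_zero.1 ((sub_mul _ _ _).trans (sub_eq_zero.2 h1))).resolve_left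
        fun e => H l (Units.ext ?_)
      rw [pow_add]
      exact sub_eq_zero.1 e
    refine absurd (hf.nondeg (Pi.single k 1) fun v => ?_) (by simp)
    rw [pi_eq_sum_univ' v, hf.sesq.sum_right]
    simp [hf.sesq.smul_right, h0]
  obtain ⟨l, hl⟩ := key ⟨0, by have := hF.three_le; omega⟩
  have h3 : ∀ k : Fin n, ∃ m : Fin n, ((((k : ℕ) + 1) * (k + 1) + ((m : ℕ) + 1) * (m + 1) : ℕ) :
      ZMod r) = ((0 + 1) * (0 + 1) + ((l : ℕ) + 1) * (l + 1) : ℕ) := fun k =>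
    (key k).imp fun m hm => hF.ch_inj (by rw [ch_nat hF.pow_r, ch_nat hF.pow_r, hm, ← hl])
  rcases hF.rn with ⟨rfl, rfl⟩ | ⟨rfl, rfl⟩
  · exact (no_shift7 _).elim fun k hk => (h3 k).elim hk
  · exact (no_shift11 _).elim fun k hk => (h3 k).elim hk

end Cfsg.Agent.H86.CvPrim
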