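import Cfsg.Agent.H74.CksDefs

/-!
# Conjugacy of the uncovered nodes in a doubly transitive action
-/

set_option autoImplicit false

namespace Cfsg.Agent.H86.Hcd

open Cfsg.Agent.H35 Cfsg.Agent.Lead.T3 Cfsg.Agent.H74.Cks

section abs

variable {G Ω : Type} [Group G] [MulAction G Ω] [Fintype Ω]

theorem sum_smul (g : G) (f : Ω → ℚ) : ∑ x, f (g • x) = ∑ x, f x :=
  Equiv.sum_comp (MulAction.toPerm g) f

theorem exists_ne_zero [Finite G] (h2 : MulAction.IsMultiplyPretransitive G Ω 2)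
    (h1 : ∀ x y : Ω, ∃ g : G, g • x = y) {f f' : Ω → ℚ} {x₀ y₀ : Ω} (hx : f x₀ ≠ 0)
    (hy : f' y₀ ≠ 0) (hf : ∑ x, f x = 0) (hf' : ∑ x, f' x = 0) :
    ∃ g : G, ∑ x, f x * f' (g • x) ≠ 0 := by
  classical
  have := Fintype.ofFinite G
  by_contra hc
  push Not at hc
  set D : Finset G := Finset.univ.filter fun g : G => g • x₀ = y₀ with hD
  set F : Ω → ℚ := fun x => ∑ g ∈ D, f' (g • x) with hF
  have hF0 : F x₀ ≠ 0 := by
    have : F x₀ = D.card * f' y₀ := by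
      simp only [hF]
      rw [Finset.sum_congr rfl (g := fun _ => f' y₀)]
      · simp
      · intro g hg
        rw [(Finset.mem_filter.1 hg).2]
    rw [this]
    obtain ⟨g, hg⟩ := h1 x₀ y₀
    have : D.card ≠ 0 := Finset.card_ne_zero.2 ⟨g, Finset.mem_filter.2 ⟨Finset.mem_univ _, hg⟩⟩
    exact mul_ne_zero (by exact_mod_cast this) hy
  have hinv : ∀ h : G, h • x₀ = x₀ → ∀ x, F (h • x) = F x := by
    intro h hh x
    simp only [hF]
    refine Finset.sum_bijective (fun g => g * h) (Group.mulRight_bijective h) ?_ ?_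
    · intro g
      simp only [hD, Finset.mem_filter, Finset.mem_univ, true_and, mul_smul, hh]
    · intro g _
      rw [mul_smul]
  have hsum : ∑ x, F x = 0 := by
    simp only [hF]
    rw [Finset.sum_comm]
    refine Finset.sum_eq_zero fun g _ => ?_
    rw [sum_smul, hf']
  have hpair : ∑ x, f x * F x = 0 := by
    simp only [hF, Finset.mul_sum]
    rw [Finset.sum_comm]
    exact Finset.sum_eq_zero fun g _ => hc g
  by_cases hex : ∃ x₁, x₁ ≠ x₀
  · obtain ⟨x₁, hx₁⟩ := hex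
    have hconst : ∀ x, x ≠ x₀ → F x = F x₁ := by
      intro x hxx
      obtain ⟨g, hg, hg'⟩ := MulAction.is_two_pretransitive_iff.1 h2 hx₁.symm hxx.symm
      rw [← hg', hinv g hg]
    have e1 : ∑ x, f x * (F x - F x₁) = 0 := by
      simp only [mul_sub, Finset.sum_sub_distrib, hpair, ← Finset.sum_mul, hf]
      simp
    rw [Finset.sum_eq_single x₀ (fun x _ hxx => by rw [hconst x hxx]; simp) (by simp)] at e1
    have e2 : F x₀ = F x₁ := sub_eq_zero.1 ((mul_eq_zero.1 e1).resolve_left hx)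
    have e3 : ∀ x, F x = F x₀ := by
      intro x
      by_cases hxx : x = x₀
      · rw [hxx]
      · rw [hconst x hxx, e2]
    rw [Finset.sum_congr rfl (fun x _ => e3 x)] at hsum
    simp only [Finset.sum_const, Finset.card_univ, nsmul_eq_mul, mul_eq_zero, Nat.cast_eq_zero,
      hF0, or_false] at hsum
    exact (Fintype.card_pos_iff.2 ⟨x₀⟩).ne' hsum
  · push Not at hex
    rw [Finset.sum_eq_single x₀ (fun x _ hxx => absurd (hex x) hxx) (by simp)] at hf
    exact hx hf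

theorem avg_zero {X Q : Subgroup G} [Fintype X] (hn : ∀ y ∈ X, ∀ q ∈ Q, y * q * y⁻¹ ∈ Q)
    (ht : ∀ x z : Ω, ∃ u ∈ X ⊔ Q, u • x = z) {f : Ω → ℚ} (hf : ∑ x, f x = 0)
    (hQ : ∀ q ∈ Q, ∀ x, f (q • x) = f x) (z : Ω) : ∑ y : X, f ((y : G) • z) = 0 := by
  set A : Ω → ℚ := fun z => ∑ y : X, f ((y : G) • z) with hA
  let K : Subgroup G :=
    { carrier := {g | ∀ z, A (g • z) = A z}
      one_mem' := fun z => by rw [one_smul]
      mul_mem' := fun {a b} ha hb z => by rw [mul_smul, ha, hb]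
      inv_mem' := fun {a} ha z => by rw [← ha (a⁻¹ • z), smul_inv_smul] }
  have hX : X ≤ K := by
    intro a ha z
    simp only [hA]
    refine Fintype.sum_bijective (fun y : X => y * ⟨a, ha⟩) (Group.mulRight_bijective _) _ _ ?_
    intro y
    rw [← mul_smul]
    rfl
  have hQK : Q ≤ K := by
    intro a ha z
    simp only [hA]
    refine Finset.sum_congr rfl fun y _ => ?_
    rw [← hQ _ (hn y y.2 a ha) ((y : G) • z), ← mul_smul, ← mul_smul]
    congr 2
    group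
  have hc : ∀ x, A x = A z := by
    intro x
    obtain ⟨u, hu, rfl⟩ := ht z x
    exact sup_le hX hQK hu z
  have hs : ∑ x, A x = 0 := by
    simp only [hA]
    rw [Finset.sum_comm]
    refine Finset.sum_eq_zero fun y _ => ?_
    rw [sum_smul, hf]
  rw [Finset.sum_congr rfl (fun x _ => hc x)] at hs
  simp only [Finset.sum_const, Finset.card_univ, nsmul_eq_mul, mul_eq_zero,
    Nat.cast_eq_zero] at hs
  exact hs.resolve_left (Fintype.card_pos_iff.2 ⟨z⟩).ne'

theorem pair_zero [Finite G] {X Q Q' : Subgroup G} (hn : ∀ y ∈ X, ∀ q ∈ Q, y * q * y⁻¹ ∈ Q)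
    (ht : ∀ x z : Ω, ∃ u ∈ X ⊔ Q, u • x = z) {f f' : Ω → ℚ} (hf : ∑ x, f' x = 0)
    (hQ : ∀ q ∈ Q, ∀ x, f' (q • x) = f' x) (hQ' : ∀ q ∈ Q', ∀ x, f (q • x) = f x) {m : G}
    (hm : ∀ y ∈ X, m⁻¹ * y * m ∈ Q') : ∑ x, f x * f' (m • x) = 0 := by
  have := Fintype.ofFinite X
  have e1 : ∀ y : X, ∑ x, f x * f' ((y : G) • m • x) = ∑ x, f x * f' (m • x) := by
    intro y
    rw [← sum_smul (m⁻¹ * y * m) (fun x => f x * f' (m • x))]
    refine Finset.sum_congr rfl fun x _ => ?_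
    rw [hQ' _ (hm y y.2), ← mul_smul, ← mul_smul]
    congr 3
    group
  have e2 : ∑ y : X, ∑ x, f x * f' ((y : G) • m • x) = 0 := by
    rw [Finset.sum_comm]
    refine Finset.sum_eq_zero fun x _ => ?_
    rw [← Finset.mul_sum, avg_zero hn ht hf hQ, mul_zero]
  rw [Finset.sum_congr rfl (fun y _ => e1 y)] at e2
  simp only [Finset.sum_const, Finset.card_univ, nsmul_eq_mul, mul_eq_zero,
    Nat.cast_eq_zero] at e2
  exact e2.resolve_left Fintype.card_ne_zero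

theorem exists_fun {Q : Subgroup G} {x₀ x₁ : Ω} (h : ∀ q ∈ Q, q • x₀ ≠ x₁) :
    ∃ (f : Ω → ℚ) (z : Ω), f z ≠ 0 ∧ ∑ x, f x = 0 ∧ ∀ q ∈ Q, ∀ x, f (q • x) = f x := by
  classical
  set a : Ω → ℚ := fun x => if ∃ q ∈ Q, q • x₀ = x then 1 else 0 with ha
  have hpos : 0 < ∑ x, a x := by
    refine Finset.sum_pos' (fun x _ => ?_) ⟨x₀, Finset.mem_univ _, ?_⟩
    · simp only [ha]; split_ifs <;> norm_num
    · simp only [ha]; rw [if_pos ⟨1, Q.one_mem, one_smul _ _⟩]; norm_num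
  refine ⟨fun x => (Fintype.card Ω : ℚ) * a x - ∑ x, a x, x₁, ?_, ?_, ?_⟩
  · have : a x₁ = 0 := by
      simp only [ha]; rw [if_neg]; rintro ⟨q, hq, e⟩; exact h q hq e
    simp only [this, mul_zero, zero_sub, ne_eq, neg_eq_zero]
    exact hpos.ne'
  · simp [Finset.sum_sub_distrib, ← Finset.mul_sum]
  · intro q hq x
    have : (∃ q' ∈ Q, q' • x₀ = q • x) ↔ ∃ q' ∈ Q, q' • x₀ = x := by
      constructor
      · rintro ⟨r, hr, e⟩
        exact ⟨q⁻¹ * r, mul_mem (inv_mem hq) hr, by rw [mul_smul, e, inv_smul_smul]⟩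
      · rintro ⟨r, hr, e⟩
        exact ⟨q * r, mul_mem hq hr, by rw [mul_smul, e]⟩
    simp only [ha, this]

end abs

variable {G : Type} [Group G] {p n : ℕ} (S : Sys G p n)

theorem norm_Q {i : Fin n} {g : G} (hg : g ∈ BN.PJ S.bn {S.e i}) {q : G}
    (hq : q ∈ S.sp.U {S.e i}) : g * q * g⁻¹ ∈ S.sp.U {S.e i} := by
  simpa using S.sp.conj_mem (inv_mem hg) hq

theorem Q_eq (i : Fin n) : S.Q {i} = S.sp.U {S.e i} := by
  change S.sp.U _ = _
  rw [Finset.map_singleton]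
  rfl

theorem exists_fun' [Finite G] {H : Subgroup G} [Fintype (G ⧸ H)] {i : Fin n}
    (h : ¬ S.Full H {i}) :
    ∃ (f : G ⧸ H → ℚ) (z : G ⧸ H), f z ≠ 0 ∧ ∑ x, f x = 0 ∧
      ∀ q ∈ S.sp.U {S.e i}, ∀ x, f (q • x) = f x := by
  have hle : (H ⊓ S.U) ⊔ S.Q {i} ≤ S.U := by
    rw [Q_eq]
    exact sup_le inf_le_right (S.anti _ _ (Finset.empty_subset _))
  have hex : ∃ u ∈ S.U, u ∉ (H ⊓ S.U) ⊔ S.Q {i} := by
    by_contra hc
    push Not at hc
    exact h (le_antisymm hle hc)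
  obtain ⟨u, hu, hu'⟩ := hex
  refine exists_fun (x₀ := ((1 : G) : G ⧸ H)) (x₁ := (u : G ⧸ H)) fun q hq e => hu' ?_
  have e' : ((q : G) : G ⧸ H) = (u : G ⧸ H) := by
    rw [← e, MulAction.Quotient.smul_coe, smul_eq_mul, mul_one]
  rw [QuotientGroup.eq] at e'
  have hqU : q ∈ S.U := S.anti _ _ (Finset.empty_subset _) hq
  have : u = q * (q⁻¹ * u) := by group
  rw [this]
  refine mul_mem (Subgroup.mem_sup_right ?_)
    (Subgroup.mem_sup_left ⟨e', S.U.mul_mem (S.U.inv_mem hqU) hu⟩)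
  rw [Q_eq]; exact hq

theorem conj_of_mem {i j : Fin n} {w : BN.W S.bn}
    (h : w⁻¹ * S.w j * w ∈ BN.WJ S.bn (({S.e i} : Finset S.bn.S) : Set S.bn.S)) :
    IsConj (S.w i) (S.w j) := by
  have key : ∀ v ∈ BN.WJ S.bn (({S.e i} : Finset S.bn.S) : Set S.bn.S), v = 1 ∨ v = S.w i := by
    intro v hv
    induction hv using Subgroup.closure_induction with
    | mem x hx =>
      obtain ⟨k, hk, rfl⟩ := hx
      right
      rw [Finset.coe_singleton, Set.mem_singleton_iff] at hk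
      rw [hk]
    | one => exact Or.inl rfl
    | mul x y _ _ hx hy =>
      rcases hx with rfl | rfl <;> rcases hy with rfl | rfl
      · simp
      · simp
      · simp
      · exact Or.inl ((BN.gens S.bn).s_mul_s _)
    | inv x _ hx =>
      rcases hx with rfl | rfl
      · simp
      · exact Or.inr ((BN.gens S.bn).inv_s _)
  rcases key _ h with e | e
  · exfalso
    apply BN.gens_s_ne_one (S.e j)
    have : S.w j = w * (w⁻¹ * S.w j * w) * w⁻¹ := by group
    change S.w j = 1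
    rw [this, e]; group
  · rw [isConj_iff]
    exact ⟨w, by rw [← e]; group⟩

theorem hcdStmt : HcdStmt := by
  intro G _ _ _ p n _ S H hH hU i j hi hj
  classical
  have := Fintype.ofFinite (G ⧸ H)
  obtain ⟨f, x₀, hx, hf, hfQ⟩ := exists_fun' S hi
  obtain ⟨f', y₀, hy, hf', hfQ'⟩ := exists_fun' S hj
  have ht : ∀ x z : G ⧸ H, ∃ u ∈ S.X j ⊔ S.sp.U {S.e j}, u • x = z := by
    rw [S.X_sup]
    have h0 : ∀ x : G ⧸ H, ∃ u ∈ S.U, x = (u : G ⧸ H) := by
      intro x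
      obtain ⟨g, rfl⟩ := QuotientGroup.mk_surjective x
      obtain ⟨h, hh, u, hu, e⟩ := hU g⁻¹
      refine ⟨u⁻¹, inv_mem hu, QuotientGroup.eq.2 ?_⟩
      rw [e]; simpa using hh
    intro x z
    obtain ⟨u, hu, rfl⟩ := h0 x
    obtain ⟨v, hv, rfl⟩ := h0 z
    refine ⟨v * u⁻¹, mul_mem hv (inv_mem hu), ?_⟩
    rw [MulAction.Quotient.smul_coe, smul_eq_mul, inv_mul_cancel_right]
  have hXB : S.X j ≤ S.bn.B :=
    (le_sup_left.trans (S.X_sup j).le).trans (S.sp.U_le _)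
  have hn : ∀ y ∈ S.X j, ∀ q ∈ S.sp.U {S.e j}, y * q * y⁻¹ ∈ S.sp.U {S.e j} :=
    fun y hy q hq => norm_Q S (BN.B_le_PJ _ (hXB hy)) hq
  -- the main step
  have main : ∀ (m : G) (hm : m ∈ S.bn.N) (a c : G), a ∈ BN.PJ S.bn {S.e j} →
      c ∈ BN.PJ S.bn {S.e i} → (BN.gens S.bn).len (BN.mkW S.bn m hm) <
        (BN.gens S.bn).len (S.w j * BN.mkW S.bn m hm) →
      ∑ x, f x * f' ((a * m * c) • x) ≠ 0 → IsConj (S.w i) (S.w j) := by
    intro m hm a c ha hc hl hne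
    by_contra hnc
    apply hne
    have hm' := S.conj j m hm hl {S.e i} (fun h => hnc (conj_of_mem S h))
    have := pair_zero (f := fun x => f (c⁻¹ • x)) (f' := fun x => f' (a • x)) (m := m)
      (Q' := S.sp.U {S.e i}) hn ht (by rw [sum_smul a f', hf']) ?_ ?_ hm'
    · rw [← sum_smul c] at this
      simpa only [inv_smul_smul, mul_smul] using this
    · intro q hq x
      rw [← hfQ' _ (norm_Q S ha hq) (a • x), ← mul_smul, ← mul_smul]
      congr 2
      group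
    · intro q hq x
      rw [← hfQ _ (norm_Q S (inv_mem hc) hq) (c⁻¹ • x), ← mul_smul, ← mul_smul]
      congr 2
      group
  obtain ⟨g, hg⟩ := exists_ne_zero hH.two (fun x y => MulAction.exists_smul_eq G x y) hx hy hf hf'
  obtain ⟨w, hw⟩ := BN.exists_mem_cell (P := S.bn) g
  obtain ⟨m, hm, rfl⟩ := BN.exists_mkW w
  obtain ⟨b, hb, b', hb', rfl⟩ := (BN.mem_cell_mkW hm).1 hw
  rcases lt_or_gt_of_ne (BN.len_s_mul_ne (S.e j) (BN.mkW S.bn m hm)) with hl | hl
  · have hs : S.s j ∈ S.bn.N := S.bn.subset (S.e j).2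
    have hm1 : (S.s j)⁻¹ * m ∈ S.bn.N := mul_mem (inv_mem hs) hm
    have e1 : BN.mkW S.bn _ hm1 = S.w j * BN.mkW S.bn m hm := by
      change _ = (BN.gens S.bn).s _ * _
      rw [← (BN.gens S.bn).inv_s]
      rfl
    refine main _ hm1 (b * S.s j) b' (mul_mem (BN.B_le_PJ _ hb) ?_) (BN.B_le_PJ _ hb') ?_ ?_
    · exact BN.mem_parabolic_of_mem ⟨S.e j, by simp, rfl⟩
    · rw [e1, (BN.gens S.bn).s_mul_s_cancel_left]
      exact hl
    · have : b * S.s j * ((S.s j)⁻¹ * m) * b' = b * m * b' := by group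
      rw [this]
      exact hg
  · exact main m hm b b' (BN.B_le_PJ _ hb) (BN.B_le_PJ _ hb') hl hg

end Cfsg.Agent.H86.Hcd
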