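import Cfsg.Agent.H78.G40B
import Cfsg.Agent.S0243

/-! Project L40G, piece FZ3A. -/

set_option autoImplicit false
set_option linter.unusedSectionVars false

noncomputable section

namespace Cfsg.Agent.H86.G40Fz3a

open Subgroup Matrix Cfsg.Agent.H46.L40 Cfsg.Agent.H28 Cfsg.Agent.H78.G40

abbrev L2 := SpecialLinearGroup (Fin 2) F9
abbrev W2 := ProjectiveSpecialLinearGroup (Fin 2) F9
abbrev mkW : L2 →* W2 := QuotientGroup.mk' _

theorem mkW_eq (x y : L2) : mkW x = mkW y ↔ x.1 = y.1 ∨ x.1 = -y.1 := by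
  rw [QuotientGroup.mk'_apply, QuotientGroup.mk'_apply, eq_comm, QuotientGroup.eq,
    Matrix.SpecialLinearGroup.mem_center_iff]
  have k : y.1 * (y⁻¹ * x).1 = x.1 := congrArg Subtype.val (mul_inv_cancel_left y x)
  have k2 : (y⁻¹).1 * y.1 = 1 := congrArg Subtype.val (inv_mul_cancel y)
  have k3 : (y⁻¹ * x).1 = (y⁻¹).1 * x.1 := rfl
  constructor
  · rintro ⟨r, h, e⟩
    have hr : r = 1 ∨ r = -1 := by
      rw [Fintype.card_fin] at h
      exact mul_self_eq_one_iff.1 (by rw [← sq]; exact h)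
    have e' : scalar (Fin 2) r = (y⁻¹ * x).1 := e
    rw [← e'] at k
    rcases hr with rfl | rfl
    · left; simpa using k.symm
    · right; rw [map_neg, map_one, mul_neg, mul_one] at k; exact k.symm
  · rintro (h | h)
    · exact ⟨1, by simp, by change _ = (y⁻¹ * x).1; rw [k3, h, k2]; simp⟩
    · exact ⟨-1, by simp, by change _ = (y⁻¹ * x).1; rw [k3, h, mul_neg, k2, map_neg, map_one]⟩

theorem z_val : (e3 z0).1 = !![-1, 0, 0; 0, -1, 0; 0, 0, 1] := by decide +kernel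

theorem two_mul_eq (a : F9) (h : a = -a) : a = 0 := by revert a; decide +kernel

theorem mem_cz (g : X3) : g ∈ Cz (e3 z0) ↔
    g.1 0 2 = 0 ∧ g.1 1 2 = 0 ∧ g.1 2 0 = 0 ∧ g.1 2 1 = 0 := by
  rw [mem_centralizer_singleton_iff]
  constructor
  · intro h
    have h' : g.1 * (e3 z0).1 = (e3 z0).1 * g.1 := congrArg Subtype.val h
    rw [z_val] at h'
    have h1 := congrFun (congrFun h' 0) 2
    have h2 := congrFun (congrFun h' 1) 2
    have h3 := congrFun (congrFun h' 2) 0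
    have h4 := congrFun (congrFun h' 2) 1
    simp [mul_apply, Fin.sum_univ_three] at h1 h2 h3 h4
    exact ⟨two_mul_eq _ h1, two_mul_eq _ h2, two_mul_eq _ h3.symm, two_mul_eq _ h4.symm⟩
  · rintro ⟨h1, h2, h3, h4⟩
    apply Subtype.ext
    change g.1 * (e3 z0).1 = (e3 z0).1 * g.1
    rw [z_val]
    ext i j : 1
    fin_cases i <;> fin_cases j <;> simp [mul_apply, Fin.sum_univ_three, h1, h2, h3, h4]

theorem c_mul {g h : X3} (hg : g ∈ Cz (e3 z0)) : (g * h).1 2 2 = g.1 2 2 * h.1 2 2 := by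
  obtain ⟨-, -, h3, h4⟩ := (mem_cz g).1 hg
  change (g.1 * h.1) 2 2 = _
  simp [mul_apply, Fin.sum_univ_three, h3, h4]

theorem c_inv {g : X3} (hg : g ∈ Cz (e3 z0)) : g.1 2 2 * (g⁻¹).1 2 2 = 1 := by
  rw [← c_mul hg, mul_inv_cancel]
  rfl

def YY : Subgroup X3 where
  carrier := {g | g ∈ Cz (e3 z0) ∧ g.1 2 2 * g.1 2 2 = 1}
  mul_mem' := by
    rintro g h ⟨hg, hg'⟩ ⟨hh, hh'⟩
    refine ⟨mul_mem hg hh, ?_⟩
    rw [c_mul hg]
    linear_combination (h.1 2 2 * h.1 2 2) * hg' + hh'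
  one_mem' := ⟨one_mem _, by change (1 : Matrix (Fin 3) (Fin 3) F9) 2 2 * (1 : Matrix (Fin 3) (Fin 3) F9) 2 2 = 1; simp⟩
  inv_mem' := by
    rintro g ⟨hg, hg'⟩
    refine ⟨inv_mem hg, ?_⟩
    have := c_inv hg
    linear_combination (-(g⁻¹).1 2 2 * (g⁻¹).1 2 2) * hg' + (g.1 2 2 * (g⁻¹).1 2 2 + 1) * this

def up (g : X3) : Matrix (Fin 2) (Fin 2) F9 := !![g.1 0 0, g.1 0 1; g.1 1 0, g.1 1 1]

theorem up_mul {g h : X3} (hg : g ∈ Cz (e3 z0)) : up (g * h) = up g * up h := by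
  obtain ⟨h1, h2, -, -⟩ := (mem_cz g).1 hg
  have e : (g * h).1 = g.1 * h.1 := rfl
  ext i j : 1
  fin_cases i <;> fin_cases j <;> simp [up, e, mul_apply, Fin.sum_univ_three, Fin.sum_univ_two, h1, h2]

theorem up_det {g : X3} (hg : g ∈ Cz (e3 z0)) : (up g).det * g.1 2 2 = 1 := by
  obtain ⟨h1, h2, h3, h4⟩ := (mem_cz g).1 hg
  have := g.2
  rw [det_fin_three, h1, h2, h3, h4] at this
  rw [up, det_fin_two_of]
  linear_combination this

def sc (c : F9) : F9 := if c = 1 then 1 else ii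

theorem sc_sq (c : F9) (h : c * c = 1) : sc c * sc c = c := by revert c; decide +kernel

theorem sc_mul (c d : F9) (h : c * c = 1) (h' : d * d = 1) :
    sc (c * d) = sc c * sc d ∨ sc (c * d) = -(sc c * sc d) := by revert c d; decide +kernel

theorem sc_ne (c : F9) : sc c ≠ 0 := by revert c; decide +kernel

theorem sc_ker (c a d : F9) (h : c * c = 1)
    (h' : (sc c * a = 1 ∧ sc c * d = 1) ∨ (sc c * a = -1 ∧ sc c * d = -1)) :
    ∃ k : Fin 4, !![a, 0, 0; 0, d, 0; 0, 0, c] = (i3 ^ (k : ℕ)).1 := by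
  revert c a d; decide +kernel

def ff (y : YY) : L2 := ⟨sc (y.1.1 2 2) • up y.1, by
  have h1 := up_det y.2.1
  have h2 := sc_sq _ y.2.2
  rw [det_smul, Fintype.card_fin]
  linear_combination (up y.1).det * h2 + h1⟩

def pi : YY →* W2 := MonoidHom.mk' (fun y => mkW (ff y)) (by
  intro x y
  rw [← map_mul, mkW_eq]
  change sc ((x.1 * y.1).1 2 2) • up (x.1 * y.1) = sc (x.1.1 2 2) • up x.1 * sc (y.1.1 2 2) • up y.1 ∨
    sc ((x.1 * y.1).1 2 2) • up (x.1 * y.1) = -(sc (x.1.1 2 2) • up x.1 * sc (y.1.1 2 2) • up y.1)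
  rw [c_mul x.2.1, up_mul x.2.1, smul_mul_smul_comm]
  rcases sc_mul _ _ x.2.2 y.2.2 with h | h
  · left; rw [h]
  · right; rw [h, neg_smul])

theorem pi_apply (y : YY) : pi y = mkW (ff y) := rfl

theorem i3_mem : i3 ∈ YY := ⟨(mem_cz _).2 (by decide +kernel), by decide +kernel⟩

theorem pi_i3 : pi ⟨i3, i3_mem⟩ = 1 := by
  rw [pi_apply, ← map_one mkW, mkW_eq]
  right
  change sc (i3.1 2 2) • up i3 = -1
  decide +kernel

theorem cardW : Nat.card W2 = 360 := by
  have h : Nat.gcd 2 (9 - 1) * ((9 - 1) * Nat.card W2) = ∏ i : Fin 2, (9 ^ 2 - 9 ^ (i : ℕ)) :=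
    Cfsg.Agent.S0243.result (F := F9) (q := 9) card_F9 2 le_rfl
  generalize Nat.card W2 = N at h ⊢
  simp only [Fin.prod_univ_two, Fin.val_zero, Fin.val_one] at h
  norm_num at h
  omega

theorem fz3a : Fz3aS := by
  refine ⟨YY, fun g hg => hg.1, ?_, ⟨W2, inferInstance, pi, ?_, ?_, ?_, ?_, ?_⟩, ?_⟩
  · intro x hx
    have key : ∀ x ∈ Cz (e3 z0), ∀ y ∈ YY, x * y * x⁻¹ ∈ YY := by
      intro x hx y hy
      refine ⟨mul_mem (mul_mem hx hy.1) (inv_mem hx), ?_⟩
      rw [c_mul (mul_mem hx hy.1), c_mul hx]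
      have h1 := c_inv hx
      have h2 := hy.2
      linear_combination (y.1 2 2 * y.1 2 2 * (x.1 2 2 * (x⁻¹).1 2 2 + 1)) * h1 + h2
    rw [mem_normalizer_iff]
    intro y
    refine ⟨fun hy => key x hx y hy, fun hy => ?_⟩
    have := key x⁻¹ (inv_mem hx) _ hy
    simpa [mul_assoc] using this
  · intro w
    obtain ⟨A, rfl⟩ := QuotientGroup.mk'_surjective _ w
    have hA := A.2
    rw [det_fin_two] at hA
    let g : X3 := ⟨!![A.1 0 0, A.1 0 1, 0; A.1 1 0, A.1 1 1, 0; 0, 0, 1], by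
      rw [det_fin_three]; simp; exact hA⟩
    have hg : g ∈ YY := ⟨(mem_cz _).2 (by simp [g]), by simp [g]⟩
    refine ⟨⟨g, hg⟩, ?_⟩
    rw [pi_apply]
    congr 1
    apply Subtype.ext
    change sc (g.1 2 2) • up g = A.1
    have e : g.1 2 2 = 1 := by simp [g]
    rw [e, show sc 1 = 1 by simp [sc], one_smul]
    ext i j : 1
    fin_cases i <;> fin_cases j <;> simp [up, g]
  · intro y
    constructor
    · intro h
      rw [pi_apply, ← map_one mkW, mkW_eq] at h
      change sc (y.1.1 2 2) • up y.1 = 1 ∨ sc (y.1.1 2 2) • up y.1 = -1 at h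
      obtain ⟨h1, h2, h3, h4⟩ := (mem_cz y.1).1 y.2.1
      have hne := sc_ne (y.1.1 2 2)
      have hb : y.1.1 0 1 = 0 ∧ y.1.1 1 0 = 0 ∧
          ((sc (y.1.1 2 2) * y.1.1 0 0 = 1 ∧ sc (y.1.1 2 2) * y.1.1 1 1 = 1) ∨
            (sc (y.1.1 2 2) * y.1.1 0 0 = -1 ∧ sc (y.1.1 2 2) * y.1.1 1 1 = -1)) := by
        rcases h with h | h
        all_goals
          have a1 := congrFun (congrFun h 0) 0
          have a2 := congrFun (congrFun h 0) 1
          have a3 := congrFun (congrFun h 1) 0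
          have a4 := congrFun (congrFun h 1) 1
          simp [up, hne] at a1 a2 a3 a4
          simp [a1, a2, a3, a4]
      obtain ⟨b1, b2, b3⟩ := hb
      obtain ⟨k, hk⟩ := sc_ker _ _ _ y.2.2 b3
      have : y.1 = i3 ^ (k : ℕ) := by
        apply Subtype.ext
        rw [← hk]
        ext i j : 1
        fin_cases i <;> fin_cases j <;> simp [h1, h2, h3, h4, b1, b2]
      rw [this]
      exact npow_mem_zpowers _ _
    · rintro ⟨k, hk⟩
      have : y = (⟨i3, i3_mem⟩ : YY) ^ k := Subtype.ext hk.symm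
      rw [this, map_zpow, pi_i3, _root_.one_zpow]
  · exact Matrix.ProjectiveSpecialLinearGroup.rank_two_simple
      (by rw [Nat.card_eq_fintype_card, card_F9]; norm_num)
  · intro h
    let A : L2 := ⟨!![1, 1; 0, 1], by decide +kernel⟩
    let B : L2 := ⟨!![1, 0; 1, 1], by decide +kernel⟩
    have := h.is_comm.comm (mkW A) (mkW B)
    rw [← map_mul, ← map_mul, mkW_eq] at this
    revert this
    decide +kernel
  · intro m hm
    rw [cardW] at hm
    exact ((Nat.factorial_inj (n := 6) (m := m) (by norm_num)).1 (by rw [← hm]; rfl)).symm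
  · exact ⟨(mem_cz _).2 (by decide +kernel), by decide +kernel⟩

set_option linter.unusedTactic false in
theorem eqns_G40Fz3a : True := by
  have := @up.eq_1
  have := @sc.eq_1
  have := @ff.eq_1
  have := @pi.eq_1
  have := @YY.eq_1
  trivial

end Cfsg.Agent.H86.G40Fz3a
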