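import Cfsg.Agent.H50.E83Defs2

/-! Additive functions modulo two on the roots of `E₈`: normal forms. -/

set_option autoImplicit false
set_option maxRecDepth 100000

namespace Cfsg.Agent.H86.E83

open Equiv Cfsg.Lie H37 H40 H34 H29 Cfsg.Agent.H50.E83

/-- The root coordinates modulo two. -/
def rc2 : List (List ℕ) :=
    [[0, 1, 0, 0, 1, 0, 1, 0], [0, 1, 0, 0, 1, 0, 1, 1], [0, 1, 0, 0, 1, 0, 0, 1], [0, 1, 0, 0, 1,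
    1, 0, 1], [0, 1, 0, 0, 0, 1, 0, 1], [0, 1, 0, 1, 0, 1, 0, 1], [0, 1, 1, 1, 0, 1, 0, 1], [0, 0,
    0, 1, 0, 1, 0, 1], [0, 0, 1, 1, 0, 1, 0, 1], [0, 0, 1, 0, 0, 1, 0, 1], [0, 0, 1, 0, 1, 1, 0,
    1], [0, 0, 1, 0, 1, 0, 0, 1], [0, 0, 1, 0, 1, 0, 1, 1], [0, 0, 1, 0, 1, 0, 1, 0], [1, 1, 1, 1,
    0, 1, 0, 1], [1, 0, 1, 1, 0, 1, 0, 1], [1, 0, 1, 0, 0, 1, 0, 1], [1, 0, 1, 0, 1, 1, 0, 1], [1,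
    0, 1, 0, 1, 0, 0, 1], [1, 0, 1, 0, 1, 0, 1, 1], [1, 0, 1, 0, 1, 0, 1, 0], [1, 0, 0, 0, 0, 1,
    0, 1], [1, 0, 0, 0, 1, 1, 0, 1], [1, 0, 0, 0, 1, 0, 0, 1], [1, 0, 0, 0, 1, 0, 1, 1], [1, 0, 0,
    0, 1, 0, 1, 0], [1, 0, 0, 1, 1, 1, 0, 1], [1, 0, 0, 1, 1, 0, 0, 1], [1, 0, 0, 1, 1, 0, 1, 1],
    [1, 0, 0, 1, 1, 0, 1, 0], [1, 0, 0, 1, 0, 0, 0, 1], [1, 0, 0, 1, 0, 0, 1, 1], [1, 0, 0, 1, 0,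
    0, 1, 0], [1, 0, 0, 1, 0, 1, 1, 1], [1, 0, 0, 1, 0, 1, 1, 0], [1, 0, 0, 1, 0, 1, 0, 0], [1, 1,
    0, 1, 1, 1, 0, 1], [1, 1, 0, 1, 1, 0, 0, 1], [1, 1, 0, 1, 1, 0, 1, 1], [1, 1, 0, 1, 1, 0, 1,
    0], [1, 1, 0, 1, 0, 0, 0, 1], [1, 1, 0, 1, 0, 0, 1, 1], [1, 1, 0, 1, 0, 0, 1, 0], [1, 1, 0, 1,
    0, 1, 1, 1], [1, 1, 0, 1, 0, 1, 1, 0], [1, 1, 0, 1, 0, 1, 0, 0], [1, 1, 0, 0, 0, 0, 0, 1], [1,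
    1, 0, 0, 0, 0, 1, 1], [1, 1, 0, 0, 0, 0, 1, 0], [1, 1, 0, 0, 0, 1, 1, 1], [1, 1, 0, 0, 0, 1,
    1, 0], [1, 1, 0, 0, 0, 1, 0, 0], [1, 1, 0, 0, 1, 1, 1, 1], [1, 1, 0, 0, 1, 1, 1, 0], [1, 1, 0,
    0, 1, 1, 0, 0], [1, 1, 0, 0, 1, 0, 0, 0], [1, 1, 1, 0, 0, 0, 0, 1], [1, 1, 1, 0, 0, 0, 1, 1],
    [1, 1, 1, 0, 0, 0, 1, 0], [1, 1, 1, 0, 0, 1, 1, 1], [1, 1, 1, 0, 0, 1, 1, 0], [1, 1, 1, 0, 0,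
    1, 0, 0], [1, 1, 1, 0, 1, 1, 1, 1], [1, 1, 1, 0, 1, 1, 1, 0], [1, 1, 1, 0, 1, 1, 0, 0], [1, 1,
    1, 0, 1, 0, 0, 0], [1, 1, 1, 1, 1, 1, 1, 1], [1, 1, 1, 1, 1, 1, 1, 0], [1, 1, 1, 1, 1, 1, 0,
    0], [1, 1, 1, 1, 1, 0, 0, 0], [1, 1, 1, 1, 0, 0, 0, 0], [1, 0, 1, 1, 1, 1, 1, 1], [1, 0, 1, 1,
    1, 1, 1, 0], [1, 0, 1, 1, 1, 1, 0, 0], [1, 0, 1, 1, 1, 0, 0, 0], [1, 0, 1, 1, 0, 0, 0, 0], [1,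
    0, 1, 0, 0, 0, 0, 0], [1, 0, 0, 0, 0, 0, 0, 0], [0, 1, 1, 0, 0, 0, 0, 1], [0, 1, 1, 0, 0, 0,
    1, 1], [0, 1, 1, 0, 0, 0, 1, 0], [0, 1, 1, 0, 0, 1, 1, 1], [0, 1, 1, 0, 0, 1, 1, 0], [0, 1, 1,
    0, 0, 1, 0, 0], [0, 1, 1, 0, 1, 1, 1, 1], [0, 1, 1, 0, 1, 1, 1, 0], [0, 1, 1, 0, 1, 1, 0, 0],
    [0, 1, 1, 0, 1, 0, 0, 0], [0, 1, 1, 1, 1, 1, 1, 1], [0, 1, 1, 1, 1, 1, 1, 0], [0, 1, 1, 1, 1,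
    1, 0, 0], [0, 1, 1, 1, 1, 0, 0, 0], [0, 1, 1, 1, 0, 0, 0, 0], [0, 1, 0, 1, 1, 1, 1, 1], [0, 1,
    0, 1, 1, 1, 1, 0], [0, 1, 0, 1, 1, 1, 0, 0], [0, 1, 0, 1, 1, 0, 0, 0], [0, 1, 0, 1, 0, 0, 0,
    0], [0, 1, 0, 0, 0, 0, 0, 0], [0, 0, 1, 1, 1, 1, 1, 1], [0, 0, 1, 1, 1, 1, 1, 0], [0, 0, 1, 1,
    1, 1, 0, 0], [0, 0, 1, 1, 1, 0, 0, 0], [0, 0, 1, 1, 0, 0, 0, 0], [0, 0, 1, 0, 0, 0, 0, 0], [0,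
    0, 0, 1, 1, 1, 1, 1], [0, 0, 0, 1, 1, 1, 1, 0], [0, 0, 0, 1, 1, 1, 0, 0], [0, 0, 0, 1, 1, 0,
    0, 0], [0, 0, 0, 1, 0, 0, 0, 0], [0, 0, 0, 0, 1, 1, 1, 1], [0, 0, 0, 0, 1, 1, 1, 0], [0, 0, 0,
    0, 1, 1, 0, 0], [0, 0, 0, 0, 1, 0, 0, 0], [0, 0, 0, 0, 0, 1, 1, 1], [0, 0, 0, 0, 0, 1, 1, 0],
    [0, 0, 0, 0, 0, 1, 0, 0], [0, 0, 0, 0, 0, 0, 1, 1], [0, 0, 0, 0, 0, 0, 1, 0], [0, 0, 0, 0, 0,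
    0, 0, 1], [0, 0, 0, 0, 0, 0, 0, 1], [0, 0, 0, 0, 0, 0, 1, 0], [0, 0, 0, 0, 0, 0, 1, 1], [0, 0,
    0, 0, 0, 1, 0, 0], [0, 0, 0, 0, 0, 1, 1, 0], [0, 0, 0, 0, 0, 1, 1, 1], [0, 0, 0, 0, 1, 0, 0,
    0], [0, 0, 0, 0, 1, 1, 0, 0], [0, 0, 0, 0, 1, 1, 1, 0], [0, 0, 0, 0, 1, 1, 1, 1], [0, 0, 0, 1,
    0, 0, 0, 0], [0, 0, 0, 1, 1, 0, 0, 0], [0, 0, 0, 1, 1, 1, 0, 0], [0, 0, 0, 1, 1, 1, 1, 0], [0,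
    0, 0, 1, 1, 1, 1, 1], [0, 0, 1, 0, 0, 0, 0, 0], [0, 0, 1, 1, 0, 0, 0, 0], [0, 0, 1, 1, 1, 0,
    0, 0], [0, 0, 1, 1, 1, 1, 0, 0], [0, 0, 1, 1, 1, 1, 1, 0], [0, 0, 1, 1, 1, 1, 1, 1], [0, 1, 0,
    0, 0, 0, 0, 0], [0, 1, 0, 1, 0, 0, 0, 0], [0, 1, 0, 1, 1, 0, 0, 0], [0, 1, 0, 1, 1, 1, 0, 0],
    [0, 1, 0, 1, 1, 1, 1, 0], [0, 1, 0, 1, 1, 1, 1, 1], [0, 1, 1, 1, 0, 0, 0, 0], [0, 1, 1, 1, 1,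
    0, 0, 0], [0, 1, 1, 1, 1, 1, 0, 0], [0, 1, 1, 1, 1, 1, 1, 0], [0, 1, 1, 1, 1, 1, 1, 1], [0, 1,
    1, 0, 1, 0, 0, 0], [0, 1, 1, 0, 1, 1, 0, 0], [0, 1, 1, 0, 1, 1, 1, 0], [0, 1, 1, 0, 1, 1, 1,
    1], [0, 1, 1, 0, 0, 1, 0, 0], [0, 1, 1, 0, 0, 1, 1, 0], [0, 1, 1, 0, 0, 1, 1, 1], [0, 1, 1, 0,
    0, 0, 1, 0], [0, 1, 1, 0, 0, 0, 1, 1], [0, 1, 1, 0, 0, 0, 0, 1], [1, 0, 0, 0, 0, 0, 0, 0], [1,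
    0, 1, 0, 0, 0, 0, 0], [1, 0, 1, 1, 0, 0, 0, 0], [1, 0, 1, 1, 1, 0, 0, 0], [1, 0, 1, 1, 1, 1,
    0, 0], [1, 0, 1, 1, 1, 1, 1, 0], [1, 0, 1, 1, 1, 1, 1, 1], [1, 1, 1, 1, 0, 0, 0, 0], [1, 1, 1,
    1, 1, 0, 0, 0], [1, 1, 1, 1, 1, 1, 0, 0], [1, 1, 1, 1, 1, 1, 1, 0], [1, 1, 1, 1, 1, 1, 1, 1],
    [1, 1, 1, 0, 1, 0, 0, 0], [1, 1, 1, 0, 1, 1, 0, 0], [1, 1, 1, 0, 1, 1, 1, 0], [1, 1, 1, 0, 1,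
    1, 1, 1], [1, 1, 1, 0, 0, 1, 0, 0], [1, 1, 1, 0, 0, 1, 1, 0], [1, 1, 1, 0, 0, 1, 1, 1], [1, 1,
    1, 0, 0, 0, 1, 0], [1, 1, 1, 0, 0, 0, 1, 1], [1, 1, 1, 0, 0, 0, 0, 1], [1, 1, 0, 0, 1, 0, 0,
    0], [1, 1, 0, 0, 1, 1, 0, 0], [1, 1, 0, 0, 1, 1, 1, 0], [1, 1, 0, 0, 1, 1, 1, 1], [1, 1, 0, 0,
    0, 1, 0, 0], [1, 1, 0, 0, 0, 1, 1, 0], [1, 1, 0, 0, 0, 1, 1, 1], [1, 1, 0, 0, 0, 0, 1, 0], [1,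
    1, 0, 0, 0, 0, 1, 1], [1, 1, 0, 0, 0, 0, 0, 1], [1, 1, 0, 1, 0, 1, 0, 0], [1, 1, 0, 1, 0, 1,
    1, 0], [1, 1, 0, 1, 0, 1, 1, 1], [1, 1, 0, 1, 0, 0, 1, 0], [1, 1, 0, 1, 0, 0, 1, 1], [1, 1, 0,
    1, 0, 0, 0, 1], [1, 1, 0, 1, 1, 0, 1, 0], [1, 1, 0, 1, 1, 0, 1, 1], [1, 1, 0, 1, 1, 0, 0, 1],
    [1, 1, 0, 1, 1, 1, 0, 1], [1, 0, 0, 1, 0, 1, 0, 0], [1, 0, 0, 1, 0, 1, 1, 0], [1, 0, 0, 1, 0,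
    1, 1, 1], [1, 0, 0, 1, 0, 0, 1, 0], [1, 0, 0, 1, 0, 0, 1, 1], [1, 0, 0, 1, 0, 0, 0, 1], [1, 0,
    0, 1, 1, 0, 1, 0], [1, 0, 0, 1, 1, 0, 1, 1], [1, 0, 0, 1, 1, 0, 0, 1], [1, 0, 0, 1, 1, 1, 0,
    1], [1, 0, 0, 0, 1, 0, 1, 0], [1, 0, 0, 0, 1, 0, 1, 1], [1, 0, 0, 0, 1, 0, 0, 1], [1, 0, 0, 0,
    1, 1, 0, 1], [1, 0, 0, 0, 0, 1, 0, 1], [1, 0, 1, 0, 1, 0, 1, 0], [1, 0, 1, 0, 1, 0, 1, 1], [1,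
    0, 1, 0, 1, 0, 0, 1], [1, 0, 1, 0, 1, 1, 0, 1], [1, 0, 1, 0, 0, 1, 0, 1], [1, 0, 1, 1, 0, 1,
    0, 1], [1, 1, 1, 1, 0, 1, 0, 1], [0, 0, 1, 0, 1, 0, 1, 0], [0, 0, 1, 0, 1, 0, 1, 1], [0, 0, 1,
    0, 1, 0, 0, 1], [0, 0, 1, 0, 1, 1, 0, 1], [0, 0, 1, 0, 0, 1, 0, 1], [0, 0, 1, 1, 0, 1, 0, 1],
    [0, 0, 0, 1, 0, 1, 0, 1], [0, 1, 1, 1, 0, 1, 0, 1], [0, 1, 0, 1, 0, 1, 0, 1], [0, 1, 0, 0, 0,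
    1, 0, 1], [0, 1, 0, 0, 1, 1, 0, 1], [0, 1, 0, 0, 1, 0, 0, 1], [0, 1, 0, 0, 1, 0, 1, 1], [0, 1,
    0, 0, 1, 0, 1, 0]]

/-- The Cartan matrix. -/
def ca8 : List (List ℤ) :=
    [[2, 0, -1, 0, 0, 0, 0, 0], [0, 2, 0, -1, 0, 0, 0, 0], [-1, 0, 2, -1, 0, 0, 0, 0], [0, -1, -1,
    2, -1, 0, 0, 0], [0, 0, 0, -1, 2, -1, 0, 0], [0, 0, 0, 0, -1, 2, -1, 0], [0, 0, 0, 0, 0, -1,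
    2, -1], [0, 0, 0, 0, 0, 0, -1, 2]]

/-- Words that move a label to the first normal form. -/
def tb1 : List (List ℕ × List ℕ) :=
    [([0, 0, 0, 0, 0, 1, 0, 0], [5, 4, 3, 2, 1, 3, 4, 5, 0, 2, 3, 4, 1, 3]), ([0, 0, 0, 0, 1, 0,
    0, 0], [4, 5, 6, 7, 3, 4, 5, 6, 2, 3, 4, 5, 0, 2, 3, 4, 1, 3]), ([0, 0, 0, 0, 1, 0, 0, 1], [7,
    6, 4, 3, 2, 1, 3, 4, 5, 0, 2, 3, 4, 1, 3]), ([0, 0, 0, 0, 1, 0, 1, 1], [6, 4, 3, 2, 1, 3, 4,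
    5, 0, 2, 3, 4, 1, 3]), ([0, 0, 0, 0, 1, 1, 1, 0], [4, 3, 2, 1, 3, 4, 5, 0, 2, 3, 4, 1, 3]),
    ([0, 0, 0, 1, 0, 0, 0, 1], [3, 4, 5, 6, 2, 3, 4, 5, 0, 2, 3, 4, 1, 3]), ([0, 0, 0, 1, 0, 0, 1,
    0], [6, 7, 5, 6, 3, 2, 1, 3, 4, 5, 0, 2, 3, 4, 1, 3]), ([0, 0, 0, 1, 0, 0, 1, 1], [7, 3, 4, 5,
    6, 2, 3, 4, 5, 0, 2, 3, 4, 1, 3]), ([0, 0, 0, 1, 0, 1, 0, 1], [5, 6, 3, 2, 1, 3, 4, 5, 0, 2,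
    3, 4, 1, 3]), ([0, 0, 0, 1, 0, 1, 1, 0], [6, 7, 3, 4, 5, 6, 2, 3, 4, 5, 0, 2, 3, 4, 1, 3]),
    ([0, 0, 0, 1, 0, 1, 1, 1], [7, 5, 6, 3, 2, 1, 3, 4, 5, 0, 2, 3, 4, 1, 3]), ([0, 0, 0, 1, 1, 0,
    1, 0], [3, 2, 1, 3, 4, 5, 0, 2, 3, 4, 1, 3]), ([0, 0, 0, 1, 1, 1, 0, 0], [5, 6, 7, 3, 4, 5, 6,
    2, 3, 4, 5, 0, 2, 3, 4, 1, 3]), ([0, 0, 0, 1, 1, 1, 0, 1], [7, 6, 3, 2, 1, 3, 4, 5, 0, 2, 3,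
    4, 1, 3]), ([0, 0, 0, 1, 1, 1, 1, 1], [6, 3, 2, 1, 3, 4, 5, 0, 2, 3, 4, 1, 3]), ([0, 0, 1, 0,
    0, 0, 0, 1], [2, 3, 4, 5, 6, 1, 3, 4, 5, 2, 3, 4, 1, 3]), ([0, 0, 1, 0, 0, 0, 1, 0], [6, 7, 5,
    6, 4, 5, 3, 4, 1, 3]), ([0, 0, 1, 0, 0, 0, 1, 1], [7, 2, 3, 4, 5, 6, 1, 3, 4, 5, 2, 3, 4, 1,
    3]), ([0, 0, 1, 0, 0, 1, 0, 1], [5, 6, 4, 5, 3, 4, 1, 3]), ([0, 0, 1, 0, 0, 1, 1, 0], [6, 7,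
    2, 3, 4, 5, 6, 1, 3, 4, 5, 2, 3, 4, 1, 3]), ([0, 0, 1, 0, 0, 1, 1, 1], [7, 5, 6, 4, 5, 3, 4,
    1, 3]), ([0, 0, 1, 0, 1, 0, 1, 0], [4, 5, 3, 4, 1, 3]), ([0, 0, 1, 0, 1, 1, 0, 0], [5, 6, 7,
    2, 3, 4, 5, 6, 1, 3, 4, 5, 2, 3, 4, 1, 3]), ([0, 0, 1, 0, 1, 1, 0, 1], [7, 6, 4, 5, 3, 4, 1,
    3]), ([0, 0, 1, 0, 1, 1, 1, 1], [6, 4, 5, 3, 4, 1, 3]), ([0, 0, 1, 1, 0, 0, 0, 0], []), ([0,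
    0, 1, 1, 0, 1, 0, 0], [3, 4, 1, 3]), ([0, 0, 1, 1, 1, 0, 0, 0], [4, 5, 6, 7, 2, 3, 4, 5, 6, 1,
    3, 4, 5, 2, 3, 4, 1, 3]), ([0, 0, 1, 1, 1, 0, 0, 1], [7, 6, 5, 3, 4, 1, 3]), ([0, 0, 1, 1, 1,
    0, 1, 1], [6, 5, 3, 4, 1, 3]), ([0, 0, 1, 1, 1, 1, 1, 0], [5, 3, 4, 1, 3]), ([0, 1, 0, 0, 0,
    0, 0, 0], [1, 3, 4, 5, 6, 7, 2, 3, 4, 5, 6, 1, 3, 4, 5, 2, 3, 4, 1, 3]), ([0, 1, 0, 0, 0, 0,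
    0, 1], [7, 6, 5, 4, 3]), ([0, 1, 0, 0, 0, 0, 1, 1], [6, 5, 4, 3]), ([0, 1, 0, 0, 0, 1, 1, 0],
    [5, 4, 3]), ([0, 1, 0, 0, 1, 0, 0, 0], [1, 3]), ([0, 1, 0, 0, 1, 1, 0, 0], [4, 3]), ([0, 1, 0,
    1, 0, 0, 0, 0], [3, 4, 5, 6, 7, 2, 3, 4, 5, 6, 1, 3, 4, 5, 2, 3, 4, 1, 3]), ([0, 1, 0, 1, 0,
    0, 0, 1], [7, 6, 5, 4, 1, 3]), ([0, 1, 0, 1, 0, 0, 1, 1], [6, 5, 4, 1, 3]), ([0, 1, 0, 1, 0,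
    1, 1, 0], [5, 4, 1, 3]), ([0, 1, 0, 1, 1, 0, 0, 0], [3]), ([0, 1, 0, 1, 1, 1, 0, 0], [4, 1,
    3]), ([0, 1, 1, 0, 0, 0, 1, 0], [2, 3, 4, 5, 0, 2, 3, 4, 1, 3]), ([0, 1, 1, 0, 0, 1, 0, 0],
    [5, 6, 7, 4, 5, 6, 2, 1, 3, 4, 5, 0, 2, 3, 4, 1, 3]), ([0, 1, 1, 0, 0, 1, 0, 1], [7, 6, 2, 3,
    4, 5, 0, 2, 3, 4, 1, 3]), ([0, 1, 1, 0, 0, 1, 1, 1], [6, 2, 3, 4, 5, 0, 2, 3, 4, 1, 3]), ([0,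
    1, 1, 0, 1, 0, 0, 1], [4, 5, 6, 2, 1, 3, 4, 5, 0, 2, 3, 4, 1, 3]), ([0, 1, 1, 0, 1, 0, 1, 0],
    [6, 7, 5, 6, 2, 3, 4, 5, 0, 2, 3, 4, 1, 3]), ([0, 1, 1, 0, 1, 0, 1, 1], [7, 4, 5, 6, 2, 1, 3,
    4, 5, 0, 2, 3, 4, 1, 3]), ([0, 1, 1, 0, 1, 1, 0, 1], [5, 6, 2, 3, 4, 5, 0, 2, 3, 4, 1, 3]),
    ([0, 1, 1, 0, 1, 1, 1, 0], [6, 7, 4, 5, 6, 2, 1, 3, 4, 5, 0, 2, 3, 4, 1, 3]), ([0, 1, 1, 0, 1,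
    1, 1, 1], [7, 5, 6, 2, 3, 4, 5, 0, 2, 3, 4, 1, 3]), ([0, 1, 1, 1, 0, 0, 1, 0], [2, 1, 3, 4, 5,
    0, 2, 3, 4, 1, 3]), ([0, 1, 1, 1, 0, 1, 0, 0], [5, 6, 7, 4, 5, 6, 2, 3, 4, 5, 0, 2, 3, 4, 1,
    3]), ([0, 1, 1, 1, 0, 1, 0, 1], [7, 6, 2, 1, 3, 4, 5, 0, 2, 3, 4, 1, 3]), ([0, 1, 1, 1, 0, 1,
    1, 1], [6, 2, 1, 3, 4, 5, 0, 2, 3, 4, 1, 3]), ([0, 1, 1, 1, 1, 0, 0, 1], [4, 5, 6, 2, 3, 4, 5,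
    0, 2, 3, 4, 1, 3]), ([0, 1, 1, 1, 1, 0, 1, 0], [6, 7, 5, 6, 2, 1, 3, 4, 5, 0, 2, 3, 4, 1, 3]),
    ([0, 1, 1, 1, 1, 0, 1, 1], [7, 4, 5, 6, 2, 3, 4, 5, 0, 2, 3, 4, 1, 3]), ([0, 1, 1, 1, 1, 1, 0,
    1], [5, 6, 2, 1, 3, 4, 5, 0, 2, 3, 4, 1, 3]), ([0, 1, 1, 1, 1, 1, 1, 0], [6, 7, 4, 5, 6, 2, 3,
    4, 5, 0, 2, 3, 4, 1, 3]), ([0, 1, 1, 1, 1, 1, 1, 1], [7, 5, 6, 2, 1, 3, 4, 5, 0, 2, 3, 4, 1,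
    3]), ([1, 0, 0, 0, 0, 0, 0, 0], [0, 2]), ([1, 0, 0, 0, 0, 1, 0, 0], [0, 2, 3, 4, 1, 3]), ([1,
    0, 0, 0, 1, 0, 0, 0], [4, 5, 6, 7, 3, 4, 5, 6, 1, 3, 4, 5, 0, 2, 3, 4, 1, 3]), ([1, 0, 0, 0,
    1, 0, 0, 1], [7, 6, 5, 0, 2, 3, 4, 1, 3]), ([1, 0, 0, 0, 1, 0, 1, 1], [6, 5, 0, 2, 3, 4, 1,
    3]), ([1, 0, 0, 0, 1, 1, 1, 0], [5, 0, 2, 3, 4, 1, 3]), ([1, 0, 0, 1, 0, 0, 0, 1], [3, 4, 5,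
    6, 1, 3, 4, 5, 0, 2, 3, 4, 1, 3]), ([1, 0, 0, 1, 0, 0, 1, 0], [6, 7, 5, 6, 4, 5, 0, 2, 3, 4,
    1, 3]), ([1, 0, 0, 1, 0, 0, 1, 1], [7, 3, 4, 5, 6, 1, 3, 4, 5, 0, 2, 3, 4, 1, 3]), ([1, 0, 0,
    1, 0, 1, 0, 1], [5, 6, 4, 5, 0, 2, 3, 4, 1, 3]), ([1, 0, 0, 1, 0, 1, 1, 0], [6, 7, 3, 4, 5, 6,
    1, 3, 4, 5, 0, 2, 3, 4, 1, 3]), ([1, 0, 0, 1, 0, 1, 1, 1], [7, 5, 6, 4, 5, 0, 2, 3, 4, 1, 3]),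
    ([1, 0, 0, 1, 1, 0, 1, 0], [4, 5, 0, 2, 3, 4, 1, 3]), ([1, 0, 0, 1, 1, 1, 0, 0], [5, 6, 7, 3,
    4, 5, 6, 1, 3, 4, 5, 0, 2, 3, 4, 1, 3]), ([1, 0, 0, 1, 1, 1, 0, 1], [7, 6, 4, 5, 0, 2, 3, 4,
    1, 3]), ([1, 0, 0, 1, 1, 1, 1, 1], [6, 4, 5, 0, 2, 3, 4, 1, 3]), ([1, 0, 1, 0, 0, 0, 0, 0],
    [2]), ([1, 0, 1, 0, 0, 1, 0, 0], [2, 3, 4, 1, 3]), ([1, 0, 1, 0, 1, 0, 0, 0], [4, 5, 6, 7, 3,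
    4, 5, 6, 1, 3, 4, 5, 2, 3, 4, 1, 3]), ([1, 0, 1, 0, 1, 0, 0, 1], [7, 6, 5, 2, 3, 4, 1, 3]),
    ([1, 0, 1, 0, 1, 0, 1, 1], [6, 5, 2, 3, 4, 1, 3]), ([1, 0, 1, 0, 1, 1, 1, 0], [5, 2, 3, 4, 1,
    3]), ([1, 0, 1, 1, 0, 0, 0, 1], [3, 4, 5, 6, 1, 3, 4, 5, 2, 3, 4, 1, 3]), ([1, 0, 1, 1, 0, 0,
    1, 0], [6, 7, 5, 6, 4, 5, 2, 3, 4, 1, 3]), ([1, 0, 1, 1, 0, 0, 1, 1], [7, 3, 4, 5, 6, 1, 3, 4,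
    5, 2, 3, 4, 1, 3]), ([1, 0, 1, 1, 0, 1, 0, 1], [5, 6, 4, 5, 2, 3, 4, 1, 3]), ([1, 0, 1, 1, 0,
    1, 1, 0], [6, 7, 3, 4, 5, 6, 1, 3, 4, 5, 2, 3, 4, 1, 3]), ([1, 0, 1, 1, 0, 1, 1, 1], [7, 5, 6,
    4, 5, 2, 3, 4, 1, 3]), ([1, 0, 1, 1, 1, 0, 1, 0], [4, 5, 2, 3, 4, 1, 3]), ([1, 0, 1, 1, 1, 1,
    0, 0], [5, 6, 7, 3, 4, 5, 6, 1, 3, 4, 5, 2, 3, 4, 1, 3]), ([1, 0, 1, 1, 1, 1, 0, 1], [7, 6, 4,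
    5, 2, 3, 4, 1, 3]), ([1, 0, 1, 1, 1, 1, 1, 1], [6, 4, 5, 2, 3, 4, 1, 3]), ([1, 1, 0, 0, 0, 0,
    1, 0], [1, 3, 4, 5, 2, 3, 4, 1, 3]), ([1, 1, 0, 0, 0, 1, 0, 0], [5, 6, 7, 4, 5, 6, 3, 4, 5, 2,
    3, 4, 1, 3]), ([1, 1, 0, 0, 0, 1, 0, 1], [7, 6, 1, 3, 4, 5, 2, 3, 4, 1, 3]), ([1, 1, 0, 0, 0,
    1, 1, 1], [6, 1, 3, 4, 5, 2, 3, 4, 1, 3]), ([1, 1, 0, 0, 1, 0, 0, 1], [4, 5, 6, 3, 4, 5, 2, 3,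
    4, 1, 3]), ([1, 1, 0, 0, 1, 0, 1, 0], [6, 7, 5, 6, 1, 3, 4, 5, 2, 3, 4, 1, 3]), ([1, 1, 0, 0,
    1, 0, 1, 1], [7, 4, 5, 6, 3, 4, 5, 2, 3, 4, 1, 3]), ([1, 1, 0, 0, 1, 1, 0, 1], [5, 6, 1, 3, 4,
    5, 2, 3, 4, 1, 3]), ([1, 1, 0, 0, 1, 1, 1, 0], [6, 7, 4, 5, 6, 3, 4, 5, 2, 3, 4, 1, 3]), ([1,
    1, 0, 0, 1, 1, 1, 1], [7, 5, 6, 1, 3, 4, 5, 2, 3, 4, 1, 3]), ([1, 1, 0, 1, 0, 0, 1, 0], [3, 4,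
    5, 2, 3, 4, 1, 3]), ([1, 1, 0, 1, 0, 1, 0, 0], [5, 6, 7, 4, 5, 6, 1, 3, 4, 5, 2, 3, 4, 1, 3]),
    ([1, 1, 0, 1, 0, 1, 0, 1], [7, 6, 3, 4, 5, 2, 3, 4, 1, 3]), ([1, 1, 0, 1, 0, 1, 1, 1], [6, 3,
    4, 5, 2, 3, 4, 1, 3]), ([1, 1, 0, 1, 1, 0, 0, 1], [4, 5, 6, 1, 3, 4, 5, 2, 3, 4, 1, 3]), ([1,
    1, 0, 1, 1, 0, 1, 0], [6, 7, 5, 6, 3, 4, 5, 2, 3, 4, 1, 3]), ([1, 1, 0, 1, 1, 0, 1, 1], [7, 4,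
    5, 6, 1, 3, 4, 5, 2, 3, 4, 1, 3]), ([1, 1, 0, 1, 1, 1, 0, 1], [5, 6, 3, 4, 5, 2, 3, 4, 1, 3]),
    ([1, 1, 0, 1, 1, 1, 1, 0], [6, 7, 4, 5, 6, 1, 3, 4, 5, 2, 3, 4, 1, 3]), ([1, 1, 0, 1, 1, 1, 1,
    1], [7, 5, 6, 3, 4, 5, 2, 3, 4, 1, 3]), ([1, 1, 1, 0, 0, 0, 1, 0], [1, 3, 4, 5, 0, 2, 3, 4, 1,
    3]), ([1, 1, 1, 0, 0, 1, 0, 0], [5, 6, 7, 4, 5, 6, 3, 4, 5, 0, 2, 3, 4, 1, 3]), ([1, 1, 1, 0,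
    0, 1, 0, 1], [7, 6, 1, 3, 4, 5, 0, 2, 3, 4, 1, 3]), ([1, 1, 1, 0, 0, 1, 1, 1], [6, 1, 3, 4, 5,
    0, 2, 3, 4, 1, 3]), ([1, 1, 1, 0, 1, 0, 0, 1], [4, 5, 6, 3, 4, 5, 0, 2, 3, 4, 1, 3]), ([1, 1,
    1, 0, 1, 0, 1, 0], [6, 7, 5, 6, 1, 3, 4, 5, 0, 2, 3, 4, 1, 3]), ([1, 1, 1, 0, 1, 0, 1, 1], [7,
    4, 5, 6, 3, 4, 5, 0, 2, 3, 4, 1, 3]), ([1, 1, 1, 0, 1, 1, 0, 1], [5, 6, 1, 3, 4, 5, 0, 2, 3,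
    4, 1, 3]), ([1, 1, 1, 0, 1, 1, 1, 0], [6, 7, 4, 5, 6, 3, 4, 5, 0, 2, 3, 4, 1, 3]), ([1, 1, 1,
    0, 1, 1, 1, 1], [7, 5, 6, 1, 3, 4, 5, 0, 2, 3, 4, 1, 3]), ([1, 1, 1, 1, 0, 0, 1, 0], [3, 4, 5,
    0, 2, 3, 4, 1, 3]), ([1, 1, 1, 1, 0, 1, 0, 0], [5, 6, 7, 4, 5, 6, 1, 3, 4, 5, 0, 2, 3, 4, 1,
    3]), ([1, 1, 1, 1, 0, 1, 0, 1], [7, 6, 3, 4, 5, 0, 2, 3, 4, 1, 3]), ([1, 1, 1, 1, 0, 1, 1, 1],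
    [6, 3, 4, 5, 0, 2, 3, 4, 1, 3]), ([1, 1, 1, 1, 1, 0, 0, 1], [4, 5, 6, 1, 3, 4, 5, 0, 2, 3, 4,
    1, 3]), ([1, 1, 1, 1, 1, 0, 1, 0], [6, 7, 5, 6, 3, 4, 5, 0, 2, 3, 4, 1, 3]), ([1, 1, 1, 1, 1,
    0, 1, 1], [7, 4, 5, 6, 1, 3, 4, 5, 0, 2, 3, 4, 1, 3]), ([1, 1, 1, 1, 1, 1, 0, 1], [5, 6, 3, 4,
    5, 0, 2, 3, 4, 1, 3]), ([1, 1, 1, 1, 1, 1, 1, 0], [6, 7, 4, 5, 6, 1, 3, 4, 5, 0, 2, 3, 4, 1,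
    3]), ([1, 1, 1, 1, 1, 1, 1, 1], [7, 5, 6, 3, 4, 5, 0, 2, 3, 4, 1, 3])]

/-- Words that fix the first normal form and move a label to the second. -/
def tb2 : List (List ℕ × List ℕ) :=
    [([0, 0, 0, 0, 0, 1, 0, 0], []), ([0, 0, 0, 0, 1, 0, 0, 0], [4, 5, 6, 7, 2, 3, 4, 5, 6, 1, 3,
    4, 5, 2]), ([0, 0, 0, 0, 1, 0, 0, 1], [7, 6, 5]), ([0, 0, 0, 0, 1, 0, 1, 1], [6, 5]), ([0, 0,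
    0, 0, 1, 1, 1, 0], [5]), ([0, 0, 0, 1, 0, 0, 0, 1], [2, 3, 4, 5, 6, 1, 3, 4, 5, 2]), ([0, 0,
    0, 1, 0, 0, 1, 0], [6, 7, 5, 6, 4, 5]), ([0, 0, 0, 1, 0, 0, 1, 1], [7, 2, 3, 4, 5, 6, 1, 3, 4,
    5, 2]), ([0, 0, 0, 1, 0, 1, 0, 1], [5, 6, 4, 5]), ([0, 0, 0, 1, 0, 1, 1, 0], [6, 7, 2, 3, 4,
    5, 6, 1, 3, 4, 5, 2]), ([0, 0, 0, 1, 0, 1, 1, 1], [7, 5, 6, 4, 5]), ([0, 0, 0, 1, 1, 0, 1, 0],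
    [4, 5]), ([0, 0, 0, 1, 1, 1, 0, 0], [5, 6, 7, 2, 3, 4, 5, 6, 1, 3, 4, 5, 2]), ([0, 0, 0, 1, 1,
    1, 0, 1], [7, 6, 4, 5]), ([0, 0, 0, 1, 1, 1, 1, 1], [6, 4, 5]), ([0, 0, 1, 0, 0, 0, 0, 1], [2,
    3, 4, 5, 6, 0, 2, 3, 4, 5, 0, 2]), ([0, 0, 1, 0, 0, 0, 1, 0], [6, 7, 5, 6, 2, 3, 0, 2, 1, 3,
    4, 5, 0, 2]), ([0, 0, 1, 0, 0, 0, 1, 1], [7, 2, 3, 4, 5, 6, 0, 2, 3, 4, 5, 0, 2]), ([0, 0, 1,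
    0, 0, 1, 0, 1], [5, 6, 2, 3, 0, 2, 1, 3, 4, 5, 0, 2]), ([0, 0, 1, 0, 0, 1, 1, 0], [6, 7, 2, 3,
    4, 5, 6, 0, 2, 3, 4, 5, 0, 2]), ([0, 0, 1, 0, 0, 1, 1, 1], [7, 5, 6, 2, 3, 0, 2, 1, 3, 4, 5,
    0, 2]), ([0, 0, 1, 0, 1, 0, 1, 0], [2, 3, 0, 2, 1, 3, 4, 5, 0, 2]), ([0, 0, 1, 0, 1, 1, 0, 0],
    [5, 6, 7, 2, 3, 4, 5, 6, 0, 2, 3, 4, 5, 0, 2]), ([0, 0, 1, 0, 1, 1, 0, 1], [7, 6, 2, 3, 0, 2,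
    1, 3, 4, 5, 0, 2]), ([0, 0, 1, 0, 1, 1, 1, 1], [6, 2, 3, 0, 2, 1, 3, 4, 5, 0, 2]), ([0, 0, 1,
    1, 0, 1, 0, 0], [5, 4, 2, 3, 0, 2, 1, 3, 4, 5, 0, 2]), ([0, 0, 1, 1, 1, 0, 0, 0], [4, 5, 6, 7,
    2, 3, 4, 5, 6, 0, 2, 3, 4, 5, 0, 2]), ([0, 0, 1, 1, 1, 0, 0, 1], [7, 6, 4, 2, 3, 0, 2, 1, 3,
    4, 5, 0, 2]), ([0, 0, 1, 1, 1, 0, 1, 1], [6, 4, 2, 3, 0, 2, 1, 3, 4, 5, 0, 2]), ([0, 0, 1, 1,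
    1, 1, 1, 0], [4, 2, 3, 0, 2, 1, 3, 4, 5, 0, 2]), ([1, 1, 0, 0, 0, 0, 1, 0], [0, 2, 3, 4, 5,
    2]), ([1, 1, 0, 0, 0, 1, 0, 0], [5, 6, 7, 4, 5, 6, 0, 2, 1, 3, 4, 5, 2]), ([1, 1, 0, 0, 0, 1,
    0, 1], [7, 6, 0, 2, 3, 4, 5, 2]), ([1, 1, 0, 0, 0, 1, 1, 1], [6, 0, 2, 3, 4, 5, 2]), ([1, 1,
    0, 0, 1, 0, 0, 1], [4, 5, 6, 0, 2, 1, 3, 4, 5, 2]), ([1, 1, 0, 0, 1, 0, 1, 0], [6, 7, 5, 6, 0,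
    2, 3, 4, 5, 2]), ([1, 1, 0, 0, 1, 0, 1, 1], [7, 4, 5, 6, 0, 2, 1, 3, 4, 5, 2]), ([1, 1, 0, 0,
    1, 1, 0, 1], [5, 6, 0, 2, 3, 4, 5, 2]), ([1, 1, 0, 0, 1, 1, 1, 0], [6, 7, 4, 5, 6, 0, 2, 1, 3,
    4, 5, 2]), ([1, 1, 0, 0, 1, 1, 1, 1], [7, 5, 6, 0, 2, 3, 4, 5, 2]), ([1, 1, 0, 1, 0, 0, 1, 0],
    [0, 2, 1, 3, 4, 5, 2]), ([1, 1, 0, 1, 0, 1, 0, 0], [5, 6, 7, 4, 5, 6, 0, 2, 3, 4, 5, 2]), ([1,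
    1, 0, 1, 0, 1, 0, 1], [7, 6, 0, 2, 1, 3, 4, 5, 2]), ([1, 1, 0, 1, 0, 1, 1, 1], [6, 0, 2, 1, 3,
    4, 5, 2]), ([1, 1, 0, 1, 1, 0, 0, 1], [4, 5, 6, 0, 2, 3, 4, 5, 2]), ([1, 1, 0, 1, 1, 0, 1, 0],
    [6, 7, 5, 6, 0, 2, 1, 3, 4, 5, 2]), ([1, 1, 0, 1, 1, 0, 1, 1], [7, 4, 5, 6, 0, 2, 3, 4, 5,
    2]), ([1, 1, 0, 1, 1, 1, 0, 1], [5, 6, 0, 2, 1, 3, 4, 5, 2]), ([1, 1, 0, 1, 1, 1, 1, 0], [6,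
    7, 4, 5, 6, 0, 2, 3, 4, 5, 2]), ([1, 1, 0, 1, 1, 1, 1, 1], [7, 5, 6, 0, 2, 1, 3, 4, 5, 2]),
    ([1, 1, 1, 0, 0, 0, 1, 0], [2, 3, 4, 5, 2]), ([1, 1, 1, 0, 0, 1, 0, 0], [5, 6, 7, 4, 5, 6, 2,
    1, 3, 4, 5, 2]), ([1, 1, 1, 0, 0, 1, 0, 1], [7, 6, 2, 3, 4, 5, 2]), ([1, 1, 1, 0, 0, 1, 1, 1],
    [6, 2, 3, 4, 5, 2]), ([1, 1, 1, 0, 1, 0, 0, 1], [4, 5, 6, 2, 1, 3, 4, 5, 2]), ([1, 1, 1, 0, 1,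
    0, 1, 0], [6, 7, 5, 6, 2, 3, 4, 5, 2]), ([1, 1, 1, 0, 1, 0, 1, 1], [7, 4, 5, 6, 2, 1, 3, 4, 5,
    2]), ([1, 1, 1, 0, 1, 1, 0, 1], [5, 6, 2, 3, 4, 5, 2]), ([1, 1, 1, 0, 1, 1, 1, 0], [6, 7, 4,
    5, 6, 2, 1, 3, 4, 5, 2]), ([1, 1, 1, 0, 1, 1, 1, 1], [7, 5, 6, 2, 3, 4, 5, 2]), ([1, 1, 1, 1,
    0, 0, 1, 0], [2, 1, 3, 4, 5, 2]), ([1, 1, 1, 1, 0, 1, 0, 0], [5, 6, 7, 4, 5, 6, 2, 3, 4, 5,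
    2]), ([1, 1, 1, 1, 0, 1, 0, 1], [7, 6, 2, 1, 3, 4, 5, 2]), ([1, 1, 1, 1, 0, 1, 1, 1], [6, 2,
    1, 3, 4, 5, 2]), ([1, 1, 1, 1, 1, 0, 0, 1], [4, 5, 6, 2, 3, 4, 5, 2]), ([1, 1, 1, 1, 1, 0, 1,
    0], [6, 7, 5, 6, 2, 1, 3, 4, 5, 2]), ([1, 1, 1, 1, 1, 0, 1, 1], [7, 4, 5, 6, 2, 3, 4, 5, 2]),
    ([1, 1, 1, 1, 1, 1, 0, 1], [5, 6, 2, 1, 3, 4, 5, 2]), ([1, 1, 1, 1, 1, 1, 1, 0], [6, 7, 4, 5,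
    6, 2, 3, 4, 5, 2]), ([1, 1, 1, 1, 1, 1, 1, 1], [7, 5, 6, 2, 1, 3, 4, 5, 2])]

/-- The sum with the first normal form. -/
def ad1 (a : List ℕ) : List ℕ :=
  (List.range 8).map fun k => [0, 0, 1, 1, 0, 0, 0, 0].getD k 0 + a.getD k 0

theorem rc2_eq : rc2 = tabE8.map fun x => res 2 x.2.2.2 := by decide +kernel

theorem ca8_ok : ca8.length = chevE8.rank ∧ ∀ i < chevE8.rank, ∀ j < chevE8.rank,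
    gt ca8 i j = chevE8.cartan i (chevE8.simple j) := by decide +kernel

theorem z_eq {a : List ℕ} {f : Rt → ℤ} (h : Rp C8 2 a f) (hf : IsAdd C8.R f) :
    cntL (kil 2 a) rc2 = z0 2 f := by
  have e : rc2 = List.ofFn fun r : Rt => res 2 (rd chevE8 rcE8 r).2.2.2 := by
    rw [rc2_eq, tabOKE8.1, List.map_map]
    exact List.ext_getElem (by simp) fun i h1 h2 => by simp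
  rw [cntL, sumL_eq, e, List.map_ofFn, List.sum_ofFn]
  refine Finset.sum_congr rfl fun r _ => ?_
  have k : (dotN a (res 2 (rd chevE8 rcE8 r).2.2.2) : ZMod 2) = f r := by
    simp only [rd, dotN_res (show 0 < 2 by decide) dvd_rfl, hf r, h _, rc_eq C8 tabOKE8,
      Int.cast_sum, Int.cast_mul, mul_comm]
  simp only [Function.comp_apply, ← k, ← kil_iff]
  cases kil 2 a _ <;> rfl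

theorem exists_word {s : ℕ} (hs : 0 < s) {l : List ℕ} (hl : ∀ i ∈ l, i < chevE8.rank) :
    ∃ w ∈ C8.S.W, ∀ a f, Rp C8 s a f → IsAdd C8.R f →
      Rp C8 s (l.foldl (svN s ca8) a) fun r => f (w r) := by
  obtain ⟨l, rfl⟩ := exists_finList' hl
  clear hl
  induction l with
  | nil => exact ⟨1, one_mem _, fun _ _ h _ => h⟩
  | cons i l ih =>
    obtain ⟨w, hw, h1⟩ := ih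
    refine ⟨_, mul_mem (C8.R.τ_mem_W (C8.R.simple i)) hw, fun a f h hf => ?_⟩
    exact h1 (svN s ca8 a i) _ (fun j => by
      simp [svN, ca8_ok.1, cast_res hs dvd_rfl, hf.τ, ← h _, ca8_ok.2,
        RS.pair_simple_simple, C8.A_eq]) (hf.comp (C8.R.τ_mem_W (C8.R.simple i)))

theorem z2 : Z2Stmt := fun f hf => by
  have key : allCube 2 chevE8.rank (fun a => decide (cntL (kil 2 a) rc2 = 112) ||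
      decide (cntL (kil 2 a) rc2 = 128) || decide (a = [0, 0, 0, 0, 0, 0, 0, 0])) = true := by
    decide +kernel
  obtain ⟨a, h1, -, h2⟩ := exists_cube (C := C8) f (by decide) key
  simp only [Bool.or_eq_true, decide_eq_true_eq, z_eq h2 hf] at h1
  rcases h1 with (h | h) | rfl
  · exact Or.inl h
  · exact Or.inr (Or.inl h)
  · refine Or.inr (Or.inr (hf.eq_zero fun j => ?_))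
    rw [← h2 j]
    revert j
    decide +kernel

theorem nf1 : Nf1Stmt := fun f hf hz => by
  have key : allCube 2 chevE8.rank (fun a => !decide (cntL (kil 2 a) rc2 = 112) ||
      tb1.any fun p => decide (p.1 = a)) = true := by decide +kernel
  have key2 : ∀ p ∈ tb1, (∀ i ∈ p.2, i < chevE8.rank) ∧
      p.2.foldl (svN 2 ca8) p.1 = [0, 0, 1, 1, 0, 0, 0, 0] := by decide +kernel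
  obtain ⟨a, h1, -, h2⟩ := exists_cube (C := C8) f (by decide) key
  simp only [Bool.or_eq_true, z_eq h2 hf, hz, decide_true, Bool.not_true, Bool.false_eq_true,
    false_or, List.any_eq_true, decide_eq_true_eq] at h1
  obtain ⟨p, hp, rfl⟩ := h1
  obtain ⟨w, hw, h⟩ := exists_word two_pos (key2 p hp).1
  have k := h _ _ h2 hf
  rw [(key2 p hp).2] at k
  exact ⟨w, hw, fun r => (k.vN_eq (hf.comp hw) r).symm⟩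

theorem nf2 : Nf2Stmt := fun f hf hz hz' => by
  have key : allCube 2 chevE8.rank (fun a => !decide (cntL (kil 2 a) rc2 = 112) ||
      (!decide (cntL (kil 2 (ad1 a)) rc2 = 112) || tb2.any fun p => decide (p.1 = a))) = true := by
    decide +kernel
  have key2 : ∀ p ∈ tb2, (∀ i ∈ p.2, i < chevE8.rank) ∧
      p.2.foldl (svN 2 ca8) [0, 0, 1, 1, 0, 0, 0, 0] = [0, 0, 1, 1, 0, 0, 0, 0] ∧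
      p.2.foldl (svN 2 ca8) p.1 = [0, 0, 0, 0, 0, 1, 0, 0] := by decide +kernel
  obtain ⟨a, h1, -, h2⟩ := exists_cube (C := C8) f (by decide) key
  have a1 : IsAdd C8.R f1 := isAdd_vN _ _
  have r1 : Rp C8 2 [0, 0, 1, 1, 0, 0, 0, 0] f1 := rp_vN _ _ _
  have h3 : Rp C8 2 (ad1 a) fun r => f1 r + f r := fun j => by
    have hj : (j : ℕ) < 8 := j.2
    rw [Int.cast_add, ← r1 j, ← h2 j, ← Nat.cast_add, ad1, List.getD_eq_getElem _ _ (by simpa using hj),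
      List.getElem_map, List.getElem_range]
  simp only [Bool.or_eq_true, z_eq h2 hf, z_eq h3 (a1.add hf), hz, hz', decide_true, Bool.not_true,
    Bool.false_eq_true, false_or, List.any_eq_true, decide_eq_true_eq] at h1
  obtain ⟨p, hp, rfl⟩ := h1
  obtain ⟨w, hw, h⟩ := exists_word two_pos (key2 p hp).1
  have k := h _ _ h2 hf
  have k1 := h _ _ r1 a1
  rw [(key2 p hp).2.2] at k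
  rw [(key2 p hp).2.1] at k1
  exact ⟨w, hw, fun r => (k1.vN_eq (a1.comp hw) r).symm, fun r => (k.vN_eq (hf.comp hw) r).symm⟩

set_option linter.unusedTactic false in
set_option linter.unreachableTactic false in
theorem eqns_E83Nf : True := by
  first | (have := @Cfsg.Agent.H86.E83.rc2.eq_def) | skip
  first | (have := @Cfsg.Agent.H86.E83.rc2.eq_1) | skip
  first | (have := @Cfsg.Agent.H86.E83.rc2.eq_unfold) | skip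
  first | (have := @Cfsg.Agent.H86.E83.rc2.congr_simp) | skip
  first | (have := @Cfsg.Agent.H86.E83.ca8.eq_def) | skip
  first | (have := @Cfsg.Agent.H86.E83.ca8.eq_1) | skip
  first | (have := @Cfsg.Agent.H86.E83.ca8.eq_unfold) | skip
  first | (have := @Cfsg.Agent.H86.E83.ca8.congr_simp) | skip
  first | (have := @Cfsg.Agent.H86.E83.tb1.eq_def) | skip
  first | (have := @Cfsg.Agent.H86.E83.tb1.eq_1) | skip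
  first | (have := @Cfsg.Agent.H86.E83.tb1.eq_unfold) | skip
  first | (have := @Cfsg.Agent.H86.E83.tb1.congr_simp) | skip
  first | (have := @Cfsg.Agent.H86.E83.tb2.eq_def) | skip
  first | (have := @Cfsg.Agent.H86.E83.tb2.eq_1) | skip
  first | (have := @Cfsg.Agent.H86.E83.tb2.eq_unfold) | skip
  first | (have := @Cfsg.Agent.H86.E83.tb2.congr_simp) | skip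
  first | (have := @Cfsg.Agent.H86.E83.ad1.eq_def) | skip
  first | (have := @Cfsg.Agent.H86.E83.ad1.eq_1) | skip
  first | (have := @Cfsg.Agent.H86.E83.ad1.eq_unfold) | skip
  first | (have := @Cfsg.Agent.H86.E83.ad1.congr_simp) | skip
  trivial

end Cfsg.Agent.H86.E83
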