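import Cfsg.Agent.H46.SKit

/-!
# The lift of `ζ` is not inverted up to `z`
-/

set_option autoImplicit false
open scoped Pointwise commutatorElement
open Subgroup

namespace Cfsg.Agent.H86.Eta3
open Cfsg.Agent.H46.S95 Cfsg.Agent.H23.D2

universe u

local notation "N[" A "]" => Subgroup.normalizer (SetLike.coe A)

variable {Γ : Type} [Group Γ] {G : Type u} [Group G]

/-- all hypotheses -/
structure Ctx (φ : Γ →* G) (t : G) (O : Subgroup G) (z ζ x σ : Γ) (B V : Subgroup Γ) (f : Γ → G)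
    (η : G) : Prop where
  hb : Base Γ
  o : OF z ζ x σ B V
  c : Cx φ t O
  l : Lf φ t z f
  lo : LO O z f
  ex : Ex z f
  e : E1 φ t f z ζ (Cz ζ) V η

open Classical in
/-- the lift extended by `1 ↦ 1` -/
noncomputable def f1 (f : Γ → G) (v : Γ) : G := if v = 1 then 1 else f v

/-- the conjugates under the powers of `σ` -/
def cj {H : Type*} [Group H] (s a : H) (i : ℕ) : H := s ^ i * a * (s ^ i)⁻¹

/-- the commutator -/
def ka (g h : G) : G := g * h * g⁻¹ * h⁻¹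

theorem f1_one (f : Γ → G) : f1 f 1 = 1 := if_pos rfl

theorem f1_ne (f : Γ → G) {v : Γ} (h : v ≠ 1) : f1 f v = f v := if_neg h

theorem cj_eq {H : Type*} [Group H] (s a : H) (i : ℕ) : cj s a i = s ^ i * a * (s ^ i)⁻¹ := rfl

theorem ka_eq (g h : G) : ka g h = g * h * g⁻¹ * h⁻¹ := rfl

theorem cj_zero {H : Type*} [Group H] (s a : H) : cj s a 0 = a := by simp [cj_eq]

theorem cj_cj {H : Type*} [Group H] (s a : H) (i k : ℕ) : cj s (cj s a i) k = cj s a (k + i) := by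
  simp only [cj_eq, pow_add]; group

theorem cj_mul {H : Type*} [Group H] (s a b : H) (k : ℕ) :
    cj s (a * b) k = cj s a k * cj s b k := by
  simp only [cj_eq]; group

theorem cj_inv {H : Type*} [Group H] (s a : H) (k : ℕ) : cj s a⁻¹ k = (cj s a k)⁻¹ := by
  simp only [cj_eq]; group

theorem cj_one {H : Type*} [Group H] (s : H) (k : ℕ) : cj s 1 k = 1 := by
  simp only [cj_eq]; group

theorem cj_inj {H : Type*} [Group H] {s a b : H} {k : ℕ} (h : cj s a k = cj s b k) : a = b := by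
  simpa [cj_eq] using h

theorem cj_mod {H : Type*} [Group H] {s : H} (h : s ^ 7 = 1) (a : H) (i : ℕ) :
    cj s a i = cj s a (i % 7) := by
  rw [cj_eq, cj_eq, pow_eq_pow_mod i h]

theorem cj_congr {H : Type*} [Group H] {s : H} (h : s ^ 7 = 1) (a : H) {i j : ℕ}
    (e : i % 7 = j % 7) : cj s a i = cj s a j := by
  rw [cj_mod h a i, e, ← cj_mod h]

theorem map_cj (φ : Γ →* G) (s a : Γ) (i : ℕ) : φ (cj s a i) = cj (φ s) (φ a) i := by
  simp [cj_eq]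

theorem cj_ka (s g h : G) (k : ℕ) : cj s (ka g h) k = ka (cj s g k) (cj s h k) := by
  simp only [cj_eq, ka_eq]; group

theorem ka_self (g : G) : ka g g = 1 := by simp [ka_eq]

theorem ka_inv (g h : G) : (ka g h)⁻¹ = ka h g := by simp [ka_eq, mul_assoc]

theorem ka_one {g h : G} : ka g h = 1 ↔ g * h = h * g := by
  rw [ka_eq, mul_inv_eq_one, mul_inv_eq_iff_eq_mul]

theorem ka_mul_right {g h k : G} (c : h * ka g k = ka g k * h) :
    ka g (h * k) = ka g h * ka g k := by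
  calc ka g (h * k) = ka g h * (h * ka g k) * h⁻¹ := by simp only [ka_eq]; group
    _ = _ := by rw [c]; group

theorem ka_mul_left {g h k : G} (c : g * ka h k = ka h k * g) :
    ka (g * h) k = ka h k * ka g k := by
  calc ka (g * h) k = g * ka h k * g⁻¹ * ka g k := by simp only [ka_eq]; group
    _ = _ := by rw [c]; group

/-- elements centralising `B`, the lifts and `O` and moving `t` in a controlled way -/
structure PP (φ : Γ →* G) (t : G) (O : Subgroup G) (B V : Subgroup Γ) (f : Γ → G) (g : G)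
    (v b : Γ) : Prop where
  cB : ∀ c ∈ B, g * φ c = φ c * g
  cV : ∀ w ∈ V, g * f1 f w = f1 f w * g
  cO : ∀ o ∈ O, g * o = o * g
  vV : v ∈ V
  bB : b ∈ B
  mv : g * t * g⁻¹ = f1 f v * φ b * t

variable {φ : Γ →* G} {t : G} {O : Subgroup G} {z ζ x σ : Γ} {B V : Subgroup Γ} {f : Γ → G}
  {η : G}

namespace Ctx
variable (h : Ctx φ t O z ζ x σ B V f η)
include h

theorem VB {v : Γ} (hv : v ∈ V) : v ∈ B := ((h.o.mem v).1 hv).1

theorem Vsq {v : Γ} (hv : v ∈ V) : v * v = 1 := ((h.o.mem v).1 hv).2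

theorem zV : z ∈ V := h.o.sq ▸ h.o.four ζ h.o.zB

theorem cjV {p v : Γ} (hp : p ∈ N[B]) (hv : v ∈ V) : p * v * p⁻¹ ∈ V := by
  refine (h.o.mem _).2 ⟨norm_conj hp (h.VB hv), ?_⟩
  calc p * v * p⁻¹ * (p * v * p⁻¹) = p * (v * v) * p⁻¹ := by group
    _ = 1 := by rw [h.Vsq hv]; group

theorem root {v : Γ} (hv : v ∈ V) (n : v ≠ 1) : IsConj z v := h.o.one v (h.Vsq hv) n

theorem f1_cj {v : Γ} (hv : v ∈ V) (a : Γ) :
    f1 f (a * v * a⁻¹) = φ a * f1 f v * (φ a)⁻¹ := by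
  by_cases n : v = 1
  · subst n; simp [f1_one]
  · rw [f1_ne f n, f1_ne f (by simpa using n), h.l.eq a v (h.root hv n)]

theorem f1_cm {v a : Γ} (hv : v ∈ V) (c : a * v = v * a) : φ a * f1 f v = f1 f v * φ a := by
  have := h.f1_cj hv a
  rw [c, mul_inv_cancel_right] at this
  exact (eq_mul_inv_iff_mul_eq.1 this).symm

theorem f1_B {v b : Γ} (hv : v ∈ V) (hb : b ∈ B) : φ b * f1 f v = f1 f v * φ b :=
  h.f1_cm hv (h.o.ab _ hb _ (h.VB hv))

theorem f1_sq {v : Γ} (hv : v ∈ V) : f1 f v * f1 f v = 1 := by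
  by_cases n : v = 1
  · subst n; simp [f1_one]
  · rw [f1_ne f n, h.l.sq v (h.root hv n)]

theorem f1_mul {v w : Γ} (hv : v ∈ V) (hw : w ∈ V) : f1 f (v * w) = f1 f v * f1 f w := by
  by_cases n : v = 1
  · subst n; simp [f1_one]
  by_cases m : w = 1
  · subst m; simp [f1_one]
  by_cases e : v = w
  · subst e; rw [h.Vsq hv, f1_one, h.f1_sq hv]
  have k : v * w ≠ 1 := fun k => e (by
    rw [eq_inv_of_mul_eq_one_left k, inv_eq_of_mul_eq_one_left (h.Vsq hw)])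
  rw [f1_ne f n, f1_ne f m, f1_ne f k,
    h.ex v w (h.root hv n) (h.root hw m) (h.o.ab _ (h.VB hv) _ (h.VB hw)) e]

theorem f1_f1 {v w : Γ} (hv : v ∈ V) (hw : w ∈ V) : f1 f v * f1 f w = f1 f w * f1 f v := by
  rw [← h.f1_mul hv hw, ← h.f1_mul hw hv, h.o.ab _ (h.VB hv) _ (h.VB hw)]

theorem f1_O {v : Γ} (hv : v ∈ V) {o : G} (ho : o ∈ O) : f1 f v * o = o * f1 f v := by
  by_cases n : v = 1
  · subst n; simp [f1_one]
  · rw [f1_ne f n, h.lo v (h.root hv n) o ho]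

theorem f1_inv {v : Γ} (hv : v ∈ V) : (f1 f v)⁻¹ = f1 f v :=
  inv_eq_of_mul_eq_one_right (h.f1_sq hv)

theorem f1_t {v : Γ} (hv : v ∈ V) : f1 f v * t * (f1 f v)⁻¹ = φ v * t := by
  rw [h.f1_inv hv]
  by_cases n : v = 1
  · subst n; simp [f1_one]
  · rw [f1_ne f n, h.l.br v (h.root hv n), h.c.AC]

theorem sep {v : Γ} (hv : v ∈ V) (e : f1 f v * t = t * f1 f v) : v = 1 := by
  have := h.f1_t hv
  rw [e, mul_inv_cancel_right] at this
  exact h.c.inj (by simpa using this.symm)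

theorem sep2 {v w : Γ} (hv : v ∈ V) (e : f1 f v = φ w) : v = 1 :=
  h.sep hv (by rw [e, h.c.AC])

theorem pmul {g k : G} {v b w c : Γ} (p : PP φ t O B V f g v b) (q : PP φ t O B V f k w c) :
    PP φ t O B V f (g * k) (v * w) (b * c) := by
  refine ⟨fun a ha => ?_, fun a ha => ?_, fun a ha => ?_, V.mul_mem p.vV q.vV,
    B.mul_mem p.bB q.bB, ?_⟩
  · rw [mul_assoc, q.cB a ha, ← mul_assoc, p.cB a ha, mul_assoc]
  · rw [mul_assoc, q.cV a ha, ← mul_assoc, p.cV a ha, mul_assoc]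
  · rw [mul_assoc, q.cO a ha, ← mul_assoc, p.cO a ha, mul_assoc]
  · calc g * k * t * (g * k)⁻¹ = g * (k * t * k⁻¹) * g⁻¹ := by group
      _ = g * f1 f w * φ c * t * g⁻¹ := by rw [q.mv]; group
      _ = f1 f w * (g * φ c) * t * g⁻¹ := by rw [p.cV w q.vV]; group
      _ = f1 f w * φ c * (g * t * g⁻¹) := by rw [p.cB c q.bB]; group
      _ = f1 f w * (φ c * f1 f v) * φ b * t := by rw [p.mv]; group
      _ = f1 f w * f1 f v * φ (c * b) * t := by rw [h.f1_B p.vV q.bB, map_mul]; group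
      _ = _ := by rw [h.f1_mul p.vV q.vV, h.f1_f1 p.vV q.vV, h.o.ab _ p.bB _ q.bB]

theorem pinv {g : G} {v b : Γ} (p : PP φ t O B V f g v b) : PP φ t O B V f g⁻¹ v b⁻¹ := by
  have iv : ∀ y : G, g * y = y * g → g⁻¹ * y = y * g⁻¹ := fun y e => by
    calc g⁻¹ * y = g⁻¹ * (y * g) * g⁻¹ := by group
      _ = _ := by rw [← e]; group
  refine ⟨fun a ha => iv _ (p.cB a ha), fun a ha => iv _ (p.cV a ha), fun a ha => iv _ (p.cO a ha),
    p.vV, B.inv_mem p.bB, ?_⟩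
  have e1 : g⁻¹ * (f1 f v * φ b) = f1 f v * φ b * g⁻¹ := iv _ (by
    rw [← mul_assoc, p.cV v p.vV, mul_assoc, p.cB b p.bB, mul_assoc])
  have e2 : f1 f v * φ b * (g⁻¹ * t * g⁻¹⁻¹) = t := by
    calc f1 f v * φ b * (g⁻¹ * t * g⁻¹⁻¹) = (f1 f v * φ b * g⁻¹) * t * g := by group
      _ = g⁻¹ * (f1 f v * φ b * t) * g := by rw [← e1]; group
      _ = t := by rw [← p.mv]; group
  calc g⁻¹ * t * g⁻¹⁻¹ = (f1 f v * φ b)⁻¹ * t := by rw [← e2]; nth_rw 1 [e2]; group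
    _ = _ := by rw [mul_inv_rev, h.f1_inv p.vV, ← map_inv, h.f1_B p.vV (B.inv_mem p.bB)]

theorem pf1 {v : Γ} (hv : v ∈ V) : PP φ t O B V f (f1 f v) 1 v :=
  ⟨fun _ ha => (h.f1_B hv ha).symm, fun _ ha => h.f1_f1 hv ha, fun _ ha => h.f1_O hv ha,
    V.one_mem, h.VB hv, by rw [h.f1_t hv, f1_one, one_mul]⟩

theorem pker {g : G} (p : PP φ t O B V f g 1 1) : ∃ c ∈ B, ∃ o ∈ O, g = φ c * o := by
  have hc : g * t = t * g := by
    have := p.mv
    rw [f1_one, map_one, one_mul, one_mul] at this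
    exact mul_inv_eq_iff_eq_mul.1 this
  obtain ⟨α, hα⟩ := h.c.aut hc
  obtain ⟨c, cB, e⟩ := h.o.cB α fun b hb => h.c.inj (by rw [hα, p.cB b hb, mul_inv_cancel_right])
  obtain ⟨o, ho, k | k⟩ := h.c.split' hc hα e
  · exact ⟨c, cB, o, ho, k⟩
  · exfalso
    refine h.o.z1 (h.sep h.zV ?_)
    have := p.cV z h.zV
    rw [k, mul_assoc, ← h.f1_O h.zV ho, ← mul_assoc, ← mul_assoc, mul_left_inj, ← mul_assoc,
      ← h.f1_B h.zV cB, mul_assoc, mul_assoc, mul_right_inj] at this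
    exact this.symm

theorem pcen {g k : G} {v b : Γ} (p : PP φ t O B V f g 1 1) (q : PP φ t O B V f k v b) :
    k * g = g * k := by
  obtain ⟨c, cB, o, ho, rfl⟩ := h.pker p
  rw [← mul_assoc, q.cB c cB, mul_assoc, q.cO o ho, mul_assoc]

theorem pker2 {g : G} (p : PP φ t O B V f g 1 1) (e : g * g = 1) : ∃ c ∈ V, g = φ c := by
  obtain ⟨c, cB, o, ho, rfl⟩ := h.pker p
  have k : φ (c * c) * (o * o) = 1 := by
    rw [← e, map_mul, mul_assoc, mul_assoc, ← mul_assoc o, ← h.c.oA ho c]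
    group
  obtain ⟨k1, k2⟩ := h.c.o_of_mul h.hb (O.mul_mem ho ho) k
  exact ⟨c, (h.o.mem c).2 ⟨cB, k1⟩, by rw [h.c.o_sq ho k2, mul_one]⟩

theorem pka {g k : G} {v b w c : Γ} (p : PP φ t O B V f g v b) (q : PP φ t O B V f k w c) :
    PP φ t O B V f (ka g k) 1 1 := by
  have := h.pmul (h.pmul (h.pmul p q) (h.pinv p)) (h.pinv q)
  have e1 : v * w * v * w = 1 := by
    rw [mul_assoc, h.Vsq (V.mul_mem p.vV q.vV)]
  have e2 : b * c * b⁻¹ * c⁻¹ = 1 := by rw [h.o.ab _ p.bB _ q.bB]; group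
  rwa [e1, e2] at this

theorem pcj {g : G} {v b s : Γ} (p : PP φ t O B V f g v b) (hs : s ∈ N[B]) :
    PP φ t O B V f (φ s * g * (φ s)⁻¹) (s * v * s⁻¹) (s * b * s⁻¹) := by
  have iv : ∀ y : G, g * ((φ s)⁻¹ * y * φ s) = (φ s)⁻¹ * y * φ s * g →
      φ s * g * (φ s)⁻¹ * y = y * (φ s * g * (φ s)⁻¹) := fun y e => by
    calc φ s * g * (φ s)⁻¹ * y = φ s * (g * ((φ s)⁻¹ * y * φ s)) * (φ s)⁻¹ := by group
      _ = _ := by rw [e]; group
  refine ⟨fun a ha => iv _ ?_, fun a ha => iv _ ?_, fun a ha => iv _ ?_, h.cjV hs p.vV,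
    norm_conj hs p.bB, ?_⟩
  · simpa using p.cB _ (norm_conj' hs ha)
  · have := p.cV _ (h.cjV (inv_mem hs) ha)
    rw [h.f1_cj ha] at this
    simpa using this
  · rw [← map_inv, h.c.oA ha, mul_assoc a, ← map_mul, inv_mul_cancel, map_one, mul_one,
      p.cO a ha]
  · have e : (φ s)⁻¹ * t = t * (φ s)⁻¹ := by rw [← map_inv, h.c.AC]
    calc φ s * g * (φ s)⁻¹ * t * (φ s * g * (φ s)⁻¹)⁻¹
        = φ s * g * ((φ s)⁻¹ * t) * φ s * g⁻¹ * (φ s)⁻¹ := by group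
      _ = φ s * (g * t * g⁻¹) * (φ s)⁻¹ := by rw [e]; group
      _ = φ s * f1 f v * φ b * (t * (φ s)⁻¹) := by rw [p.mv]; group
      _ = _ := by rw [← e, h.f1_cj p.vV, map_mul, map_mul, map_inv]; group

theorem esq : η * η = f1 f z := by rw [h.e.sq, f1_ne f h.o.z1]

theorem peta : PP φ t O B V f η z ζ⁻¹ := by
  refine ⟨fun a ha => h.e.cP a (mem_Cz.2 (h.o.ab _ ha _ h.o.zB)), fun a ha => ?_, fun o ho => ?_,
    h.zV, B.inv_mem h.o.zB, ?_⟩
  · by_cases n : a = 1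
    · subst n; simp [f1_one]
    · rw [f1_ne f n, h.e.cV a ha n]
  · have : closure (f '' {r | IsConj z r}) ≤ centralizer {o} := by
      rw [closure_le]
      rintro _ ⟨r, hr, rfl⟩
      exact mem_centralizer_singleton_iff.2 (h.lo r hr o ho)
    exact mem_centralizer_singleton_iff.1 (this h.e.mem)
  · have e1 : η * t * η = φ ζ * t := by
      rw [← h.e.tr, mul_assoc η _ t, mul_assoc _ t t, h.c.tt]; group
    have e2 : t * f1 f z = f1 f z * φ z * t := by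
      have := h.f1_t h.zV
      rw [h.f1_inv h.zV] at this
      rw [mul_assoc, ← this, ← mul_assoc, ← mul_assoc, h.f1_sq h.zV, one_mul]
    have e3 : ζ * z = ζ⁻¹ := by
      refine eq_inv_of_mul_eq_one_left ?_
      rw [mul_assoc, h.o.ab _ (h.VB h.zV) _ h.o.zB, ← mul_assoc, h.o.sq, h.o.zz]
    calc η * t * η⁻¹ = η * t * η * (η * η)⁻¹ := by group
      _ = φ ζ * (t * f1 f z) := by rw [e1, h.esq, h.f1_inv h.zV, mul_assoc]
      _ = φ ζ * f1 f z * φ z * t := by rw [e2]; group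
      _ = _ := by rw [h.f1_B h.zV h.o.zB, ← e3, map_mul]; group

theorem sN (i : ℕ) : σ ^ i ∈ N[B] := pow_mem h.o.sN i

theorem s7 : φ σ ^ 7 = 1 := by rw [← map_pow, h.o.s7, map_one]

theorem cjV' {v : Γ} (hv : v ∈ V) (i : ℕ) : cj σ v i ∈ V := h.cjV (h.sN i) hv

theorem f1_cj' {v : Γ} (hv : v ∈ V) (i : ℕ) : f1 f (cj σ v i) = cj (φ σ) (f1 f v) i := by
  rw [cj_eq, h.f1_cj hv, map_pow, cj_eq]

theorem pe (i : ℕ) : PP φ t O B V f (cj (φ σ) η i) (cj σ z i) (cj σ ζ i)⁻¹ := by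
  have := h.pcj h.peta (h.sN i)
  rw [map_pow] at this
  rw [← cj_inv]
  exact this

theorem esq' (i : ℕ) : cj (φ σ) η i * cj (φ σ) η i = f1 f (cj σ z i) := by
  rw [← cj_mul, h.esq, h.f1_cj' h.zV]

theorem line (i : ℕ) : cj σ z i * cj σ z (i + 1) = cj σ z (i + 3) := by
  have : cj σ z 0 * cj σ z 1 = cj σ z 3 := by simpa [cj_eq] using h.o.line
  have k := congrArg (fun y => cj σ y i) this
  simpa only [cj_mul, cj_cj, add_zero] using k

theorem vsq (i : ℕ) : cj σ z i * cj σ z i = 1 := h.Vsq (h.cjV' h.zV i)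

theorem ne2 (i : ℕ) : cj σ z (i + 2) ≠ cj σ z (i + 4) := fun e => by
  have e1 : cj σ z 2 = z := by
    have : cj σ z (i + 2 + 2) = cj σ z (i + 2 + 0) := e.symm
    rw [← cj_cj, ← cj_cj σ z 0, cj_zero] at this
    exact cj_inj this
  have e2 : cj σ z 4 = z := by
    have : cj σ (cj σ z 2) 2 = cj σ z 4 := cj_cj ..
    rw [← this, e1, e1]
  have e3 : cj σ z 8 = z := by
    have : cj σ (cj σ z 4) 4 = cj σ z 8 := cj_cj ..
    rw [← this, e2, e2]
  rw [cj_congr h.o.s7 z (i := 8) (j := 1) rfl, cj_eq, pow_one] at e3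
  exact h.o.ne (mul_inv_eq_iff_eq_mul.1 e3)

/-- the product over a line -/
theorem pbeta (i : ℕ) : cj σ ζ i * cj σ ζ (i + 1) * cj σ ζ (i + 3) ∈ V ∧
    PP φ t O B V f (f1 f (cj σ ζ i * cj σ ζ (i + 1) * cj σ ζ (i + 3)) *
      (cj (φ σ) η i * cj (φ σ) η (i + 1) * cj (φ σ) η (i + 3))) 1 1 := by
  have m : ∀ j, cj σ ζ j ∈ B := fun j => norm_conj (h.sN j) h.o.zB
  have s : ∀ j, cj σ ζ j * cj σ ζ j = cj σ z j := fun j => by rw [← cj_mul, h.o.sq]
  have c : ∀ j k, cj σ ζ j * cj σ ζ k = cj σ ζ k * cj σ ζ j := fun j k => h.o.ab _ (m j) _ (m k)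
  have c' : ∀ j k y, cj σ ζ j * (cj σ ζ k * y) = cj σ ζ k * (cj σ ζ j * y) := fun j k y => by
    rw [← mul_assoc, c, mul_assoc]
  have l : cj σ z i * cj σ z (i + 1) * cj σ z (i + 3) = 1 := by rw [h.line, h.vsq]
  have hV : cj σ ζ i * cj σ ζ (i + 1) * cj σ ζ (i + 3) ∈ V := by
    refine (h.o.mem _).2 ⟨B.mul_mem (B.mul_mem (m _) (m _)) (m _), ?_⟩
    rw [← l, ← s, ← s, ← s]
    simp only [mul_assoc, c']
  refine ⟨hV, ?_⟩
  have := h.pmul (h.pf1 hV) (h.pmul (h.pmul (h.pe i) (h.pe (i + 1))) (h.pe (i + 3)))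
  rw [l, one_mul] at this
  convert this using 1
  rw [← mul_inv_rev, ← mul_inv_rev, eq_comm, mul_inv_eq_one]
  simp only [mul_assoc, c, c']

theorem rel (j i : ℕ) : ka (cj (φ σ) η j) (cj (φ σ) η i) * ka (cj (φ σ) η j) (cj (φ σ) η (i + 1)) *
    ka (cj (φ σ) η j) (cj (φ σ) η (i + 3)) = 1 := by
  obtain ⟨hV, p⟩ := h.pbeta i
  have e := h.pcen p (h.pe j)
  rw [← mul_assoc, (h.pe j).cV _ hV, mul_assoc, mul_assoc (f1 f _), mul_right_inj, ← ka_one,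
    ka_mul_right (h.pcen (h.pka (h.pe j) (h.pe _)) (h.pmul (h.pe i) (h.pe (i + 1)))),
    ka_mul_right (h.pcen (h.pka (h.pe j) (h.pe _)) (h.pe i))] at e
  exact e

theorem ksq (i j : ℕ) : ka (cj (φ σ) η i) (cj (φ σ) η j) * ka (cj (φ σ) η i) (cj (φ σ) η j) = 1 := by
  rw [← ka_mul_left (h.pcen (h.pka (h.pe i) (h.pe j)) (h.pe i)), h.esq', ka_one]
  exact ((h.pe j).cV _ (h.cjV' h.zV i)).symm

theorem ksym (i j : ℕ) : ka (cj (φ σ) η i) (cj (φ σ) η j) = ka (cj (φ σ) η j) (cj (φ σ) η i) := by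
  rw [← ka_inv (cj (φ σ) η i), inv_eq_of_mul_eq_one_right (h.ksq i j)]

theorem comm (i j : ℕ) : cj (φ σ) η i * cj (φ σ) η j = cj (φ σ) η j * cj (φ σ) η i := by
  obtain ⟨K, hK⟩ : ∃ K : ℕ → ℕ → G, ∀ i j, K i j = ka (cj (φ σ) η i) (cj (φ σ) η j) :=
    ⟨_, fun _ _ => rfl⟩
  have sh : ∀ k i j, cj (φ σ) (K i j) k = K (k + i) (k + j) := fun k i j => by
    rw [hK, hK, cj_ka, cj_cj, cj_cj]
  have md : ∀ i j i' j', i % 7 = i' % 7 → j % 7 = j' % 7 → K i j = K i' j' :=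
    fun i j i' j' a b => by rw [hK, hK, cj_congr h.s7 η a, cj_congr h.s7 η b]
  have r : ∀ i, K 0 i * K 0 (i + 1) * K 0 (i + 3) = 1 := fun i => by
    rw [hK, hK, hK]; exact h.rel 0 i
  have sq : ∀ i j, K i j * K i j = 1 := fun i j => by rw [hK]; exact h.ksq i j
  have sy : ∀ i j, K i j = K j i := fun i j => by rw [hK, hK]; exact h.ksym i j
  have d : ∀ i, K i i = 1 := fun i => by rw [hK, ka_self]
  have eq : ∀ i j, K 0 i * K 0 j = 1 → K 0 j = K 0 i := fun i j e =>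
    mul_left_cancel (e.trans (sq 0 i).symm)
  have k3 : K 0 3 = K 0 1 := eq _ _ (by simpa [d] using r 0)
  have k6 : K 0 6 = cj (φ σ) (K 0 1) 6 := by rw [sh, sy]; exact md _ _ _ _ rfl rfl
  have k2 : K 0 2 = K 0 6 := eq _ _ (by
    have := r 6
    rwa [md 0 (6 + 1) 0 0 rfl rfl, md 0 (6 + 3) 0 2 rfl rfl, d, mul_one] at this)
  have k4 : K 0 4 = cj (φ σ) (K 0 1) 4 := by rw [← k3, sh, sy]; exact md _ _ _ _ rfl rfl
  have k5 : K 0 5 = K 0 4 := eq _ _ (by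
    have := r 4
    rwa [md 0 (4 + 3) 0 0 rfl rfl, d, mul_one] at this)
  have k1 : K 0 1 = 1 := by
    obtain ⟨X, hX, e⟩ := h.pker2 (h.pka (h.pe 0) (h.pe 1)) (h.ksq 0 1)
    rw [← hK] at e
    have r1 : K 0 1 * K 0 2 * K 0 4 = 1 := r 1
    rw [k2, k6, k4, e, ← map_cj, ← map_cj, ← map_mul, ← map_mul] at r1
    have r2 := h.c.inj (r1.trans (map_one φ).symm)
    rcases h.o.cov7 X hX with n | ⟨k, n⟩
    · rw [e, n, map_one]
    · exfalso
      rw [← cj_eq] at n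
      rw [n, cj_cj, cj_cj, h.o.ab _ (h.VB (h.cjV' h.zV _)) _ (h.VB (h.cjV' h.zV _)),
        cj_congr h.o.s7 z (i := k) (j := 6 + k + 1) (by omega), h.line,
        cj_congr h.o.s7 z (i := 6 + k + 3) (j := k + 2) (by omega), add_comm 4 k] at r2
      exact h.ne2 k (mul_right_cancel (r2.trans (h.vsq _).symm))
  have z0 : ∀ m, K 0 m = 1 := fun m => by
    rw [md 0 m 0 (m % 7) rfl (by omega)]
    have : m % 7 < 7 := Nat.mod_lt _ (by norm_num)
    generalize m % 7 = n at this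
    interval_cases n <;> simp only [d, k2, k3, k5, k4, k6, k1, cj_one]
  rw [← ka_one, ← hK, md i j (i + 0) (i + (j + 6 * i)) rfl (by omega), ← sh, z0, cj_one]

theorem comm' (i j : ℕ) (y : G) :
    cj (φ σ) η i * (cj (φ σ) η j * y) = cj (φ σ) η j * (cj (φ σ) η i * y) := by
  rw [← mul_assoc, h.comm, mul_assoc]

theorem f2_mul {v w : Γ} (hv : v ∈ V) (hw : w ∈ V) :
    f1 f (v * w) * φ (v * w) = f1 f v * φ v * (f1 f w * φ w) := by
  rw [h.f1_mul hv hw, map_mul, mul_assoc (f1 f v) (φ v), ← mul_assoc (φ v), h.f1_B hw (h.VB hv)]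
  group

theorem f2_cm {g : G} {v b w : Γ} (p : PP φ t O B V f g v b) (hw : w ∈ V) :
    g * (f1 f w * φ w) = f1 f w * φ w * g := by
  rw [← mul_assoc, p.cV w hw, mul_assoc, p.cB w (h.VB hw), mul_assoc]

/-- the decomposition of the product over the line -/
theorem gam : ∃ a ∈ V, ∃ b ∈ V, a * b = cj σ ζ 0 * cj σ ζ 1 * cj σ ζ 3 ∧
    cj (φ σ) η 0 * cj (φ σ) η 1 * cj (φ σ) η 3 = f1 f a * (f1 f b * φ b) := by
  obtain ⟨hV, p⟩ := h.pbeta 0
  simp only [zero_add] at hV p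
  have q := h.pmul (h.pmul (h.pe 0) (h.pe 1)) (h.pe 3)
  have s : cj (φ σ) η 0 * cj (φ σ) η 1 * cj (φ σ) η 3 *
      (cj (φ σ) η 0 * cj (φ σ) η 1 * cj (φ σ) η 3) = 1 := by
    have l : cj σ z 0 * cj σ z 1 * cj σ z 3 = 1 := by rw [h.line 0, h.vsq]
    have m := h.cjV' h.zV
    rw [← f1_one f, ← l, h.f1_mul (V.mul_mem (m _) (m _)) (m _), h.f1_mul (m _) (m _), ← h.esq',
      ← h.esq', ← h.esq']
    simp only [mul_assoc, h.comm']
  generalize cj (φ σ) η 0 * cj (φ σ) η 1 * cj (φ σ) η 3 = γ at *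
  generalize cj σ ζ 0 * cj σ ζ 1 * cj σ ζ 3 = β at *
  obtain ⟨c, cV, e⟩ := h.pker2 p (by
    rw [mul_assoc, ← mul_assoc γ, q.cV _ hV, mul_assoc, s, mul_one, h.f1_sq hV])
  refine ⟨_, V.mul_mem hV cV, c, cV, by rw [mul_assoc, h.Vsq cV, mul_one], ?_⟩
  rw [h.f1_mul hV cV, mul_assoc, ← mul_assoc (f1 f c), h.f1_sq cV, one_mul, ← e, ← mul_assoc,
    h.f1_sq hV, one_mul]

theorem mv (hx : φ x * η * (φ x)⁻¹ = η⁻¹ * φ z) {p : Γ} {i j : ℕ}
    (e : p * cj σ z i * p⁻¹ = cj σ z j) :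
    ∃ w ∈ V, φ p * cj (φ σ) η i * (φ p)⁻¹ = cj (φ σ) η j * (f1 f w * φ w) := by
  obtain ⟨c, hc⟩ : ∃ c, c = (σ ^ j)⁻¹ * p * σ ^ i := ⟨_, rfl⟩
  have cz : c * z = z * c := by
    rw [cj_eq, cj_eq] at e
    calc c * z = (σ ^ j)⁻¹ * (p * (σ ^ i * z * (σ ^ i)⁻¹) * p⁻¹) * p * σ ^ i := by rw [hc]; group
      _ = z * c := by rw [e, hc]; group
  have e1 : φ p * cj (φ σ) η i * (φ p)⁻¹ = cj (φ σ) (φ c * η * (φ c)⁻¹) j := by
    simp only [hc, cj_eq, map_mul, map_inv, map_pow]; group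
  rcases h.o.cov c cz with k | k
  · refine ⟨1, V.one_mem, ?_⟩
    rw [e1, ← h.e.cP c (mem_Cz.2 k), f1_one]
    simp
  · refine ⟨cj σ z j, h.cjV' h.zV j, ?_⟩
    have xi : x⁻¹ = x := inv_eq_of_mul_eq_one_right h.o.xx
    have e2 : η⁻¹ = η * f1 f z := by
      rw [← h.f1_inv h.zV, ← h.esq]; group
    have lz : c * x * z = z * (c * x) := by
      rw [← h.o.sq, ← mul_assoc, k, mul_assoc, k, mul_assoc]
    have e3 : φ c * η * (φ c)⁻¹ = η * (f1 f z * φ z) := by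
      have a1 := h.e.cP _ (mem_Cz.2 k)
      have a2 := h.f1_cm h.zV lz
      have a3 : φ (c * x) * φ z = φ z * φ (c * x) := by rw [← map_mul, lz, map_mul]
      have a4 : φ c = φ (c * x) * φ x := by rw [← map_mul, mul_assoc, h.o.xx, mul_one]
      calc φ c * η * (φ c)⁻¹ = φ (c * x) * (φ x * η * (φ x)⁻¹) * (φ (c * x))⁻¹ := by
            rw [a4]; group
        _ = φ (c * x) * η * f1 f z * φ z * (φ (c * x))⁻¹ := by rw [hx, e2]; group
        _ = η * (φ (c * x) * f1 f z) * φ z * (φ (c * x))⁻¹ := by rw [← a1]; group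
        _ = η * f1 f z * (φ (c * x) * φ z) * (φ (c * x))⁻¹ := by rw [a2]; group
        _ = _ := by rw [a3]; group
    rw [e1, e3, cj_mul, cj_mul, h.f1_cj' h.zV, map_cj]

theorem tri (hx : φ x * η * (φ x)⁻¹ = η⁻¹ * φ z) {p : Γ} {a b c : ℕ}
    (e0 : p * cj σ z 0 * p⁻¹ = cj σ z a) (e1 : p * cj σ z 1 * p⁻¹ = cj σ z b)
    (l : cj σ z a * cj σ z b = cj σ z c)
    (k : cj (φ σ) η a * cj (φ σ) η b * cj (φ σ) η c = cj (φ σ) η 0 * cj (φ σ) η 1 * cj (φ σ) η 3) :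
    ∃ w ∈ V, φ p * (cj (φ σ) η 0 * cj (φ σ) η 1 * cj (φ σ) η 3) * (φ p)⁻¹ =
      cj (φ σ) η 0 * cj (φ σ) η 1 * cj (φ σ) η 3 * (f1 f w * φ w) := by
  have e3 : p * cj σ z 3 * p⁻¹ = cj σ z c := by
    rw [← l, ← e0, ← e1, ← h.line 0]; group
  obtain ⟨w0, m0, k0⟩ := h.mv hx e0
  obtain ⟨w1, m1, k1⟩ := h.mv hx e1
  obtain ⟨w3, m3, k3⟩ := h.mv hx e3
  refine ⟨w0 * w1 * w3, V.mul_mem (V.mul_mem m0 m1) m3, ?_⟩
  rw [h.f2_mul (V.mul_mem m0 m1) m3, h.f2_mul m0 m1]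
  conv_rhs => rw [← k]
  have c1 := h.f2_cm (h.pe b) m0
  have c2 := h.f2_cm (h.pe c) m0
  have c3 := h.f2_cm (h.pe c) m1
  generalize f1 f w0 * φ w0 = s0 at *
  generalize f1 f w1 * φ w1 = s1 at *
  generalize f1 f w3 * φ w3 = s3 at *
  calc φ p * (cj (φ σ) η 0 * cj (φ σ) η 1 * cj (φ σ) η 3) * (φ p)⁻¹
      = φ p * cj (φ σ) η 0 * (φ p)⁻¹ * (φ p * cj (φ σ) η 1 * (φ p)⁻¹) *
        (φ p * cj (φ σ) η 3 * (φ p)⁻¹) := by group
    _ = cj (φ σ) η a * (s0 * cj (φ σ) η b) * (s1 * cj (φ σ) η c) * s3 := by rw [k0, k1, k3]; group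
    _ = cj (φ σ) η a * cj (φ σ) η b * (s0 * cj (φ σ) η c) * s1 * s3 := by rw [← c1, ← c3]; group
    _ = _ := by rw [← c2]; group

theorem four {y : Γ} (hy : y ∈ closure {z, σ * z * σ⁻¹}) :
    y = 1 ∨ y = cj σ z 0 ∨ y = cj σ z 1 ∨ y = cj σ z 3 := by
  have m := h.cjV' h.zV
  have c : ∀ i j, cj σ z i * cj σ z j = cj σ z j * cj σ z i := fun i j =>
    h.o.ab _ (h.VB (m i)) _ (h.VB (m j))
  have l01 : cj σ z 0 * cj σ z 1 = cj σ z 3 := h.line 0
  have l03 : cj σ z 0 * cj σ z 3 = cj σ z 1 := by rw [← l01, ← mul_assoc, h.vsq, one_mul]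
  have l13 : cj σ z 1 * cj σ z 3 = cj σ z 0 := by rw [← l01, c 0, ← mul_assoc, h.vsq, one_mul]
  have l10 := (c 1 0).trans l01
  have l30 := (c 3 0).trans l03
  have l31 := (c 3 1).trans l13
  induction hy using closure_induction with
  | mem y hy =>
    rcases hy with rfl | rfl
    · exact Or.inr (Or.inl (cj_zero ..).symm)
    · exact Or.inr (Or.inr (Or.inl (by simp [cj_eq])))
  | one => exact Or.inl rfl
  | mul a b _ _ ha hb =>
    rcases ha with rfl | rfl | rfl | rfl <;> rcases hb with rfl | rfl | rfl | rfl <;>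
      simp only [one_mul, mul_one, h.vsq, l01, l03, l13, l10, l30, l31, true_or, or_true]
  | inv a _ ha =>
    rcases ha with rfl | rfl | rfl | rfl <;>
      simp only [inv_one, inv_eq_of_mul_eq_one_right (h.vsq _), true_or, or_true]

theorem gmv (hx : φ x * η * (φ x)⁻¹ = η⁻¹ * φ z) {p : Γ}
    (hp : p ∈ N[closure {z, σ * z * σ⁻¹}]) :
    ∃ w ∈ V, φ p * (cj (φ σ) η 0 * cj (φ σ) η 1 * cj (φ σ) η 3) * (φ p)⁻¹ =
      cj (φ σ) η 0 * cj (φ σ) η 1 * cj (φ σ) η 3 * (f1 f w * φ w) := by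
  have m := h.cjV' h.zV
  have c : ∀ i j, cj σ z i * cj σ z j = cj σ z j * cj σ z i := fun i j =>
    h.o.ab _ (h.VB (m i)) _ (h.VB (m j))
  have l01 : cj σ z 0 * cj σ z 1 = cj σ z 3 := h.line 0
  have l03 : cj σ z 0 * cj σ z 3 = cj σ z 1 := by rw [← l01, ← mul_assoc, h.vsq, one_mul]
  have l13 : cj σ z 1 * cj σ z 3 = cj σ z 0 := by rw [← l01, c 0, ← mul_assoc, h.vsq, one_mul]
  have l10 := (c 1 0).trans l01
  have l30 := (c 3 0).trans l03
  have l31 := (c 3 1).trans l13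
  have n1 : ∀ i, p * cj σ z i * p⁻¹ ≠ 1 := fun i e =>
    h.o.z1 (cj_inj (s := σ) (k := i) (by rw [cj_one]; simpa using e))
  have n01 : p * cj σ z 0 * p⁻¹ ≠ p * cj σ z 1 * p⁻¹ := fun e => by
    rw [mul_left_inj, mul_right_inj, cj_zero, cj_eq, pow_one] at e
    exact h.o.ne (mul_inv_eq_iff_eq_mul.1 e.symm)
  have a0 := h.four (norm_conj hp (x := cj σ z 0) (subset_closure (Or.inl (cj_zero ..))))
  have a1 := h.four (norm_conj hp (x := cj σ z 1) (subset_closure (Or.inr (by simp [cj_eq]))))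
  rcases a0 with a | a | a | a
  · exact absurd a (n1 _)
  all_goals rcases a1 with b | b | b | b
  all_goals first
    | exact absurd b (n1 _)
    | exact absurd (a.trans b.symm) n01
    | exact h.tri hx a b l01 rfl
    | exact h.tri hx a b l03 (by simp only [mul_assoc, h.comm 3 1])
    | exact h.tri hx a b l10 (by simp only [h.comm 1 0])
    | exact h.tri hx a b l13 (by simp only [mul_assoc, h.comm 3 0, h.comm' 1 0])
    | exact h.tri hx a b l30 (by simp only [mul_assoc, h.comm 3 1, h.comm' 3 0])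
    | exact h.tri hx a b l31 (by simp only [mul_assoc, h.comm' 3 1, h.comm 3 0, h.comm' 1 0])

theorem main : φ x * η * (φ x)⁻¹ ≠ η⁻¹ * φ z := fun hx => by
  obtain ⟨a, aV, b, bV, ab, g⟩ := h.gam
  have a1 : a = 1 := h.o.stab a aV fun p pB pN => by
    obtain ⟨w, wV, e⟩ := h.gmv hx pN
    have ap := h.cjV pB aV
    have bp := h.cjV pB bV
    have e1 : φ p * (f1 f a * (f1 f b * φ b)) * (φ p)⁻¹ =
        f1 f (p * a * p⁻¹) * (f1 f (p * b * p⁻¹) * φ (p * b * p⁻¹)) := by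
      rw [h.f1_cj aV, h.f1_cj bV, map_mul, map_mul, map_inv]; group
    rw [g, e1, mul_assoc (f1 f a), ← h.f2_mul bV wV] at e
    have bw := V.mul_mem bV wV
    have u := V.mul_mem bw bp
    have e2 : f1 f (a * (p * a * p⁻¹)) = f1 f (b * w * (p * b * p⁻¹)) * φ (b * w * (p * b * p⁻¹)) := by
      have s : f1 f (p * b * p⁻¹) * φ (p * b * p⁻¹) * (f1 f (p * b * p⁻¹) * φ (p * b * p⁻¹)) = 1 := by
        rw [← h.f2_mul bp bp, h.Vsq bp, f1_one, map_one, mul_one]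
      rw [h.f1_mul aV ap, h.f2_mul bw bp, ← mul_one (f1 f (p * a * p⁻¹)), ← s,
        ← mul_assoc (f1 f (p * a * p⁻¹)), e, ← mul_assoc (f1 f a), ← mul_assoc (f1 f a),
        h.f1_sq aV, one_mul]
    have v := V.mul_mem aV ap
    have e3 : b * w * (p * b * p⁻¹) * (a * (p * a * p⁻¹)) = 1 := h.sep2 (V.mul_mem u v) (by
      rw [h.f1_mul u v, e2, ← mul_assoc, h.f1_sq u, one_mul])
    have e4 : a * (p * a * p⁻¹) = 1 := by
      have k : a * (p * a * p⁻¹) = b * w * (p * b * p⁻¹) :=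
        mul_left_cancel (e3.trans (h.Vsq u).symm)
      rw [k, left_eq_mul, ← map_one φ] at e2
      rw [k, h.c.inj e2]
    exact mul_inv_eq_iff_eq_mul.1 (mul_left_cancel (e4.trans (h.Vsq aV).symm))
  rw [a1, f1_one, one_mul] at g
  rw [a1, one_mul] at ab
  have gi : ∀ i, cj (φ σ) η i * cj (φ σ) η (i + 1) * cj (φ σ) η (i + 3) =
      f1 f (cj σ b i) * φ (cj σ b i) := fun i => by
    have k := congrArg (fun y => cj (φ σ) y i) g
    simp only [cj_mul, cj_cj, add_zero] at k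
    rw [k, h.f1_cj' bV, map_cj]
  have m := h.cjV' h.zV
  have n := h.cjV' bV
  have u := V.mul_mem (V.mul_mem (V.mul_mem (n 1) (n 2)) (n 3)) (n 5)
  have v := V.mul_mem (V.mul_mem (V.mul_mem (V.mul_mem (V.mul_mem (m 1) (m 2)) (m 3)) (m 4))
    (m 5)) (m 6)
  have e2 : f1 f (cj σ z 1 * cj σ z 2 * cj σ z 3 * cj σ z 4 * cj σ z 5 * cj σ z 6) =
      f1 f (cj σ b 1 * cj σ b 2 * cj σ b 3 * cj σ b 5) *
        φ (cj σ b 1 * cj σ b 2 * cj σ b 3 * cj σ b 5) := by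
    rw [h.f2_mul (V.mul_mem (V.mul_mem (n 1) (n 2)) (n 3)) (n 5),
      h.f2_mul (V.mul_mem (n 1) (n 2)) (n 3), h.f2_mul (n 1) (n 2), ← gi, ← gi, ← gi, ← gi,
      h.f1_mul (V.mul_mem (V.mul_mem (V.mul_mem (V.mul_mem (m 1) (m 2)) (m 3)) (m 4)) (m 5)) (m 6),
      h.f1_mul (V.mul_mem (V.mul_mem (V.mul_mem (m 1) (m 2)) (m 3)) (m 4)) (m 5),
      h.f1_mul (V.mul_mem (V.mul_mem (m 1) (m 2)) (m 3)) (m 4),
      h.f1_mul (V.mul_mem (m 1) (m 2)) (m 3), h.f1_mul (m 1) (m 2), ← h.esq', ← h.esq', ← h.esq',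
      ← h.esq', ← h.esq', ← h.esq', cj_congr h.s7 η (i := 5 + 3) (j := 1) rfl]
    simp only [mul_assoc, h.comm, h.comm', Nat.reduceAdd]
  have e3 := h.sep2 (V.mul_mem u v) (by
      rw [h.f1_mul u v, e2, ← mul_assoc, h.f1_sq u, one_mul])
  rw [mul_left_cancel (e3.trans (h.Vsq u).symm), left_eq_mul, ← map_one φ] at e2
  have e4 := h.c.inj e2
  rcases h.o.cov7 b bV with k | ⟨k, e⟩
  · exact h.o.beta (by simpa [cj_eq, k] using ab.symm)
  · rw [← cj_eq] at e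
    have l : cj σ z (k + 2) * cj σ z (k + 2 + 1) = cj σ z (k + 2 + 3) := h.line _
    rw [e, cj_cj, cj_cj, cj_cj, cj_cj, show 2 + k = 1 + k + 1 by omega, h.line,
      show 1 + k + 3 = k + 4 by omega, show 3 + k = k + 2 + 1 by omega,
      show 5 + k = k + 2 + 3 by omega, ← l, mul_assoc,
      h.o.ab _ (h.VB (m (k + 2))), ← mul_assoc (cj σ z (k + 2 + 1)), h.vsq, one_mul] at e4
    · exact h.ne2 k (mul_left_cancel (e4.trans (h.vsq _).symm))
    · exact h.VB (m _)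

end Ctx

theorem eta3 : Eta3Stmt.{u} := fun _ _ _ _ _ _ _ _ _ _ _ _ _ _ _ _ hb o c l lo ex e =>
  Ctx.main ⟨hb, o, c, l, lo, ex, e⟩

theorem eqns : True := by
  have := @f1.eq_1.{0}
  have := @cj.eq_1.{0}
  have := @ka.eq_1.{0}
  trivial

end Cfsg.Agent.H86.Eta3
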