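import Cfsg.Agent.H45.HnA8
import Cfsg.Agent.H83.Syl

/-! Project HN3, piece CL: two classes of involutions. -/

set_option autoImplicit false

namespace Cfsg.Agent.H86.HC

open Cfsg Subgroup Cfsg.Agent.H99.HN Cfsg.Agent.H83
open Cfsg.Agent.H45.HnA (d_ap)
open Cfsg.Agent.H67.T3 (sl_cent)

universe u

/-- the elements of class `3A` -/
def l4 : List A12 := [c4, c4⁻¹, c1 * c2, (c1 * c2)⁻¹]

/-- the elements of `D` -/
def l9 : List A12 :=
  1 :: l4 ++ [c1 * c2 * c4, (c1 * c2 * c4)⁻¹, c1 * c2 * c4⁻¹, (c1 * c2 * c4⁻¹)⁻¹]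

attribute [local instance 2000] List.decidableBAll List.decidableBEx

theorem f1 : (∀ a ∈ l9, ∀ b ∈ l9, a * b ∈ l9 ∧ a * b = b * a) ∧
    ∀ a ∈ l9, a⁻¹ ∈ l9 ∧ a ^ 3 ^ 1 = 1 ∧ a * u0 = u0 * a ∧ (a = 1 ∨ a ∈ l4 ∨
      ∃ g ∈ [1, w0, σ0, σ0 * w0], g * (c1 * c2 * c4) * g⁻¹ = a) := by decide +kernel

theorem f2 : ∀ a ∈ l4, ∀ b ∈ l4, a * b ∈ l4 → a * b⁻¹ ∉ l4 := by decide +kernel

/-- the group `D` -/
def D0 : Subgroup A12 where
  carrier := {γ | γ ∈ l9}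
  one_mem' := List.mem_cons_self
  mul_mem' ha hb := (f1.1 _ ha _ hb).1
  inv_mem' ha := (f1.2 _ ha).1

variable {G : Type u} [Group G] (U : HB G)

theorem cls {x : G} (hx : x ∈ D0.map U.ψ) (h : IsConj (U.ψ c4) x) : ∃ a ∈ l4, U.ψ a = x := by
  obtain ⟨a, ha, rfl⟩ := hx
  rcases (f1.2 a ha).2.2.2 with rfl | c | ⟨g, -, c⟩
  · rw [map_one, isConj_one_left, ← map_one U.ψ] at h
    exact absurd (U.inj h) (by decide +kernel)
  · exact ⟨a, c, rfl⟩
  · exact absurd (h.trans (U.ψ.map_isConj (isConj_iff.2 ⟨g, c⟩)).symm) U.nc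

theorem k3 {r : G} (h0 : r * U.u = U.u * r) (h1 : Commute r (U.ψ c4))
    (h2 : Commute r (U.ψ (c1 * c2))) : r ^ 2 ∈ D0.map U.ψ := by
  have hz : Commute r (U.ψ (c1 * c2 * c4)) := map_mul U.ψ _ c4 ▸ h2.mul_right h1
  have hz' : Commute r (U.ι H91.slX) := by
    rw [U.ιX, map_mul, map_inv]; exact h2.mul_right h1.inv_right
  obtain ⟨i, k, rfl⟩ := U.dec r hz h0
  have z1 : c1 * c2 * c4 ∈ D0 := by show _ ∈ l9; decide +kernel
  have z2 : c1 * c2 * c4⁻¹ ∈ D0 := by show _ ∈ l9; decide +kernel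
  have c : Commute (U.ι k) (U.ι H91.slX) := by
    simpa using (Commute.pow_left (U.ιz H91.slX).symm i).inv_left.mul_left hz'
  obtain ⟨j, e⟩ := sl_cent k (c.of_map U.ιinj)
  rw [(Commute.pow_left (U.ιz k).symm i).mul_pow, ← map_pow U.ι,
    show k ^ 2 = H91.slX ^ (j.val * 2) by rcases e with rfl | rfl <;> simp [pow_mul], map_pow, U.ιX]
  exact mul_mem (pow_mem (pow_mem (mem_map_of_mem _ z1) _) _) (pow_mem (mem_map_of_mem _ z2) _)

theorem p4 (f : G ≃* G) {a b : G} (n1 : a ≠ b) (n2 : a ≠ b⁻¹)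
    (ha : f a = a ∨ f a = a⁻¹ ∨ f a = b ∨ f a = b⁻¹)
    (hb : f b = a ∨ f b = a⁻¹ ∨ f b = b ∨ f b = b⁻¹) :
    f (f (f (f a))) = a ∧ f (f (f (f b))) = b := by
  have i1 := f.injective.ne n1
  have i2 := f.injective.ne n2
  rcases ha with h | h | h | h <;> rcases hb with k | k | k | k <;>
    simp only [h, k, map_inv, inv_inv, ne_eq, not_true, and_self] at i1 i2 ⊢

theorem ap_am : IsConj (U.ψ c4) (U.ψ (c1 * c2)) := isConj_iff.2 ⟨U.d, d_ap U⟩

theorem syl [Finite G] : IsSylowIn 3 (D0.map U.ψ) (centralizer {U.u}) := by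
  refine ⟨?_, isPGroup_iff.2 ?_, fun P hP hp le => ?_⟩
  · rintro _ ⟨a, ha, rfl⟩
    exact mem_centralizer_singleton_iff.2
      (Commute.map (show Commute a u0 from (f1.2 a ha).2.2.1) U.ψ)
  · rintro _ ⟨a, ha, rfl⟩
    exact ⟨1, by rw [← map_pow, (f1.2 a ha).2.1, map_one]⟩
  by_contra ne
  obtain ⟨n, ⟨nP, nD⟩, hn⟩ :=
    SetLike.exists_of_lt (lt_inf_normalizer hp (lt_of_le_of_ne le (Ne.symm ne)))
  obtain ⟨k, hk⟩ := isPGroup_iff.1 hp n nP
  have co : ∀ m, Nat.Coprime 3 m → (orderOf n).Coprime m := fun m hm =>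
    (hm.pow_left k).coprime_dvd_left (orderOf_dvd_of_pow_eq_one hk)
  have key : ∀ a ∈ D0, IsConj (U.ψ c4) (U.ψ a) → MulAut.conj n (U.ψ a) = U.ψ c4 ∨
      MulAut.conj n (U.ψ a) = (U.ψ c4)⁻¹ ∨ MulAut.conj n (U.ψ a) = U.ψ (c1 * c2) ∨
      MulAut.conj n (U.ψ a) = (U.ψ (c1 * c2))⁻¹ := fun a ha c => by
    obtain ⟨b, hb, e⟩ := cls U (conj_mem le_rfl nD (mem_map_of_mem _ ha))
      (c.trans (isConj_iff.2 ⟨n, rfl⟩))
    rw [MulAut.conj_apply, ← e, ← map_inv, ← map_inv]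
    simp only [l4, List.mem_cons, List.not_mem_nil, or_false] at hb
    exact hb.imp (congrArg _) (Or.imp (congrArg _) (Or.imp (congrArg _) (congrArg _)))
  obtain ⟨e1, e2⟩ := p4 (MulAut.conj n) (U.inj.ne (by decide +kernel))
    (map_inv U.ψ _ ▸ U.inj.ne (by decide +kernel))
    (key _ (by show _ ∈ l9; decide +kernel) (IsConj.refl _))
    (key _ (by show _ ∈ l9; decide +kernel) (ap_am U))
  have fin : ∀ x, MulAut.conj n (MulAut.conj n (MulAut.conj n (MulAut.conj n x))) = x →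
      Commute n x := fun x e => mem_centralizer_singleton_iff.1
    (mem_of_pow_mem_of_coprime (n := 4) (mem_centralizer_singleton_iff.2 (by
      nth_rewrite 2 [← e]
      simp [pow_succ, mul_assoc])) (co 4 (by norm_num)))
  exact hn (mem_of_pow_mem_of_coprime (k3 U (mem_centralizer_singleton_iff.1 (hP nP)) (fin _ e1)
    (fin _ e2)) (co 2 (by norm_num)))

theorem cl : CLStmt.{u} := by
  intro G _ _ U
  have S := syl U
  refine ⟨fun c => ?_, fun c => ?_⟩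
  · obtain ⟨g, e⟩ := isConj_iff.1 c
    let φ := (MulAut.conj g).toMonoidHom.comp U.ψ
    have p : ∀ a : A12, a ^ 3 ^ 1 = 1 → IsPGroup 3 (zpowers (φ a)) := fun a h =>
      isPGroup_zpowers (k := 1) (by rw [← map_pow, h, map_one])
    have q : ∀ a : A12, Commute a t0 → zpowers (φ a) ≤ centralizer {U.u} := fun a h =>
      zpowers_le.2 (mem_centralizer_singleton_iff.2 (e ▸ h.map φ))
    obtain ⟨h, -, le⟩ := S.exists_conj_le
      (sup_le (q c1 (show c1 * t0 = _ by decide +kernel)) (q c2 (show c2 * t0 = _ by decide +kernel)))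
      (isPGroup_sup (p c1 (by decide +kernel)) (p c2 (by decide +kernel))
        (le_norm_of_le_cent (zpowers_le.2 fun x ⟨n, hn⟩ => hn ▸
          ((Commute.map (show c2 * c1 = c1 * c2 by decide +kernel) φ).zpow_left n))))
    let φ' := (MulAut.conj h).toMonoidHom.comp φ
    have k : ∀ a, φ a ∈ zpowers (φ c1) ⊔ zpowers (φ c2) → IsConj (U.ψ c4) (U.ψ a) →
        ∃ b ∈ l4, U.ψ b = φ' a := fun a ha c => cls U (le (conj_mem_cj ha))
      ((c.trans (isConj_iff.2 ⟨g, rfl⟩)).trans (isConj_iff.2 ⟨h, rfl⟩))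
    have m1 : φ c1 ∈ zpowers (φ c1) ⊔ zpowers (φ c2) := mem_sup_left (mem_zpowers _)
    have m2 : φ c2 ∈ zpowers (φ c1) ⊔ zpowers (φ c2) := mem_sup_right (mem_zpowers _)
    obtain ⟨a, ha, e1⟩ := k c1 m1 (U.ψ.map_isConj
      (isConj_iff.2 ⟨dd 0 8 2 9 * dd 4 10 1 3, by decide +kernel⟩))
    obtain ⟨b, hb, e2⟩ := k c2 m2 (U.ψ.map_isConj
      (isConj_iff.2 ⟨dd 1 8 3 9 * dd 5 10 0 2, by decide +kernel⟩))
    obtain ⟨x, hx, e3⟩ := k _ (map_mul φ _ _ ▸ mul_mem m1 m2) (ap_am U)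
    obtain ⟨y, hy, e4⟩ := k (c1 * c2⁻¹) (by rw [map_mul, map_inv]; exact mul_mem m1 (inv_mem m2))
      ((ap_am U).trans (U.ψ.map_isConj (isConj_iff.2 ⟨dd 1 3 6 7, by decide +kernel⟩)))
    rw [map_mul, ← e1, ← e2, ← map_mul] at e3
    rw [map_mul, map_inv, ← e1, ← e2, ← map_inv, ← map_mul] at e4
    exact f2 a ha b hb (U.inj e3 ▸ hx) (U.inj e4 ▸ hy)
  · have h1 := S.toSylow.pow_dvd_card_of_pow_dvd_card (n := 3) c
    rw [S.coe_toSylow, Nat.card_congr (subgroupOfEquivOfLe S.le).toEquiv,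
      card_map_of_injective U.inj] at h1
    have h2 : Nat.card D0 ≤ 9 := by
      have : (D0 : Set A12) = l9.toFinset := by ext; exact List.mem_toFinset.symm
      exact (congrArg Set.ncard this).trans_le
        ((Set.ncard_coe_finset _).trans_le (List.toFinset_card_le l9))
    exact absurd ((Nat.le_of_dvd Nat.card_pos h1).trans h2) (by norm_num)

theorem eqns : True := by
  have := @l4.eq_1
  have := @l9.eq_1
  trivial

end Cfsg.Agent.H86.HC
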