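import Cfsg.Agent.H89.OlDefs

/-!
# The chain lemma
-/

set_option autoImplicit false

namespace Cfsg.Agent.H86.Ol

open Subgroup Cfsg.Agent.H18 Cfsg.Agent.H17 Cfsg.Agent.H26.K64 Cfsg.Agent.H89.Ol

universe u

section

variable {G : Type u} [Group G] {P Q N K L : Subgroup G} {X : Set G}

theorem st_of_comm {g : G} (hKL : K ≤ L) (hLQ : L ≤ Q) (h : ∀ q ∈ Q, q * g = g * q) :
    St K L Q g := by
  have h1 : ∀ a ∈ Q, g * a * g⁻¹ = a := fun a ha => by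
    rw [← h a ha, mul_inv_cancel_right]
  refine ⟨fun a ha => h1 a (hLQ (hKL ha)), fun a ha => ?_, fun a ha => ?_⟩
  · rw [h1 a (hLQ ha), inv_mul_cancel]; exact K.one_mem
  · rw [h1 a ha, inv_mul_cancel]; exact L.one_mem

theorem st_mul {g h : G} (hKL : K ≤ L) (hg : St K L Q g) (hh : St K L Q h) :
    St K L Q (g * h) := by
  refine ⟨fun a ha => ?_, fun a ha => ?_, fun a ha => ?_⟩
  · have h1 : g * h * a * (g * h)⁻¹ = g * (h * a * h⁻¹) * g⁻¹ := by group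
    rw [h1, hh.one a ha, hg.one a ha]
  · have h1 : a⁻¹ * (g * h * a * (g * h)⁻¹) =
        a⁻¹ * (g * a * g⁻¹) * (g * (a⁻¹ * (h * a * h⁻¹)) * g⁻¹) := by group
    rw [h1, hg.one _ (hh.two a ha)]
    exact K.mul_mem (hg.two a ha) (hh.two a ha)
  · have h1 : a⁻¹ * (g * h * a * (g * h)⁻¹) =
        a⁻¹ * (g * a * g⁻¹) * ((a⁻¹ * (h * a * h⁻¹)) * ((a⁻¹ * (h * a * h⁻¹))⁻¹ *
          (g * (a⁻¹ * (h * a * h⁻¹)) * g⁻¹))) := by group
    rw [h1]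
    exact L.mul_mem (hg.three a ha)
      (L.mul_mem (hh.three a ha) (hKL (hg.two _ (hh.three a ha))))

theorem st_pow {g : G} (hKL : K ≤ L) (hLQ : L ≤ Q) (hg : St K L Q g) (n : ℕ) :
    St K L Q (g ^ n) := by
  induction n with
  | zero => exact st_of_comm hKL hLQ fun q _ => by simp
  | succ n ih => rw [pow_succ]; exact st_mul hKL ih hg

theorem st_inv [Finite G] {g : G} (hKL : K ≤ L) (hLQ : L ≤ Q) (hg : St K L Q g) :
    St K L Q g⁻¹ := by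
  have h1 : g⁻¹ = g ^ (orderOf g - 1) := by
    rw [inv_eq_iff_mul_eq_one, ← pow_succ', Nat.sub_add_cancel (orderOf_pos g),
      pow_orderOf_eq_one]
  rw [h1]
  exact st_pow hKL hLQ hg _

theorem exists_st [Finite G] (N : Subgroup G) (hKL : K ≤ L) (hLQ : L ≤ Q) :
    ∃ Y : Subgroup G, ∀ g, g ∈ Y ↔ g ∈ N ∧ St K L Q g :=
  ⟨{ carrier := {g | g ∈ N ∧ St K L Q g}
     one_mem' := ⟨N.one_mem, st_of_comm hKL hLQ fun q _ => by simp⟩
     mul_mem' := fun ha hb => ⟨N.mul_mem ha.1 hb.1, st_mul hKL ha.2 hb.2⟩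
     inv_mem' := fun ha => ⟨N.inv_mem ha.1, st_inv hKL hLQ ha.2⟩ }, fun _ => Iff.rfl⟩

theorem mem_Cz_of_st [Finite G] {t : G} (hQ : IsPGroup 2 Q) (hLQ : L ≤ Q)
    (ho : ¬ 2 ∣ orderOf t) (ht : t ∈ Nz Q) (h : St K L Q t) : t ∈ Cz Q := by
  have h1 : ∀ a ∈ L, t * a = a * t := fun a ha =>
    comm_of_comm hQ ho ht (hLQ ha) (mul_inv_eq_iff_eq_mul.1 (h.one _ (h.two a ha)))
  exact mem_Cz.2 fun a ha => (comm_of_comm hQ ho ht ha (h1 _ (h.three a ha))).symm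

/-- A subgroup between `P ⊓ Nz Q ⊔ Cz Q` and `N` whose odd elements centralize `Q`. -/
theorem le_sup_of_odd [Finite G] (hE : ES P Q N X) {Y : Subgroup G} (hN : Y ≤ N)
    (hS : P ⊓ Nz Q ≤ Y) (hC : Cz Q ≤ Y) (h : ∀ t ∈ Y, ¬ 2 ∣ orderOf t → t ∈ Cz Q) :
    Y ≤ P ⊓ Nz Q ⊔ Cz Q := by
  have : Fact (Nat.Prime 2) := ⟨Nat.prime_two⟩
  refine (pMod_of_regular (p := 2) h).le_sup_of_not_dvd
    ((hN.trans hE.nz).trans (Nz_le_Nz_Cz Q)) fun h1 => hE.odd (h1.trans ?_)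
  exact Dvd.intro _ (relIndex_mul_relIndex _ _ _ (sup_le hS hC) hN)

/-- The centralizer of `Q` in `P` lies in `Q`. -/
theorem es_cent (hE : ES P Q N X) {y : G} (hP : y ∈ P) (hy : y ∈ Cz Q) : y ∈ Q := by
  by_contra h
  obtain ⟨n, hn, x, hx, hX, h1⟩ := hE.bad
  refine h1 (hE.se n hn y ⟨hP, Cz_le_Nz Q hy⟩ h (mem_sup_right ?_) x hx hX)
  have h2 := (conj_mem_Cz (y := y) (inv_mem (hE.nz hn))).2 hy
  rwa [inv_inv] at h2

end

theorem ch : CHStmt.{u} := by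
  intro G _ _ P Q N K L X g hP hE hKL hLQ hS hg hst
  obtain ⟨Y, hY⟩ := exists_st (K := K) (L := L) (Q := Q) N hKL hLQ
  refine le_sup_of_odd hE (Y := Y) (fun y hy => ((hY y).1 hy).1)
    (fun s hs => (hY s).2 ⟨hE.sN hs, hS s hs⟩)
    (fun c hc => (hY c).2 ⟨hE.cN hc, st_of_comm hKL hLQ (mem_Cz.1 hc)⟩)
    (fun t ht ho => ?_) ((hY g).2 ⟨hg, hst⟩)
  exact mem_Cz_of_st (hP.to_le hE.le) hLQ ho (hE.nz ((hY t).1 ht).1) ((hY t).1 ht).2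

end Cfsg.Agent.H86.Ol
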