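import Cfsg.Agent.H96.CritApi
import Cfsg.Agent.Eqn.Cfsg_Agent_H96_RelL

/-! Power-conjugate relations written with words in any order (`tools/h86/pres.py`). -/

set_option autoImplicit false

namespace Cfsg.Agent.H86.PP

open Cfsg.Agent.H96

variable {X : Type*} [Group X]

/-- the product of the generators with the numbers in the list -/
def pr (xs : List X) : List ℕ → X
  | [] => 1
  | i :: l => l.foldl (fun r j => r * xs.getD j 1) (xs.getD i 1)

/-- the same product in the model -/
noncomputable def ev (w m : ℕ) (L : List (ℕ × ℕ)) (l : List ℕ) : ℕ :=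
  l.foldl (fun r j => mulL w m L r (2 ^ j)) 0

/-- conjugation relations -/
def Cj (x : X) (xs : List X) : List X → List (List ℕ) → Prop
  | y :: ys, l :: ls => x⁻¹ * y * x = pr xs l ∧ Cj x xs ys ls
  | _, _ => True

/-- all relations -/
def Pres : List X → List (List ℕ × List (List ℕ)) → Prop
  | x :: xs, p :: P => x * x = pr xs p.1 ∧ Cj x xs xs p.2 ∧ Pres xs P
  | [], [] => True
  | _, _ => False

/-- the test comparing the words with the tables -/
noncomputable def chk (w m : ℕ) : List (ℕ × ℕ) → ℕ → List (List ℕ × List (List ℕ)) → Bool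
  | cd :: L, k + 1, p :: P => Nat.beq L.length k && Nat.beq p.2.length k &&
      (p.1 :: p.2).all (fun l => l.all (Nat.blt · k)) && Nat.beq (ev w m L p.1) (look w m cd.2 0) &&
      allLt k (fun i => Nat.beq (ev w m L (p.2.getD i [])) (look w m cd.1 (2 ^ i))) && chk w m L k P
  | [], 0, [] => true
  | _, _, _ => false

theorem pr_eq (xs : List X) (l : List ℕ) : pr xs l = l.foldl (fun r j => r * xs.getD j 1) 1 := by
  cases l with
  | nil => rfl
  | cons i l => rw [List.foldl_cons, one_mul]; rfl

theorem word_ev {w m : ℕ} {L : List (ℕ × ℕ)} {xs : List X} (hc : chkL w m L = true)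
    (hr : RelL w m L xs) (l : List ℕ) (hl : ∀ j ∈ l, j < L.length) :
    word xs (ev w m L l) = pr xs l := by
  have hM := mon_of_chk L hc L List.suffix_rfl
  have key : ∀ (l : List ℕ), (∀ j ∈ l, j < L.length) → ∀ a < 2 ^ L.length,
      word xs (l.foldl (fun r j => mulL w m L r (2 ^ j)) a) =
        l.foldl (fun r j => r * xs.getD j 1) (word xs a) := fun l => by
    induction l with
    | nil => exact fun _ _ _ => rfl
    | cons j l ih =>
      intro h a ha
      have hj := h j List.mem_cons_self
      have h2 : 2 ^ j < 2 ^ L.length := Nat.pow_lt_pow_right (by omega) hj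
      rw [List.foldl_cons, List.foldl_cons, ih (fun i hi => h i (List.mem_cons_of_mem _ hi)) _
        (hM.lt a ha _ h2), word_mul L xs hc hr a ha _ h2, word_two_pow xs j (hr.length ▸ hj),
        List.getD_eq_getElem]
  rw [pr_eq, ev, key l hl 0 (Nat.two_pow_pos _), word_zero]

theorem Cj.get {x : X} {xs : List X} : ∀ {ys : List X} {ls : List (List ℕ)}, Cj x xs ys ls →
    ∀ (i : ℕ) (h : i < ys.length), i < ls.length → x⁻¹ * ys[i] * x = pr xs (ls.getD i [])
  | _ :: _, _ :: _, h, 0, _, _ => h.1
  | _ :: _, _ :: _, h, i + 1, h1, h2 => h.2.get i (by simpa using h1) (by simpa using h2)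

theorem relL {w m : ℕ} : ∀ (L : List (ℕ × ℕ)) (k : ℕ) (P : List (List ℕ × List (List ℕ)))
    (xs : List X), chkL w m L = true → chk w m L k P = true → Pres xs P → RelL w m L xs
  | [], 0, [], [], _, _, _ => trivial
  | (C, D) :: L, k + 1, p :: P, x :: xs, h1, h2, h3 => by
    rw [chkL_cons, Bool.and_eq_true] at h1
    simp only [chk, Bool.and_eq_true, Nat.beq_eq, List.all_eq_true, Nat.blt_eq, allLt_iff] at h2
    obtain ⟨⟨⟨⟨⟨rfl, a⟩, b⟩, c⟩, d⟩, e⟩ := h2
    have hr := relL L _ P xs h1.2 e h3.2.2
    refine ⟨?_, fun i => ?_, hr⟩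
    · rw [← c, word_ev h1.2 hr _ (b _ List.mem_cons_self), h3.1]
    · have hi : i.val < xs.length := i.2.trans_eq hr.length.symm
      have hp : i.val < p.2.length := i.2.trans_eq a.symm
      rw [← d i i.2, word_ev h1.2 hr _ (b _ (List.mem_cons_of_mem _ (by
        rw [List.getD_eq_getElem _ _ hp]; exact List.getElem_mem _))), ← h3.2.1.get i hi hp,
        word_two_pow xs i hi]
      group

/-- the relations of the model from a presentation -/
theorem rel (T : Pc) [T.OK] (P : List (List ℕ × List (List ℕ))) {xs : List X}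
    (h : chk T.w T.m T.L P.length P = true) (hp : Pres xs P) : T.Rel xs :=
  relL T.L _ P xs Pc.chkL_true h hp

theorem lift_gen {T : Pc} [T.OK] {xs : List X} (h : T.Rel xs) (i : ℕ) (hi : i < xs.length) :
    Pc.lift xs h (T.el (2 ^ i)) = xs[i] := by
  rw [Pc.lift_apply, Pc.el_val (Nat.pow_lt_pow_right (by omega) (h.length ▸ hi)), word_two_pow]

/-- the order of a centraliser, for `decide +kernel` -/
theorem card_cent {M : Type*} [Group M] [Fintype M] [DecidableEq M] (x : M) :
    Nat.card (Subgroup.centralizer {x}) = (Finset.univ.filter fun y => y * x = x * y).card := by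
  rw [← Fintype.card_subtype, ← Nat.card_eq_fintype_card]
  exact Nat.card_congr (Equiv.subtypeEquivRight fun _ => Subgroup.mem_centralizer_singleton_iff)

/-- an element normalising the image of the model induces an automorphism -/
theorem exists_aut {M : Type*} [Group M] {φ : M →* X} (inj : Function.Injective φ) {g : X}
    (hg : g ∈ Subgroup.normalizer (φ.range : Set X)) :
    ∃ α : M ≃* M, ∀ x, φ (α x) = g⁻¹ * φ x * g :=
  ⟨(MonoidHom.ofInjective inj).trans ((φ.range.normalizerMonoidHom ⟨g⁻¹, inv_mem hg⟩).trans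
    (MonoidHom.ofInjective inj).symm), fun x => by
      rw [MulEquiv.trans_apply, MulEquiv.trans_apply, MonoidHom.apply_ofInjective_symm]
      change g⁻¹ * φ x * g⁻¹⁻¹ = _
      rw [inv_inv]⟩

theorem card_cent_aut {M : Type*} [Group M] (α : M ≃* M) (x : M) :
    Nat.card (Subgroup.centralizer {α x}) = Nat.card (Subgroup.centralizer {x}) :=
  (Nat.card_congr (α.toEquiv.subtypeEquiv fun y => by
    simp only [Subgroup.mem_centralizer_singleton_iff, MulEquiv.toEquiv_eq_coe, EquivLike.coe_coe,
      ← map_mul, α.injective.eq_iff])).symm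

theorem eqns : True := by
  have := @pr.eq_1.{0}
  have := @pr.eq_def.{0}
  have := @ev.eq_1
  have := @Cj.eq_1.{0}
  have := @Cj.eq_def.{0}
  have := @Pres.eq_1.{0}
  have := @Pres.eq_def.{0}
  have := @chk.eq_1
  have := @chk.eq_def
  trivial

end Cfsg.Agent.H86.PP
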