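import Mathlib
import Cfsg.Agent.H38.Coord
import Cfsg.Agent.H73.Descent
import Cfsg.Agent.H8.Tate
import Cfsg.Agent.H1.Npc
import Cfsg.Agent.H9.BaerSuzuki

/-! Minimal non-`p`-nilpotent groups and the largest one among them. -/

set_option autoImplicit false

namespace Cfsg.Agent.H86.Schm

open Cfsg Subgroup
open scoped commutatorElement

universe u

/-- minimal non-`p`-nilpotent -/
def MinN (p : ℕ) (X : Type*) [Group X] : Prop :=
  ¬ HasNormalPComplement p X ∧ ∀ K : Subgroup X, K ≠ ⊤ → HasNormalPComplement p K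

/-- the structure of a minimal non-`p`-nilpotent group -/
structure Sch {E X : Type*} [Field E] [Group X] (p q r : ℕ) (ζ : E) (P : Subgroup X) (y : X)
    (π : X → E) : Prop where
  nrm : P.Normal
  pg : IsPGroup p P
  ord : orderOf y = q ^ r
  gen : ∀ x, ∃ u ∈ P, ∃ i : ℕ, x = u * y ^ i
  add : ∀ u ∈ P, ∀ v ∈ P, π (u * v) = π u + π v
  surj : ∀ e, ∃ u ∈ P, π u = e
  act : ∀ u ∈ P, π (y * u * y⁻¹) = ζ * π u
  cen : ∀ u ∈ P, π u = 0 → u ∈ center X
  der : ∀ u ∈ P, π u = 0 → u ∈ ⁅P, P⁆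
  yq : y ^ q ∈ center X

variable {p q r : ℕ} [hp : Fact p.Prime] [hq : Fact q.Prime] {E : Type} [Field E] [Finite E]

theorem irr [CharP E p] (hE : Nat.card E = p ^ orderOf (p : ZMod q)) {μ : E} (hμ : orderOf μ = q)
    (W : AddSubgroup E) (hW : ∀ w ∈ W, μ * w ∈ W) : W = ⊥ ∨ W = ⊤ := by
  let R : Subring E :=
    { carrier := {e | ∀ w ∈ W, e * w ∈ W}
      mul_mem' := fun ha hb w hw => by rw [mul_assoc]; exact ha _ (hb w hw)
      one_mem' := fun w hw => by rwa [one_mul]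
      add_mem' := fun ha hb w hw => by rw [add_mul]; exact add_mem (ha w hw) (hb w hw)
      zero_mem' := fun w _ => by rw [zero_mul]; exact W.zero_mem
      neg_mem' := fun ha w hw => by rw [neg_mul]; exact neg_mem (ha w hw) }
  have := Fintype.ofFinite R
  let _ : Field R := (Finite.isField_of_domain R).toField
  obtain ⟨b, -, hb⟩ := FiniteField.card R p
  have h1 : μ ^ p ^ (b : ℕ) = μ :=
    congrArg Subtype.val (hb ▸ FiniteField.pow_card (⟨μ, hW⟩ : R) :)
  have h0 : μ ≠ 0 := fun e => by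
    rw [e, orderOf_zero] at hμ; exact hq.out.ne_zero hμ.symm
  have h2 : q ∣ p ^ (b : ℕ) - 1 := hμ ▸ orderOf_dvd_of_pow_eq_one (mul_right_cancel₀ h0 (by
    rw [← pow_succ, Nat.sub_add_cancel (Nat.one_le_pow _ _ hp.out.pos), h1, one_mul]))
  have h3 : orderOf (p : ZMod q) ∣ b := orderOf_dvd_of_pow_eq_one (by
    have := (ZMod.natCast_eq_zero_iff _ _).2 h2
    rwa [Nat.cast_sub (Nat.one_le_pow _ _ hp.out.pos), Nat.cast_pow, Nat.cast_one,
      sub_eq_zero] at this)
  have h4 : R.toAddSubgroup = ⊤ := AddSubgroup.eq_top_of_le_card _ (by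
    rw [hE, show Nat.card R.toAddSubgroup = Fintype.card R from Nat.card_eq_fintype_card, hb]
    exact Nat.pow_le_pow_right hp.out.pos (Nat.le_of_dvd b.pos h3))
  refine or_iff_not_imp_left.2 fun h => (AddSubgroup.eq_top_iff' W).2 fun e => ?_
  obtain ⟨⟨w, hw⟩, n⟩ := AddSubgroup.ne_bot_iff_exists_ne_zero.1 h
  have := (h4.ge (AddSubgroup.mem_top (e / w)) : e / w ∈ R) w hw
  rwa [div_mul_cancel₀ _ fun e => n (Subtype.ext e)] at this

theorem eq_one_of_two {X : Type*} [Group X] {x : X} {a b : ℕ} (h : a.Coprime b) (h1 : x ^ a = 1)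
    (h2 : x ^ b = 1) : x = 1 :=
  orderOf_eq_one_iff.1 (Nat.eq_one_of_dvd_coprimes h (orderOf_dvd_of_pow_eq_one h1)
    (orderOf_dvd_of_pow_eq_one h2))

theorem conj_pow_central {X : Type*} [Group X] {g u : X} (h : g * (u⁻¹ * (g * u * g⁻¹)) =
    u⁻¹ * (g * u * g⁻¹) * g) (n : ℕ) :
    g ^ n * u * (g ^ n)⁻¹ = u * (u⁻¹ * (g * u * g⁻¹)) ^ n := by
  induction n with
  | zero => simp
  | succ n ih =>
    calc _ = g * (g ^ n * u * (g ^ n)⁻¹) * g⁻¹ := by group
      _ = g * u * g⁻¹ * (g * (u⁻¹ * (g * u * g⁻¹)) ^ n * g⁻¹) := by rw [ih]; group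
      _ = _ := by
        rw [(Commute.pow_right h n).eq, mul_inv_cancel_right, pow_succ', ← mul_assoc u,
          mul_inv_cancel_left]

theorem exists_sch [CharP E p] (hE : Nat.card E = p ^ orderOf (p : ZMod q)) {ζ : E}
    (hζ : orderOf ζ = q) {X : Type*} [Group X] [Finite X] (hX : MinN p X) {t : ℕ}
    (hc : Nat.card X = p ^ t * q ^ r) (hpq : p ≠ q) : ∃ P y π, Sch (X := X) p q r ζ P y π := by
  obtain ⟨S⟩ : Nonempty (Sylow p X) := inferInstance
  obtain ⟨P, hPS, q', hq', h1, h2, g, hg, ⟨k, hk⟩, hgP⟩ :=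
    H8.exists_prime_not_centralizes_of_not_hasNormalPComplement S hX.1
  obtain rfl : q = q' := by
    rw [hc] at h2
    rcases (Nat.Prime.dvd_mul hq').1 h2 with h | h
    · exact absurd ((Nat.prime_dvd_prime_iff_eq hq' hp.out).1 (hq'.dvd_of_dvd_pow h)) h1
    · exact ((Nat.prime_dvd_prime_iff_eq hq' hq.out).1 (hq'.dvd_of_dvd_pow h)).symm
  have cop : ∀ a b, (q ^ a).Coprime (p ^ b) := fun a b =>
    Nat.Coprime.pow _ _ ((Nat.coprime_primes hq.out hp.out).2 h1)
  have pP := S.isPGroup'.to_le hPS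
  have key : ∀ D : Subgroup X, D ≤ P → ∀ x ∈ normalizer (D : Set X), (∃ k, x ^ q ^ k = 1) →
      D ⊔ zpowers x ≠ ⊤ → ∀ d ∈ D, d * x = x * d := fun D hD x hx ⟨k, hk⟩ h d hd =>
    H1.mem_centralizer_of_npc_subgroup (hX.2 _ h) (pP.to_le hD) le_sup_left
      (mem_sup_right (mem_zpowers x)) hx
      (by simpa using (cop k 1).coprime_dvd_left (orderOf_dvd_of_pow_eq_one hk)) d hd
  have htop : P ⊔ zpowers g = ⊤ := by_contra fun h => hgP (key P le_rfl g hg ⟨k, hk⟩ h)
  have hN : P.Normal := normalizer_eq_top_iff.1 (top_le_iff.1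
    (htop.ge.trans (sup_le le_normalizer (zpowers_le.2 hg))))
  have dec : ∀ D : Subgroup X, g ∈ normalizer (D : Set X) → D ⊔ zpowers g = ⊤ →
      ∀ x, ∃ u ∈ D, ∃ i : ℕ, x = u * g ^ i := fun D hD h x => by
    have : D.Normal := normalizer_eq_top_iff.1 (top_le_iff.1
      (h.ge.trans (sup_le le_normalizer (zpowers_le.2 hD))))
    obtain ⟨u, hu, v, hv, e⟩ := mem_sup_of_normal_left.1 (h.ge (mem_top x))
    obtain ⟨i, rfl⟩ := (Submonoid.mem_powers_iff _ _).1 (mem_powers_iff_mem_zpowers.2 hv)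
    exact ⟨u, hu, i, e.symm⟩
  have gen := dec P hg htop
  have hpq' : ∀ x ∈ P, ∀ j, x ^ q ^ j = 1 → x = 1 := fun x hx j h => by
    obtain ⟨m, hm⟩ := pP ⟨x, hx⟩
    exact eq_one_of_two (cop j m) h (congrArg Subtype.val hm)
  have min : ∀ D : Subgroup X, D ≤ P → (∀ d ∈ D, g * d * g⁻¹ ∈ D) → D = P ∨
      ∀ d ∈ D, d * g = g * d := fun D hD h => by
    have h3 : g ∈ normalizer (D : Set X) := mem_normalizer_fintype h
    refine or_iff_not_imp_right.2 fun h4 => le_antisymm hD fun u hu => ?_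
    obtain ⟨d, hd, i, e⟩ := dec D h3 (by_contra fun h => h4 (key D hD g h3 ⟨k, hk⟩ h)) u
    rw [e, hpq' (g ^ i) (by simpa [e] using mul_mem (inv_mem (hD hd)) hu) k
      (by rw [← pow_mul, mul_comm, pow_mul, hk, one_pow]), mul_one]
    exact hd
  have nc : ∀ D : Subgroup X, D ≤ P → (∀ d ∈ D, g * d * g⁻¹ ∈ D) →
      (∀ u ∈ P, u⁻¹ * (g * u * g⁻¹) ∈ D) → D = P := fun D hD h h' =>
    (min D hD h).resolve_right fun h4 => hgP fun u hu => by
      have h5 := conj_pow_central (h4 _ (h' u hu)).symm (q ^ k)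
      rw [hk, one_mul, inv_one, mul_one, left_eq_mul] at h5
      have := hpq' _ (hD (h' u hu)) k h5
      rwa [inv_mul_eq_one, eq_mul_inv_iff_mul_eq] at this
  have hord : orderOf g = q ^ r := by
    obtain ⟨j, -, hj⟩ := (Nat.dvd_prime_pow hq.out).1 (orderOf_dvd_of_pow_eq_one hk)
    obtain ⟨m, hm⟩ := IsPGroup.iff_card.1 pP
    have h3 : P.IsComplement' (zpowers g) := isComplement'_of_disjoint_and_mul_eq_univ
      (disjoint_of_coprime_natCard (by rw [hm, Nat.card_zpowers, hj]; exact (cop _ _).symm))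
      (by rw [← normal_mul, htop, coe_top])
    have h4 := h3.card_mul_card
    rw [hm, Nat.card_zpowers, hj, hc] at h4
    rw [hj]
    exact Nat.dvd_antisymm ((cop j t).dvd_of_dvd_mul_left (h4 ▸ dvd_mul_left _ _))
      ((cop r m).dvd_of_dvd_mul_left (h4 ▸ dvd_mul_left _ _))
  have hgq : g ^ q ∈ center X := by
    have h3 := key P le_rfl (g ^ q) (pow_mem hg q)
      ⟨k, by rw [← pow_mul, mul_comm, pow_mul, hk, one_pow]⟩ fun h => by
        obtain ⟨u, hu, v, hv, e⟩ := mem_sup_of_normal_left.1 (h.ge (mem_top g))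
        obtain ⟨i, rfl⟩ := (Submonoid.mem_powers_iff _ _).1 (mem_powers_iff_mem_zpowers.2 hv)
        have h4 := hpq' u hu k (by
          rw [eq_mul_inv_of_mul_eq e, Commute.mul_pow (by simp), hk, inv_pow, ← pow_mul, ← pow_mul,
            ← mul_assoc, mul_comm, pow_mul, hk]; simp)
        rw [h4, one_mul, ← pow_mul] at e
        have h5 : g ^ (q * i - 1) = 1 ∨ i = 0 := or_iff_not_imp_right.2 fun h =>
          mul_right_cancel (b := g) (by
            rw [← pow_succ, Nat.sub_add_cancel (Nat.mul_pos hq.out.pos (Nat.pos_of_ne_zero h)), e,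
              one_mul])
        refine hgP ((show g = 1 from ?_) ▸ one_mem _)
        rcases Nat.eq_zero_or_pos i with rfl | hi
        · simpa using e.symm
        · exact eq_one_of_two (Nat.Coprime.pow_left k ((Nat.coprime_mul_iff_left.1
            ((Nat.coprime_self_sub_right (Nat.mul_pos hq.out.pos hi)).2 (by simp))).1)) hk
            (h5.resolve_right hi.ne')
    refine mem_center_iff.2 fun x => ?_
    obtain ⟨u, hu, i, rfl⟩ := gen x
    exact (Commute.mul_left (h3 u hu) (Commute.pow_pow_self g i q)).eq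
  let C : Subgroup X := P ⊓ centralizer {g}
  have mC : ∀ {c}, c ∈ C ↔ c ∈ P ∧ c * g = g * c := fun {c} =>
    and_congr_right fun _ => mem_centralizer_singleton_iff
  have CP : C ≠ P := fun e => hgP fun u hu => (mC.1 (e.ge hu)).2
  have cg : ∀ c ∈ C, g * c * g⁻¹ = c := fun c hc => by rw [← (mC.1 hc).2, mul_inv_cancel_right]
  have leC : ∀ D : Subgroup X, D ≤ P → (∀ d ∈ D, g * d * g⁻¹ ∈ D) → D = P ∨ D ≤ C :=
    fun D hD h => (min D hD h).imp_right fun h d hd => mC.2 ⟨hD hd, h d hd⟩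
  have CN : ∀ u ∈ P, ∀ c ∈ C, u * c * u⁻¹ ∈ C := by
    obtain ⟨v, h3, h4, h5⟩ := H9.exists_mem_normalizer_of_lt pP (lt_of_le_of_ne inf_le_left CP)
    rcases leC (P ⊓ normalizer (C : Set X)) inf_le_left (fun d hd => ⟨hN.conj_mem d hd.1 g,
      (normalizer (C : Set X)).mul_mem (mul_mem (mem_normalizer_fintype fun c hc => by
        rwa [cg c hc]) hd.2) (inv_mem (mem_normalizer_fintype fun c hc => by rwa [cg c hc]))⟩)
      with h | h
    · exact fun u hu c hc => (mem_normalizer_iff.1 (h.ge hu).2 c).1 hc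
    · exact absurd (h ⟨h3, h5⟩) h4
  have CZ : C ≤ center X := by
    have h3 := nc (P ⊓ centralizer C) inf_le_left (fun d hd => ⟨hN.conj_mem d hd.1 g,
      fun c hc => by rw [← cg c hc, conj_mul, conj_mul, hd.2 c hc]⟩) fun u hu =>
      ⟨P.mul_mem (inv_mem hu) (hN.conj_mem u hu g), fun c hc => by
        have h4 := cg _ (CN u hu c hc)
        have h5 := cg _ (CN u hu _ (CN _ (inv_mem hu) c hc))
        calc _ = u⁻¹ * (u * c * u⁻¹) * g * u * g⁻¹ := by group
          _ = u⁻¹ * g * u * (c * g⁻¹) := by nth_rewrite 1 [← h4]; group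
          _ = _ := by rw [(Commute.inv_right (mC.1 hc).2).eq]; group⟩
    intro c hc
    refine mem_center_iff.2 fun x => ?_
    obtain ⟨u, hu, i, rfl⟩ := gen x
    exact (Commute.mul_left ((h3.ge hu).2 c hc).symm
      (Commute.pow_left (mC.1 hc).2.symm i)).eq
  have : Nontrivial P := P.nontrivial_iff_ne_bot.2 fun e => CP (le_antisymm inf_le_left
    (e.le.trans bot_le))
  have hΦ : (frattini P).map P.subtype ≤ C :=
    (leC _ (map_subtype_le _) fun d hd => Normal.conj_mem inferInstance d hd g).resolve_left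
      fun e => by
        have h3 : frattini P = ⊤ := map_injective P.subtype_injective
          (e.trans (by rw [← MonoidHom.range_eq_map, range_subtype]))
        exact bot_ne_top (frattini_nongenerating (K := (⊥ : Subgroup P)) (by rw [h3, bot_sup_eq]))
  let ξ : MulAut X := MulAut.conj g
  have := pP.isNilpotent
  obtain ⟨V, _, _, π, ξV, a1, a2, a3, a4⟩ := H38.exists_section ξ P C (fun x hx => hN.conj_mem x hx g)
    (fun x hx => by rwa [MulAut.conj_apply, cg x hx]) fun x hx y hy =>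
      hΦ ⟨⁅(⟨x, hx⟩ : P)⁻¹, ⟨y, hy⟩⁻¹⁆, H8.commutator_le_frattini
        (commutator_mem_commutator (mem_top _) (mem_top _)), by simp [commutatorElement_def]⟩
  have := Fintype.ofFinite E
  have hξ : ∀ v, ξV^[q] v = v := fun v => by
    obtain ⟨u, hu, rfl⟩ := a3 v
    rw [← H38.additive_iterate (fun x hx => hN.conj_mem x hx g) a4 q hu, ← map_pow,
      MulAut.conj_apply, ← mem_center_iff.1 hgq, mul_inv_cancel_right]
  obtain ⟨u₀, hu₀, hu₀'⟩ := SetLike.exists_of_lt (lt_of_le_of_ne inf_le_left CP)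
  have z0 : ζ ≠ 0 := fun e => by rw [e, orderOf_zero] at hζ; exact hq.out.ne_zero hζ.symm
  obtain ⟨e, μ, e1, e2, e3⟩ := H38.exists_embedding_of_irreducible (p := p) (V := V) (fun v => by
      obtain ⟨u, hu, rfl⟩ := a3 v
      rw [← H38.additive_pow a1 hu, a2 _ (pow_mem hu p)]
      exact hΦ ⟨⟨u, hu⟩ ^ p, H8.pow_mem_frattini pP _, rfl⟩) ξV (F := E) (fun v => by
      obtain ⟨m, hm⟩ : q ∣ Fintype.card E - 1 :=
        hζ ▸ orderOf_dvd_of_pow_eq_one (FiniteField.pow_card_sub_one_eq_one ζ z0)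
      rw [hm, Function.iterate_mul]
      exact Function.iterate_fixed (hξ v) m) (fun W hW => by
      refine (leC (H38.preimSub P π a1 W) (fun x hx => hx.1) fun d hd =>
        ⟨hN.conj_mem d hd.1 g, (a4 d hd.1).symm ▸ hW _ hd.2⟩).symm.imp (fun h => ?_) fun h => ?_
      · refine (AddSubgroup.eq_bot_iff_forall W).2 fun v hv => ?_
        obtain ⟨u, hu, rfl⟩ := a3 v
        exact (a2 u hu).2 (h ⟨hu, hv⟩)
      · refine (AddSubgroup.eq_top_iff' W).2 fun v => ?_
        obtain ⟨u, hu, rfl⟩ := a3 v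
        exact (h.ge hu).2) (v₀ := π u₀) (mt (a2 u₀ hu₀).1 hu₀')
  have e4 : ∀ (n : ℕ) v, e (ξV^[n] v) = μ ^ n * e v := fun n v => by
    induction n with
    | zero => simp
    | succ n ih => rw [Function.iterate_succ_apply', e3, ih]; ring
  have a5 : ∀ u ∈ P, e (π (g * u * g⁻¹)) = μ * e (π u) := fun u hu => by rw [← e3, ← a4 u hu]; rfl
  have hμ : orderOf μ = q := orderOf_eq_prime (by simpa [hξ, e2] using (e4 q (π u₀)).symm)
    fun h => CP (nc C inf_le_left (fun c hc => by rwa [cg c hc]) fun u hu => by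
      rw [← a2 _ (mul_mem (inv_mem hu) (hN.conj_mem u hu g)), a1 _ (inv_mem hu) _
        (hN.conj_mem u hu g), H38.additive_inv a1 hu, neg_add_eq_zero]
      exact e1 (by rw [a5 u hu, h, one_mul]))
  have hμ' : IsPrimitiveRoot μ q := hμ ▸ IsPrimitiveRoot.orderOf μ
  obtain ⟨j, -, hj, rfl⟩ := (hμ'.isPrimitiveRoot_iff).1 (hζ ▸ IsPrimitiveRoot.orderOf ζ :)
  have hj' : (q ^ r).Coprime j := (hj.symm).pow_left r
  refine ⟨P, g ^ j, fun x => e (π x), hN, pP, by rw [Nat.Coprime.orderOf_pow (hord ▸ hj'), hord],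
    fun x => ?_, fun u hu v hv => by rw [a1 u hu v hv, map_add], fun a => ?_, fun u hu => ?_,
    fun u hu h => CZ ((a2 u hu).1 (e1 (h.trans e.map_zero.symm))), fun c hc h => ?_,
    by rw [← pow_mul, mul_comm, pow_mul]; exact pow_mem hgq j⟩
  · obtain ⟨u, hu, i, rfl⟩ := gen x
    obtain ⟨m, hm⟩ := exists_pow_eq_self_of_coprime (hord ▸ hj'.symm : j.Coprime (orderOf g))
    exact ⟨u, hu, m * i, by rw [pow_mul, hm]⟩
  · rcases irr hE hμ e.range (by rintro _ ⟨v, rfl⟩; exact ⟨_, e3 v⟩) with h | h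
    · exact absurd (AddSubgroup.mem_bot.1 (h.le ⟨_, e2⟩)) one_ne_zero
    · obtain ⟨v, rfl⟩ := h.ge (AddSubgroup.mem_top a)
      obtain ⟨u, hu, rfl⟩ := a3 v
      exact ⟨u, hu, rfl⟩
  · rw [← e4, ← H38.additive_iterate (fun x hx => hN.conj_mem x hx g) a4 j hu, ← map_pow]; rfl
  · have hc' := cg c ((a2 c hc).1 (e1 (h.trans e.map_zero.symm)))
    obtain ⟨V', _, _, π', ξ', b1, b2, b3, b4⟩ := H38.exists_section ξ P ⁅P, P⁆
      (fun x hx => hN.conj_mem x hx g) (fun x hx => Normal.conj_mem inferInstance x hx g)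
      fun x hx y hy => by simpa [commutatorElement_def] using
        commutator_mem_commutator (inv_mem hx) (inv_mem hy)
    let f : V' →+ V' := ξ'.toAddMonoidHom - AddMonoidHom.id V'
    have h3 := nc (H38.preimSub P π' b1 f.range) (fun x hx => hx.1) (fun d hd =>
      ⟨hN.conj_mem d hd.1 g, by
        obtain ⟨v, hv⟩ := hd.2
        exact ⟨ξ' v, (map_sub ξ' _ _).symm.trans ((congrArg ξ' hv).trans (b4 d hd.1).symm)⟩⟩)
      fun u hu => ⟨mul_mem (inv_mem hu) (hN.conj_mem u hu g), π' u, by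
        rw [b1 _ (inv_mem hu) _ (hN.conj_mem u hu g), H38.additive_inv b1 hu, neg_add_eq_sub]
        exact congrArg (· - π' u) (b4 u hu).symm⟩
    have h4 : Function.Injective f := Finite.injective_iff_surjective.2 fun v => by
      obtain ⟨u, hu, rfl⟩ := b3 v
      exact (h3.ge hu).2
    refine (b2 c hc).1 (h4 (Eq.trans ?_ f.map_zero.symm))
    exact sub_eq_zero.2 ((b4 c hc).symm.trans (congrArg π' hc'))

end Cfsg.Agent.H86.Schm
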