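import Mathlib
import Cfsg.Agent.H86.Schm

/-! The order of a minimal non-`p`-nilpotent group is bounded. -/

set_option autoImplicit false

namespace Cfsg.Agent.H86.Schm

open Cfsg Subgroup
open scoped commutatorElement IsMulCommutative

variable {p q r : ℕ} [hp : Fact p.Prime] [hq : Fact q.Prime] {E : Type} [Field E] [Finite E]

theorem bound [CharP E p] (hE : Nat.card E = p ^ orderOf (p : ZMod q)) {ζ : E}
    (hζ : orderOf ζ = q) (hpq : p ≠ q) {A : Type*} [AddCommGroup A] (β : E →+ E →+ A)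
    (hs : ∀ x z, β x z = -β z x) (hz : ∀ x z, β (ζ * x) (ζ * z) = β x z) :
    (∀ x z, β x z ∈ (β 1).range) ∧ (Nat.card (β 1).range = 1 ∨
      (orderOf (p : ZMod q) % 2 = 0 ∧ Nat.card (β 1).range ≤ p ^ (orderOf (p : ZMod q) / 2))) := by
  by_cases h0 : ∀ x z, β x z = 0
  · refine ⟨fun x z => h0 x z ▸ zero_mem _, .inl (AddSubgroup.card_eq_one.2 ?_)⟩
    exact (AddSubgroup.eq_bot_iff_forall _).2 (by rintro _ ⟨z, rfl⟩; exact h0 1 z)
  have z0 : ζ ≠ 0 := fun e => by rw [e, orderOf_zero] at hζ; exact hq.out.ne_zero hζ.symm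
  have uq : ∀ e e', (∀ x z, β x (e * z) = β x (e' * z)) → e = e' := fun e e' h =>
    by_contra fun n => h0 fun x z => by
      have := h x (z / (e - e'))
      rwa [← sub_eq_zero, ← map_sub, ← sub_mul, mul_div_cancel₀ _ (sub_ne_zero.2 n)] at this
  have hz' : ∀ x z, β (ζ * x) z = β x (ζ⁻¹ * z) := fun x z => by
    rw [← hz x, mul_inv_cancel_left₀ z0]
  let W : AddSubgroup E :=
    { carrier := {e | ∃ e', ∀ x z, β (e * x) z = β x (e' * z)}
      add_mem' := fun ⟨a, ha⟩ ⟨b, hb⟩ => ⟨a + b, fun x z => by simp [add_mul, ha, hb]⟩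
      zero_mem' := ⟨0, fun x z => by simp⟩
      neg_mem' := fun ⟨a, ha⟩ => ⟨-a, fun x z => by simp [ha]⟩ }
  have hW : W = ⊤ := (irr hE hζ W fun w ⟨a, ha⟩ => ⟨a * ζ⁻¹, fun x z => by
    rw [mul_assoc, hz', ha, mul_assoc]⟩).resolve_left fun h =>
      one_ne_zero (AddSubgroup.mem_bot.1 (h.le (⟨1, fun x z => by simp⟩ : (1 : E) ∈ W)))
  choose s hs' using fun e => (hW.ge (AddSubgroup.mem_top e) : ∃ e', ∀ x z, _)
  have inv : Function.Involutive s := fun e => uq _ _ fun x z => by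
    rw [← hs', hs, ← hs', ← hs]
  let σ : RingAut E := { inv.toPerm s with
    map_mul' := fun a b => uq _ _ fun x z => by
      change β x (s (a * b) * z) = β x (s a * s b * z)
      rw [← hs', mul_comm a, mul_assoc, hs', hs', mul_assoc]
    map_add' := fun a b => uq _ _ fun x z => by
      change β x (s (a + b) * z) = β x ((s a + s b) * z)
      rw [← hs', add_mul, add_mul, map_add, map_add, AddMonoidHom.add_apply, hs', hs'] }
  let T : E →+ E := σ.toAddMonoidHom + AddMonoidHom.id E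
  have hT : ∀ z, T z = s z + z := fun z => rfl
  have h1 : Nat.card (β 1).range ≤ Nat.card T.ker := by
    rw [← AddSubgroup.index_ker, ← AddSubgroup.index_range]
    refine Nat.le_of_dvd (Nat.pos_of_ne_zero AddSubgroup.index_ne_zero_of_finite)
      (AddSubgroup.index_dvd_of_le ?_)
    rintro _ ⟨z, rfl⟩
    rw [AddMonoidHom.mem_ker, hT, map_add, ← mul_one (s z), ← hs', hs, mul_one, neg_add_cancel]
  refine ⟨fun x z => ⟨s x * z, by rw [← hs', mul_one]⟩, ?_⟩
  by_cases h2 : σ = 1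
  · left
    have h3 : ∀ z, s z = z := fun z => DFunLike.congr_fun h2 z
    have h4 : q = 2 := (Nat.prime_dvd_prime_iff_eq hq.out Nat.prime_two).1
      (hζ ▸ orderOf_dvd_of_pow_eq_one (by
        rw [sq]; nth_rewrite 1 [uq ζ ζ⁻¹ fun x z => by rw [← hz', hs', h3]]
        exact inv_mul_cancel₀ z0))
    have h5 : (2 : E) ≠ 0 := fun h => hpq (h4 ▸ (Nat.prime_dvd_prime_iff_eq hp.out
      Nat.prime_two).1 ((CharP.cast_eq_zero_iff E p 2).1 (by simpa using h)))
    have h6 : T.ker = ⊥ := (AddSubgroup.eq_bot_iff_forall _).2 fun z h => by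
      rwa [AddMonoidHom.mem_ker, hT, h3, ← two_mul, mul_eq_zero_iff_left h5] at h
    rw [h6, AddSubgroup.card_bot] at h1
    exact le_antisymm h1 (Nat.card_pos_iff.2 ⟨inferInstance,
      .of_surjective _ (β 1).rangeRestrict_surjective⟩)
  right
  have := Fintype.ofFinite E
  have h3 : orderOf σ = 2 := orderOf_eq_prime (RingEquiv.ext inv) h2
  rw [Nat.card_eq_fintype_card] at hE
  refine ⟨Nat.mod_eq_zero_of_dvd (h3 ▸ H73.orderOf_dvd_of_card hE σ), h1.trans ?_⟩
  rw [← h3, ← H73.card_fixF hE σ]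
  obtain ⟨w, hw⟩ : ∃ w, s w ≠ w := not_forall.1 fun h => h2 (RingEquiv.ext h)
  refine Nat.card_le_card_of_injective (fun t => ⟨t.1 * (σ w - w), ?_⟩) fun t t' h =>
    Subtype.ext (mul_right_cancel₀ (sub_ne_zero.2 hw) (congrArg Subtype.val h))
  rw [H73.mem_fixF, map_mul, map_sub, show σ t = -t from eq_neg_of_add_eq_zero_left t.2,
    show σ (σ w) = w from inv w]
  ring

namespace Sch

variable {X : Type*} [Group X] {ζ : E} {P : Subgroup X} {y : X} {π : X → E}
  (S : Sch p q r ζ P y π)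
include S

theorem one : π 1 = 0 := by simpa using S.add 1 P.one_mem 1 P.one_mem

theorem inv {u : X} (hu : u ∈ P) : π u⁻¹ = -π u :=
  eq_neg_of_add_eq_zero_left (by rw [← S.add _ (inv_mem hu) u hu, inv_mul_cancel, S.one])

theorem actn (i : ℕ) {u : X} (hu : u ∈ P) : π (y ^ i * u * (y ^ i)⁻¹) = ζ ^ i * π u := by
  induction i with
  | zero => simp
  | succ n ih =>
    rw [pow_succ' ζ, mul_assoc ζ, ← ih, ← S.act _ (S.nrm.conj_mem u hu _)]
    exact congrArg π (by group)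

theorem conj {u v : X} (hu : u ∈ P) (hv : v ∈ P) : π (v * u * v⁻¹) = π u := by
  rw [S.add _ (mul_mem hv hu) _ (inv_mem hv), S.add _ hv _ hu, S.inv hv]; ring

theorem comm {u v : X} (hu : u ∈ P) (hv : v ∈ P) : ⁅u, v⁆ ∈ center X := by
  have h := S.nrm.conj_mem v hv u
  exact S.cen _ (mul_mem h (inv_mem hv)) (by
    rw [commutatorElement_def, S.add _ h _ (inv_mem hv), S.conj hv hu, S.inv hv, add_neg_cancel])

theorem comm_eq {u v u' v' : X} (hu : u ∈ P) (hv : v ∈ P) (hu' : u' ∈ P) (hv' : v' ∈ P)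
    (h : π u = π u') (h' : π v = π v') : ⁅u, v⁆ = ⁅u', v'⁆ := by
  have k : ∀ {a b : X}, a ∈ P → b ∈ P → π a = π b → ∃ z ∈ center X, a = b * z := fun ha hb e =>
    ⟨_, S.cen _ (mul_mem (inv_mem hb) ha) (by rw [S.add _ (inv_mem hb) _ ha, S.inv hb, e,
      neg_add_cancel]), (mul_inv_cancel_left _ _).symm⟩
  obtain ⟨z, hz, rfl⟩ := k hu hu' h
  obtain ⟨w, hw, rfl⟩ := k hv hv' h'
  calc _ = u' * (z * (v' * w * z⁻¹ * u'⁻¹ * w⁻¹)) * v'⁻¹ := by group
    _ = u' * v' * (w * (z⁻¹ * u'⁻¹) * w⁻¹ * z) * v'⁻¹ := by rw [← mem_center_iff.1 hz]; group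
    _ = _ := by
      rw [← mem_center_iff.1 hw, mul_inv_cancel_right, mul_assoc z⁻¹, mem_center_iff.1 hz]; group

theorem eq_one (hpq : p ≠ q) {x : X} (hx : x ∈ P) {n : ℕ} (hn : n.Coprime p) (h : x ^ n = 1) :
    x = 1 := by
  obtain ⟨m, hm⟩ := S.pg ⟨x, hx⟩
  exact eq_one_of_two (hn.pow_right m) h (congrArg Subtype.val hm)

theorem ypow (i : ℕ) : (y ^ i) ^ q ^ r = 1 := by
  rw [← pow_mul, mul_comm, pow_mul, ← S.ord, pow_orderOf_eq_one, one_pow]

theorem card_eq [Finite X] (hpq : p ≠ q) : Nat.card X = Nat.card P * q ^ r := by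
  have := S.nrm
  rw [← S.ord, ← Nat.card_zpowers]
  refine (IsComplement'.card_mul_card (isComplement'_of_disjoint_and_mul_eq_univ
    (disjoint_def.2 fun hx hy => ?_) (Set.eq_univ_of_forall fun x => ?_))).symm
  · obtain ⟨i, rfl⟩ := (Submonoid.mem_powers_iff _ _).1 (mem_powers_iff_mem_zpowers.2 hy)
    exact S.eq_one hpq hx (((Nat.coprime_primes hq.out hp.out).2 hpq.symm).pow_left r) (S.ypow i)
  · obtain ⟨u, hu, i, rfl⟩ := S.gen x
    exact Set.mul_mem_mul hu (npow_mem_zpowers y i)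

theorem card_le [Finite X] [CharP E p] (hE : Nat.card E = p ^ orderOf (p : ZMod q))
    (hζ : orderOf ζ = q) (hpq : p ≠ q) : Nat.card P ≤ p ^ (if orderOf (p : ZMod q) % 2 = 1 then
      orderOf (p : ZMod q) else 3 * orderOf (p : ZMod q) / 2) := by
  choose s hs hs' using S.surj
  let b : E → E → Additive (center X) := fun x z => Additive.ofMul ⟨_, S.comm (hs x) (hs z)⟩
  have sk : ∀ x z, b x z = -b z x := fun x z => Subtype.ext (commutatorElement_inv _ _).symm
  have ad : ∀ x z w, b x (z + w) = b x z + b x w := fun x z w => Subtype.ext (by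
    change ⁅s x, s (z + w)⁆ = ⁅s x, s z⁆ * ⁅s x, s w⁆
    rw [S.comm_eq (hs x) (hs _) (hs x) (mul_mem (hs z) (hs w)) rfl (by
      rw [S.add _ (hs z) _ (hs w), hs', hs', hs'])]
    calc _ = ⁅s x, s z⁆ * (s z * ⁅s x, s w⁆) * (s z)⁻¹ := by group
      _ = _ := by rw [mem_center_iff.1 (S.comm (hs x) (hs w))]; group)
  let β : E →+ E →+ Additive (center X) := AddMonoidHom.mk' (fun x => AddMonoidHom.mk' (b x) (ad x))
    fun x z => AddMonoidHom.ext fun w => by
      change b (x + z) w = b x w + b z w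
      rw [sk, ad, sk x, sk z, neg_add]
  obtain ⟨h1, h2⟩ := bound hE hζ hpq β sk fun x z => Subtype.ext (by
    change ⁅s (ζ * x), s (ζ * z)⁆ = ⁅s x, s z⁆
    rw [S.comm_eq (hs _) (hs _) (S.nrm.conj_mem _ (hs x) y) (S.nrm.conj_mem _ (hs z) y)
      (by rw [S.act _ (hs x), hs', hs']) (by rw [S.act _ (hs z), hs', hs']),
      ← conjugate_commutatorElement, mem_center_iff.1 (S.comm (hs x) (hs z)), mul_inv_cancel_right])
  let K := (AddSubgroup.toSubgroup' (β 1).range).map (center X).subtype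
  have h3 : ⁅P, P⁆ ≤ K := commutator_le.2 fun u hu v hv => ⟨_, h1 (π u) (π v),
    S.comm_eq (hs _) (hs _) hu hv (hs' _) (hs' _)⟩
  let f : P →* Multiplicative E := MonoidHom.mk' (fun u => Multiplicative.ofAdd (π u))
    fun u v => S.add u u.2 v v.2
  have h4 : Nat.card P ≤ Nat.card (β 1).range * p ^ orderOf (p : ZMod q) := by
    rw [← f.ker.card_mul_index, index_ker, ← hE]
    refine Nat.mul_le_mul ?_ (card_le_card_group _)
    rw [← card_map_of_injective P.subtype_injective,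
      show Nat.card (β 1).range = Nat.card K from
        (card_map_of_injective (K := AddSubgroup.toSubgroup' (β 1).range)
          (center X).subtype_injective).symm]
    exact card_le_of_le (map_le_iff_le_comap.2 fun u hu => h3 (S.der u u.2 hu))
  refine h4.trans ?_
  rcases h2 with h | ⟨h, h'⟩
  · rw [h, one_mul]
    exact Nat.pow_le_pow_right hp.out.pos (by split_ifs <;> omega)
  · refine (Nat.mul_le_mul_right _ h').trans ?_
    rw [← pow_add]
    exact Nat.pow_le_pow_right hp.out.pos (by split_ifs <;> omega)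

theorem minN [Finite X] [CharP E p] (hE : Nat.card E = p ^ orderOf (p : ZMod q))
    (hζ : orderOf ζ = q) (hpq : p ≠ q) : MinN p X := by
  have := S.nrm
  have cop : (q ^ r).Coprime p := ((Nat.coprime_primes hq.out hp.out).2 hpq.symm).pow_left r
  refine ⟨fun h => ?_, fun K hK => H8.hasNormalPComplement_of_forall_centralizes
    fun Q hQ g hg hc => ?_⟩
  · obtain ⟨u, hu, e⟩ := S.surj 1
    have h1 := S.act u hu
    rw [← H8.HasNormalPComplement.mem_centralizer h S.pg (g := y)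
      (normalizer_eq_top P ▸ mem_top y) (S.ord ▸ cop) u hu, mul_inv_cancel_right, e, mul_one] at h1
    rw [← h1, orderOf_one] at hζ
    exact hq.out.one_lt.ne hζ
  obtain ⟨u, hu, i, e⟩ := S.gen g
  by_cases hi : q ∣ i
  · obtain ⟨j, rfl⟩ := hi
    have h1 : y ^ (q * j) ∈ center X := pow_mul y q j ▸ pow_mem S.yq j
    have h2 := S.eq_one hpq hu (hc.mul_left cop) (by
      rw [eq_mul_inv_of_mul_eq e.symm, Commute.mul_pow (mem_center_iff.1 (inv_mem h1) _), pow_mul,
        ← coe_pow, pow_orderOf_eq_one, mul_comm (orderOf g), pow_mul, inv_pow, S.ypow]; simp)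
    rw [h2, one_mul] at e
    exact fun x _ => Subtype.ext (mem_center_iff.1 (e ▸ h1) _)
  let W : AddSubgroup E :=
    { carrier := {w | ∃ v ∈ K ⊓ P, π v = w}
      add_mem' := by
        rintro _ _ ⟨a, ha, rfl⟩ ⟨b, hb, rfl⟩; exact ⟨a * b, mul_mem ha hb, S.add a ha.2 b hb.2⟩
      zero_mem' := ⟨1, one_mem _, S.one⟩
      neg_mem' := by rintro _ ⟨a, ha, rfl⟩; exact ⟨a⁻¹, (K ⊓ P).inv_mem ha, S.inv ha.2⟩ }
  have cq : q.Coprime i := hq.out.coprime_iff_not_dvd.2 hi
  rcases irr hE ((Nat.Coprime.orderOf_pow (hζ ▸ cq)).trans hζ) W (by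
      rintro _ ⟨v, hv, rfl⟩
      refine ⟨g * v * (g : X)⁻¹, ⟨K.mul_mem (K.mul_mem g.2 hv.1) (K.inv_mem g.2),
        this.conj_mem v hv.2 _⟩, ?_⟩
      rw [← S.actn i hv.2, ← S.conj (this.conj_mem v hv.2 (y ^ i)) hu, e]
      exact congrArg π (by group)) with h | h
  · intro x hx
    obtain ⟨m, hm⟩ := hQ ⟨x, hx⟩
    obtain ⟨v, hv, j, e'⟩ := S.gen x
    have h1 : (x : X) ∈ P := (QuotientGroup.eq_one_iff _).1 (eq_one_of_two (cop.pow_right m)
      (by rw [e', QuotientGroup.mk_mul, (QuotientGroup.eq_one_iff v).2 hv, one_mul,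
        ← QuotientGroup.mk_pow, S.ypow, QuotientGroup.mk_one])
      (by rw [← QuotientGroup.mk_pow, ← coe_pow, show x ^ p ^ m = 1 from congrArg Subtype.val hm,
        coe_one, QuotientGroup.mk_one]))
    exact Subtype.ext (mem_center_iff.1 (S.cen _ h1 (AddSubgroup.mem_bot.1
      (h.le ⟨x, ⟨x.2, h1⟩, rfl⟩))) _).symm
  have h1 : ⁅P, P⁆ ≤ K := commutator_le.2 fun a ha b hb => by
    obtain ⟨a', ha', e1⟩ := h.ge (AddSubgroup.mem_top (π a))
    obtain ⟨b', hb', e2⟩ := h.ge (AddSubgroup.mem_top (π b))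
    rw [← S.comm_eq ha'.2 hb'.2 ha hb e1 e2]
    exact mul_mem (mul_mem (mul_mem ha'.1 hb'.1) (inv_mem ha'.1)) (inv_mem hb'.1)
  have h2 : P ≤ K := fun a ha => by
    obtain ⟨a', ha', e1⟩ := h.ge (AddSubgroup.mem_top (π a))
    simpa using mul_mem ha'.1 (h1 (S.der _ (mul_mem (inv_mem ha'.2) ha) (by
      rw [S.add _ (inv_mem ha'.2) _ ha, S.inv ha'.2, e1, neg_add_cancel])))
  have h3 : y ^ i ∈ K := by simpa [e] using mul_mem (inv_mem (h2 hu)) g.2
  obtain ⟨m, hm⟩ := exists_pow_eq_self_of_coprime (S.ord ▸ (cq.pow_left r).symm :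
    i.Coprime (orderOf y))
  refine absurd ((eq_top_iff' K).2 fun x => ?_) hK
  obtain ⟨v, hv, j, rfl⟩ := S.gen x
  exact mul_mem (h2 hv) (pow_mem (hm ▸ pow_mem h3 m) j)

end Sch

end Cfsg.Agent.H86.Schm
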