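import Mathlib
import Cfsg.Agent.H86.Schm2

/-! The largest minimal non-`p`-nilpotent group with given `q`-part. -/

set_option autoImplicit false

namespace Cfsg.Agent.H86.Schm

open Cfsg Subgroup
open scoped commutatorElement

universe u

section Explicit

variable {E A C : Type} [Field E] [AddCommGroup A] [CommGroup C]

/-- the explicit group -/
@[ext] structure Gp (B : E →+ E →+ A) (χ : C →* E)
    (h : ∀ g x z, B (χ g * x) (χ g * z) = B x z) : Type u where
  x : E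
  a : A
  g : C

variable {B : E →+ E →+ A} {χ : C →* E} {h : ∀ g x z, B (χ g * x) (χ g * z) = B x z}

instance : Mul (Gp.{u} B χ h) :=
  ⟨fun s t => ⟨s.x + χ s.g * t.x, s.a + t.a + B s.x (χ s.g * t.x), s.g * t.g⟩⟩
instance : One (Gp.{u} B χ h) := ⟨⟨0, 0, 1⟩⟩
instance : Inv (Gp.{u} B χ h) := ⟨fun s => ⟨-(χ s.g⁻¹ * s.x), -s.a + B s.x s.x, s.g⁻¹⟩⟩

theorem Gp.mul_def (s t : Gp.{u} B χ h) :
    s * t = ⟨s.x + χ s.g * t.x, s.a + t.a + B s.x (χ s.g * t.x), s.g * t.g⟩ := rfl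
theorem Gp.one_def : (1 : Gp.{u} B χ h) = ⟨0, 0, 1⟩ := rfl
theorem Gp.inv_def (s : Gp.{u} B χ h) : s⁻¹ = ⟨-(χ s.g⁻¹ * s.x), -s.a + B s.x s.x, s.g⁻¹⟩ := rfl

instance : Group (Gp.{u} B χ h) := Group.ofRightAxioms
  (fun s t v => by
    simp only [Gp.mul_def, map_mul, map_add, mul_add, mul_assoc, AddMonoidHom.add_apply, h]
    ext <;> simp only <;> abel)
  (fun s => by simp [Gp.mul_def, Gp.one_def])
  (fun s => by simp only [Gp.mul_def, Gp.inv_def, Gp.one_def, mul_neg, ← mul_assoc, ← map_mul]; simp)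

/-- coordinates -/
def Gp.equiv : Gp.{u} B χ h ≃ (E × A) × C :=
  ⟨fun s => ((s.x, s.a), s.g), fun s => ⟨s.1.1, s.1.2, s.2⟩, fun _ => rfl, fun _ => rfl⟩

/-- the projection -/
def Gp.pr : Gp.{u} B χ h →* C := MonoidHom.mk' Gp.g fun _ _ => rfl

/-- the complement -/
def Gp.inr : C →* Gp.{u} B χ h := MonoidHom.mk' (fun g => ⟨0, 0, g⟩) fun _ _ => by
  simp [Gp.mul_def]

theorem Gp.sch {p q r k : ℕ} [Finite C] (hk : Nat.card (E × A) = p ^ k) {c : C}
    (hc : ∀ g, g ∈ zpowers c) (hc' : orderOf c = q ^ r) (hq : χ (c ^ q) = 1)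
    (hB : ∀ a, ∃ x z, B x z - B z x = a) :
    Sch p q r (χ c) (Gp.pr.{u} (h := h)).ker (Gp.inr c) Gp.x where
  nrm := inferInstance
  pg := IsPGroup.of_card (n := k) (hk ▸ Nat.card_congr
    ⟨fun s => (s.1.x, s.1.a), fun s => ⟨⟨s.1, s.2, 1⟩, rfl⟩,
      fun s => Subtype.ext (Gp.ext rfl rfl s.2.symm), fun _ => rfl⟩)
  ord := (orderOf_injective _ (fun _ _ e => congrArg Gp.g e) c).trans hc'
  gen s := by
    obtain ⟨i, hi⟩ := (Submonoid.mem_powers_iff _ _).1 (mem_powers_iff_mem_zpowers.2 (hc s.g))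
    exact ⟨⟨s.x, s.a, 1⟩, rfl, i, by rw [← map_pow, hi]; simp [Gp.mul_def, Gp.inr]⟩
  add s hs t _ := by simp [Gp.mul_def, show s.g = 1 from hs]
  surj e := ⟨⟨e, 0, 1⟩, rfl, rfl⟩
  act s _ := by rw [← map_inv]; simp [Gp.mul_def, Gp.inr]
  cen s hs e := mem_center_iff.2 fun t => by
    simp [Gp.mul_def, show s.g = 1 from hs, e, add_comm]
  der s hs e := by
    obtain ⟨x, z, e'⟩ := hB s.a
    convert commutator_mem_commutator (show (⟨x, 0, 1⟩ : Gp.{u} B χ h) ∈ Gp.pr.ker from rfl)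
      (show (⟨z, 0, 1⟩ : Gp.{u} B χ h) ∈ Gp.pr.ker from rfl)
    rw [commutatorElement_def, eq_mul_inv_iff_mul_eq, eq_mul_inv_iff_mul_eq]
    simp only [Gp.mul_def, show s.g = 1 from hs, e, ← e', map_one, one_mul, map_zero,
      AddMonoidHom.zero_apply, zero_add]
    ext <;> simp only <;> abel
  yq := mem_center_iff.2 fun t => by rw [← map_pow]; simp [Gp.mul_def, Gp.inr, hq, mul_comm]

end Explicit

variable {p q r : ℕ} [hp : Fact p.Prime] [hq : Fact q.Prime] {E : Type} [Field E] [Finite E]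

theorem exists_form [CharP E p] (hE : Nat.card E = p ^ orderOf (p : ZMod q)) {ζ : E}
    (hζ : orderOf ζ = q) : ∃ (A : Type) (_ : AddCommGroup A) (B : E →+ E →+ A),
      (∀ (i : ℕ) x z, B (ζ ^ i * x) (ζ ^ i * z) = B x z) ∧ (∀ a, ∃ x z, B x z - B z x = a) ∧
      Nat.card (E × A) = p ^ (if orderOf (p : ZMod q) % 2 = 1 then
        orderOf (p : ZMod q) else 3 * orderOf (p : ZMod q) / 2) := by
  split_ifs with h
  · exact ⟨Unit, inferInstance, 0, fun _ _ _ => rfl, fun _ => ⟨0, 0, rfl⟩, by simp [hE]⟩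
  obtain ⟨m, hm⟩ : 2 ∣ orderOf (p : ZMod q) := by omega
  have := Fintype.ofFinite E
  have hE' := hE
  rw [Nat.card_eq_fintype_card] at hE'
  have m0 : 0 < m := Nat.pos_of_ne_zero fun e => by
    rw [hm, e] at hE'; exact Fintype.one_lt_card.ne' hE'
  let σ : RingAut E := iterateFrobeniusEquiv E p m
  have hσ : ∀ x, σ x = x ^ p ^ m := fun x => rfl
  have inv : ∀ x, σ (σ x) = x := fun x => by
    rw [hσ, hσ, ← pow_mul, ← pow_add, ← two_mul, ← hm, ← hE', FiniteField.pow_card]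
  have h1 : (p : ZMod q) ^ m ≠ 1 := pow_ne_one_of_lt_orderOf m0.ne' (by omega)
  have h2 : (p : ZMod q) ^ m = -1 := (mul_self_eq_one_iff.1 (by
    rw [← pow_add, ← two_mul, ← hm, pow_orderOf_eq_one])).resolve_left h1
  have h3 : ζ * σ ζ = 1 := by
    rw [hσ, ← pow_succ', ← orderOf_dvd_iff_pow_eq_one, hζ, ← ZMod.natCast_eq_zero_iff]
    simp [h2]
  have h4 : σ ≠ 1 := fun e => h1 (by
    rw [e, RingAut.one_apply, ← sq, ← orderOf_dvd_iff_pow_eq_one, hζ,
      ← ZMod.natCast_eq_zero_iff] at h3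
    rw [h2, neg_eq_iff_add_eq_zero, one_add_one_eq_two]; exact_mod_cast h3)
  obtain ⟨w, hw⟩ : ∃ w, w - σ w ≠ 0 := not_forall.1 fun h => h4 (RingEquiv.ext fun x =>
    (sub_eq_zero.1 (h x)).symm)
  let T : E →+ H73.fixF σ := AddMonoidHom.mk' (fun x => ⟨x + σ x, by
    rw [H73.mem_fixF, map_add, inv, add_comm]⟩) fun x z => Subtype.ext (by simp; ring)
  refine ⟨H73.fixF σ, inferInstance, AddMonoidHom.mk' (fun x => T.comp
    ((AddMonoidHom.mulLeft (w * x)).comp σ.toAddMonoidHom)) fun x z => AddMonoidHom.ext fun v => ?_,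
    fun i x z => congrArg T ?_, fun a => ⟨a * w / (w - σ w) ^ 2, 1, Subtype.ext ?_⟩, ?_⟩
  · exact (congrArg T (by simp; ring)).trans (map_add T _ _)
  · change w * (ζ ^ i * x) * σ (ζ ^ i * z) = w * x * σ z
    rw [map_mul, map_pow]
    calc _ = (ζ * σ ζ) ^ i * (w * x * σ z) := by ring
      _ = _ := by rw [h3, one_pow, one_mul]
  · change w * (a * w / (w - σ w) ^ 2) * σ 1 + σ (w * (a * w / (w - σ w) ^ 2) * σ 1) -
      (w * 1 * σ (a * w / (w - σ w) ^ 2) + σ (w * 1 * σ (a * w / (w - σ w) ^ 2))) = a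
    simp only [map_mul, map_div₀, map_pow, map_sub, map_one, inv, show σ a = a from a.2]
    rw [← neg_sub w, neg_sq]
    field_simp
    ring
  · rw [Nat.card_prod, hE, H73.card_fixF hE', orderOf_eq_prime (p := 2) (RingEquiv.ext inv) h4,
      ← pow_add]
    congr 1; omega

theorem surj_of_central {X Y : Type*} [Group X] [Group Y] [Finite X] [Finite Y] (hX : MinN p X)
    (hY : ¬ HasNormalPComplement p Y) (f : Y →* X) (hf : f.ker ≤ center Y) :
    Function.Surjective f :=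
  f.range_eq_top.1 (by_contra fun h => hY (H1.npc_of_quotient_central hf
    (H8.HasNormalPComplement.of_equiv (hX.2 _ h) (QuotientGroup.quotientKerEquivRange f).symm)))

theorem Sch.ker {X Y : Type*} [Group X] [Group Y] {ζ : E} {P : Subgroup X} {x : X} {π : X → E}
    (S : Sch p q r ζ P x π) {Q : Subgroup Y} {y : Y} {ρ : Y → E} (T : Sch p q r ζ Q y ρ)
    (hpq : p ≠ q) {u : X} (hu : u ∈ P) {v : Y} (hv : v ∈ Q) (h : π u = ρ v) {i : ℕ}
    (e : u * x ^ i = 1) : v * y ^ i ∈ Q ⊓ center Y := by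
  have h1 := S.eq_one hpq (x := x ^ i) (by rw [eq_inv_of_mul_eq_one_right e]; exact inv_mem hu)
    (((Nat.coprime_primes hq.out hp.out).2 hpq.symm).pow_left r) (S.ypow i)
  rw [h1, mul_one] at e
  rw [← orderOf_dvd_iff_pow_eq_one, S.ord, ← T.ord, orderOf_dvd_iff_pow_eq_one] at h1
  rw [h1, mul_one]
  exact ⟨hv, T.cen v hv (by rw [← h, e, S.one])⟩

theorem univ [CharP E p] (hE : Nat.card E = p ^ orderOf (p : ZMod q)) {ζ : E}
    (hζ : orderOf ζ = q) (hpq : p ≠ q) {X Y : Type*} [Group X] [Group Y] [Finite X] [Finite Y]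
    {P : Subgroup X} {x : X} {π : X → E} (S : Sch p q r ζ P x π)
    (hc : Nat.card X = p ^ (if orderOf (p : ZMod q) % 2 = 1 then
      orderOf (p : ZMod q) else 3 * orderOf (p : ZMod q) / 2) * q ^ r)
    {Q : Subgroup Y} {y : Y} {ρ : Y → E} (T : Sch p q r ζ Q y ρ) :
    ∃ φ : X →* Y, Function.Surjective φ ∧ φ.ker ≤ center X := by
  let W₀ : Submonoid (X × Y) :=
    { carrier := {w | ∃ u ∈ P, ∃ v ∈ Q, π u = ρ v ∧ ∃ i : ℕ, w = (u * x ^ i, v * y ^ i)}
      one_mem' := ⟨1, P.one_mem, 1, Q.one_mem, S.one.trans T.one.symm, 0, by simp [Prod.ext_iff]⟩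
      mul_mem' := by
        rintro _ _ ⟨u, hu, v, hv, h, i, rfl⟩ ⟨u', hu', v', hv', h', j, rfl⟩
        have h1 := S.nrm.conj_mem u' hu' (x ^ i)
        have h2 := T.nrm.conj_mem v' hv' (y ^ i)
        exact ⟨_, mul_mem hu h1, _, mul_mem hv h2, by
          rw [S.add u hu _ h1, T.add v hv _ h2, S.actn i hu', T.actn i hv', h, h'], i + j,
          Prod.ext (by simp [pow_add, mul_assoc]) (by simp [pow_add, mul_assoc])⟩ }
  let W : Subgroup (X × Y) := ⟨W₀, fun {w} hw => by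
    rw [inv_eq_of_mul_eq_one_right (b := w ^ (orderOf w - 1)) (by
      rw [← pow_succ', Nat.sub_add_cancel (orderOf_pos w), pow_orderOf_eq_one])]
    exact W₀.pow_mem hw _⟩
  have mX := S.minN hE hζ hpq
  obtain ⟨Z, hZ, hm⟩ := exists_minimal_of_wellFoundedLT
    (fun Z : Subgroup (X × Y) => Z ≤ W ∧ ¬ HasNormalPComplement p Z) ⟨W, le_rfl, fun h => mX.1
      (H8.HasNormalPComplement.of_surjective h ((MonoidHom.fst X Y).comp W.subtype) fun a => by
        obtain ⟨u, hu, i, rfl⟩ := S.gen a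
        obtain ⟨v, hv, e⟩ := T.surj (π u)
        exact ⟨⟨_, u, hu, v, hv, e.symm, i, rfl⟩, rfl⟩)⟩
  have mZ : MinN p Z := ⟨hZ.2, fun K hK => by_contra fun h => hK (top_le_iff.1 fun z _ => by
    obtain ⟨k, hk, e⟩ := hm (y := K.map Z.subtype) ⟨(map_subtype_le K).trans hZ.1, fun h' =>
      h (H8.HasNormalPComplement.of_equiv h' (K.equivMapOfInjective _ Z.subtype_injective).symm)⟩
      (map_subtype_le K) z.2
    rwa [← show k = z from Subtype.ext e])⟩
  let f : Z →* X := (MonoidHom.fst X Y).comp Z.subtype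
  let g : Z →* Y := (MonoidHom.snd X Y).comp Z.subtype
  have hf : ∀ z ∈ f.ker, g z ∈ Q ⊓ center Y := fun z hz => by
    obtain ⟨u, hu, v, hv, h, i, e⟩ := hZ.1 z.2
    rw [show g z = v * y ^ i from congrArg Prod.snd e]
    exact S.ker T hpq hu hv h ((congrArg Prod.fst e).symm.trans hz)
  have hg : ∀ z ∈ g.ker, f z ∈ P ⊓ center X := fun z hz => by
    obtain ⟨u, hu, v, hv, h, i, e⟩ := hZ.1 z.2
    rw [show f z = u * x ^ i from congrArg Prod.fst e]
    exact T.ker S hpq hv hu h.symm ((congrArg Prod.snd e).symm.trans hz)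
  have ex : ∀ a b : Z, f a = f b → g a = g b → a = b := fun a b h h' => Subtype.ext (Prod.ext h h')
  have sf := surj_of_central mX hZ.2 f fun z hz => mem_center_iff.2 fun w => ex _ _
    (by rw [map_mul, map_mul, show f z = 1 from hz, mul_one, one_mul])
    (by rw [map_mul, map_mul, mem_center_iff.1 (hf z hz).2])
  have sg := surj_of_central (T.minN hE hζ hpq) hZ.2 g fun z hz => mem_center_iff.2 fun w => ex _ _
    (by rw [map_mul, map_mul, mem_center_iff.1 (hg z hz).2])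
    (by rw [map_mul, map_mul, show g z = 1 from hz, mul_one, one_mul])
  obtain ⟨n, hn⟩ := IsPGroup.iff_card.1 (show IsPGroup p f.ker from fun z => by
    obtain ⟨k, hk⟩ := T.pg ⟨_, (hf z z.2).1⟩
    exact ⟨k, Subtype.ext (ex _ _ (by rw [coe_pow, map_pow, show f z = 1 from z.2]; simp)
      (by simpa using congrArg Subtype.val hk))⟩)
  obtain ⟨R, z, τ, U⟩ := exists_sch hE hζ mZ (r := r) (by
    rw [← f.ker.card_mul_index, index_ker, f.range_eq_top.2 sf, card_top, hn, hc, ← mul_assoc,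
      ← pow_add]) hpq
  let e := MulEquiv.ofBijective f (sf.bijective_of_nat_card_le (by
    rw [U.card_eq hpq, hc]; exact Nat.mul_le_mul_right _ (U.card_le hE hζ hpq)))
  refine ⟨g.comp e.symm.toMonoidHom, sg.comp e.symm.surjective, fun a ha => ?_⟩
  have := (hg (e.symm a) ha).2
  rwa [show f (e.symm a) = a from e.apply_symm_apply a] at this

theorem main (hpq : p ≠ q) (hr : 1 ≤ r) : ∃ (G₀ : Type u) (_ : Group G₀) (_ : Finite G₀),
    MinN p G₀ ∧ Nat.card G₀ = p ^ (if orderOf (p : ZMod q) % 2 = 1 then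
      orderOf (p : ZMod q) else 3 * orderOf (p : ZMod q) / 2) * q ^ r ∧
    ∀ (X : Type u) [Group X] [Finite X], MinN p X → (∃ t : ℕ, Nat.card X = p ^ t * q ^ r) →
      ∃ φ : G₀ →* X, Function.Surjective φ ∧ φ.ker ≤ center G₀ := by
  have h0 : 0 < orderOf (p : ZMod q) := (isOfFinOrder_iff_pow_eq_one.2 ⟨q - 1,
    Nat.sub_pos_of_lt hq.out.one_lt, ZMod.pow_card_sub_one_eq_one fun e => hpq
      ((Nat.prime_dvd_prime_iff_eq hq.out hp.out).1 ((ZMod.natCast_eq_zero_iff _ _).1 e)).symm⟩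
    ).orderOf_pos
  have hE := GaloisField.card p _ h0.ne'
  obtain ⟨ζ, hζ⟩ := exists_prime_orderOf_dvd_card' (G := (GaloisField p (orderOf (p : ZMod q)))ˣ) q
    (by
      rw [Nat.card_units, hE, ← ZMod.natCast_eq_zero_iff,
        Nat.cast_sub (Nat.one_le_pow _ _ hp.out.pos)]
      simp [pow_orderOf_eq_one])
  have hζ' := orderOf_units.trans hζ
  obtain ⟨A, _, B, h1, h2, h3⟩ := exists_form hE hζ'
  have : NeZero (q ^ r) := ⟨pow_ne_zero r hq.out.ne_zero⟩
  obtain ⟨c, hc⟩ := IsCyclic.exists_generator (α := Multiplicative (ZMod (q ^ r)))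
  have hc' : orderOf c = q ^ r := by rw [orderOf_eq_card_of_forall_mem_zpowers hc]; simp
  let χ := (Units.coeHom _).comp (monoidHomOfForallMemZpowers hc (g' := ζ)
    (by rw [hζ, hc']; exact dvd_pow_self q (by omega)))
  have hχ : χ c = ζ := congrArg Units.val (monoidHomOfForallMemZpowers_apply_gen hc _)
  have h : ∀ g x z, B (χ g * x) (χ g * z) = B x z := fun g => by
    obtain ⟨i, rfl⟩ := (Submonoid.mem_powers_iff _ _).1 (mem_powers_iff_mem_zpowers.2 (hc g))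
    rw [map_pow, hχ]; exact h1 i
  have S := Gp.sch.{u} (h := h) h3 hc hc' (by
    rw [map_pow, hχ, ← orderOf_dvd_iff_pow_eq_one, hζ']) h2
  have h4 := (Nat.card_congr (Gp.equiv.{u} (h := h))).trans (Nat.card_prod _ _)
  rw [h3, ← orderOf_eq_card_of_forall_mem_zpowers hc, hc'] at h4
  have : Finite (Gp.{u} B χ h) := Nat.finite_of_card_ne_zero (by
    rw [h4]; exact mul_ne_zero (pow_ne_zero _ hp.out.ne_zero) (NeZero.ne _))
  rw [hχ] at S
  refine ⟨_, inferInstance, this, S.minN hE hζ' hpq, h4, fun X _ _ hX ⟨t, ht⟩ => ?_⟩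
  obtain ⟨P, y, π, T⟩ := exists_sch hE hζ' hX ht hpq
  exact univ hE hζ' hpq S h4 T

end Cfsg.Agent.H86.Schm
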