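import Cfsg.Agent.H17.TwA

/-!
# Extension of automorphisms of the sign changes to the Sylow subgroup
-/

set_option autoImplicit false
set_option maxRecDepth 100000
set_option exponentiation.threshold 10000

namespace Cfsg.Agent.H86.TwK2

open Equiv Subgroup Cfsg.Agent.H89.TG Cfsg.Agent.H89.Rec Cfsg.Agent.H17.Ya Cfsg.Agent.H17.Tw

/-- Extension of automorphisms in a split extension with faithful complement. -/
theorem ext_aut {H : Type*} [Group H] [Finite H] (E P S : Subgroup H) [E.Normal] (hES : E ≤ S)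
    (hab : ∀ e ∈ E, MulAut.conjNormal (H := E) e = 1)
    (hP : ∀ p ∈ P, MulAut.conjNormal (H := E) p = 1 → p = 1)
    (hd : ∀ t : H, ∃ e ∈ E, ∃ p ∈ P, t = e * p) (φ : MulAut E)
    (hφ : φ ∈ normalizer ((S.map (MulAut.conjNormal (H := E)) : Subgroup (MulAut E)) :
      Set (MulAut E))) :
    ∃ α : S ≃* S, ∀ u : E, (α ⟨u, hES u.2⟩ : H) = φ u := by
  obtain ⟨c, hc⟩ : ∃ c : H →* MulAut E, c = MulAut.conjNormal := ⟨_, rfl⟩
  have cv : ∀ (g : H) (e : E), (c g e : H) = g * e * g⁻¹ := fun g e => by rw [hc]; rfl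
  rw [← hc] at hab hP hφ
  have inj : ∀ p ∈ P, ∀ q ∈ P, c p = c q → p = q := fun p hp q hq e =>
    (inv_mul_eq_one.1 (hP _ (P.mul_mem (P.inv_mem hp) hq) (by rw [map_mul, map_inv, e]; simp)))
  let R : H → H → Prop := fun t t' => ∃ e : E, ∃ p ∈ P, ∃ q ∈ P, t = e * p ∧ t' = φ e * q ∧
    c q = φ * c p * φ⁻¹
  have fn : ∀ t a b, R t a → R t b → a = b := by
    rintro t a b ⟨e, p, hp, q, hq, h1, rfl, h2⟩ ⟨e', p', hp', q', hq', h3, rfl, h4⟩
    have h5 := congrArg c (h1.symm.trans h3)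
    rw [map_mul, map_mul, hab _ e.2, hab _ e'.2, one_mul, one_mul] at h5
    obtain rfl := inj _ hp _ hp' h5
    obtain rfl : e = e' := Subtype.ext (mul_right_cancel (h1.symm.trans h3))
    rw [inj _ hq _ hq' (h2.trans h4.symm)]
  have ml : ∀ t a t' a', R t a → R t' a' → R (t * t') (a * a') := by
    rintro _ _ _ _ ⟨e, p, hp, q, hq, rfl, rfl, h2⟩ ⟨e', p', hp', q', hq', rfl, rfl, h4⟩
    refine ⟨e * c p e', p * p', P.mul_mem hp hp', q * q', P.mul_mem hq hq', ?_, ?_, ?_⟩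
    · rw [coe_mul, cv]; group
    · have : φ (c p e') = c q (φ e') := by rw [h2]; simp
      rw [map_mul, this, coe_mul, cv]; group
    · rw [map_mul, map_mul, h2, h4]; group
  have ex : ∀ t : S, ∃ a : S, R t a := fun t => by
    obtain ⟨e, he, p, hp, h1⟩ := hd t
    have pS : p ∈ S := (S.mul_mem_cancel_left (hES he)).1 (h1 ▸ t.2)
    obtain ⟨s, hs, h2⟩ := (mem_normalizer_iff.1 hφ _).1 (mem_map_of_mem c pS)
    obtain ⟨e', he', q, hq, h3⟩ := hd s
    have qS : q ∈ S := (S.mul_mem_cancel_left (hES he')).1 (h3 ▸ hs)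
    refine ⟨⟨φ ⟨e, he⟩ * q, S.mul_mem (hES (φ _).2) qS⟩, ⟨e, he⟩, p, hp, q, hq, h1, rfl, ?_⟩
    rw [← h2, h3, map_mul, hab _ he', one_mul]
  choose f hf using ex
  let F : S →* S := MonoidHom.mk' f fun a b =>
    Subtype.ext (fn _ _ _ (hf (a * b)) (ml _ _ _ _ (hf a) (hf b)))
  have hi : Function.Injective F := (injective_iff_map_eq_one F).2 fun t ht => by
    obtain ⟨e, p, hp, q, hq, h1, h2, h3⟩ := hf t
    rw [show f t = 1 from ht, coe_one] at h2
    have h4 := congrArg c h2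
    rw [map_mul, hab _ (φ e).2, one_mul, map_one] at h4
    obtain rfl := hP q hq h4.symm
    obtain rfl := hP p hp (by
      rw [map_one, eq_comm, mul_inv_eq_one, mul_eq_left] at h3; exact h3)
    rw [mul_one] at h1 h2
    have : φ e = 1 := Subtype.ext h2.symm
    rw [EmbeddingLike.map_eq_one_iff] at this
    exact Subtype.ext (by rw [h1, this]; rfl)
  refine ⟨MulEquiv.ofBijective F (Finite.injective_iff_bijective.1 hi), fun u => ?_⟩
  exact fn _ _ _ (hf _) ⟨u, 1, P.one_mem, 1, P.one_mem, (mul_one _).symm, (mul_one _).symm,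
    by simp⟩

/-- The elements preserving the parity of the points. -/
def P1 : Subgroup El where
  carrier := {h | ∀ i : Fin 12, (pm h i).val % 2 = i.val % 2}
  one_mem' := by simp
  mul_mem' := fun {a b} ha hb i => by rw [map_mul, Perm.mul_apply, ha, hb]
  inv_mem' := fun {a} ha i => by rw [← ha, map_inv]; simp

theorem mem_P1 {h : El} : h ∈ P1 ↔ ∀ i < 12, Nat.mod (ap h.val i) 2 = Nat.mod i 2 :=
  ⟨fun H i hi => (congrArg (· % 2) (ap_val h ⟨i, hi⟩)).trans (H ⟨i, hi⟩),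
    fun H i => (congrArg (· % 2) (ap_val h i).symm).trans (H i i.2)⟩

theorem E_sq : ∀ h : El, h ∈ E0 → h * h = 1 := by wdt

theorem P1_cen : ∀ w : El, (∀ i < 12, Nat.mod (ap w.val i) 2 = Nat.mod i 2) → Commute w x12 →
    Commute w x23 → Commute w x34 → Commute w x45 → Commute w x56 → w = 1 := by wdt

theorem k2 : K2Stmt := fun φ hφ => by
  refine ext_aut E0 P1 T E_le_T (fun e he => ?_) (fun p hp h => ?_) (fun t => ?_) φ hφ
  · refine MulEquiv.ext fun u => Subtype.ext ?_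
    change e * u * e⁻¹ = u
    have h1 := E_sq _ (E0.mul_mem he u.2)
    rw [inv_eq_of_mul_eq_one_right (E_sq e he), ← mul_left_inj (u : El), E_sq _ u.2, ← h1]
    group
  · have k : ∀ u ∈ E0, Commute p u := fun u hu =>
      mul_inv_eq_iff_eq_mul.1 (congrArg (fun β : MulAut E0 => (β ⟨u, hu⟩ : El)) h)
    exact P1_cen p (mem_P1.1 hp) (k _ (by kdt)) (k _ (by kdt)) (k _ (by kdt)) (k _ (by kdt))
      (k _ (by kdt))
  · have m : ∀ g : El, (∀ i < 12, Nat.mod (ap g.val i) 2 = Nat.mod i 2) → g ∈ E0 ⊔ P1 :=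
      fun g hg => mem_sup_right (mem_P1.2 hg)
    have : t ∈ E0 ⊔ P1 := mem6 (m _ (by kdt)) (m _ (by kdt)) (m _ (by kdt)) (m _ (by kdt))
      (m _ (by kdt)) (by
        rw [show g6 = x56 * g5 by kdt]
        exact mul_mem (mem_sup_left (by kdt)) (m _ (by kdt))) t
    obtain ⟨e, he, p, hp, h⟩ := mem_sup_of_normal_left.1 this
    exact ⟨e, he, p, hp, h.symm⟩

theorem eqns : True := by
  have := @P1.eq_1
  trivial

end Cfsg.Agent.H86.TwK2
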