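import Mathlib
import Cfsg.Agent.H86.U3G
import Cfsg.Agent.H86.Basic
import Cfsg.Agent.H31.U3Mod
import Cfsg.Agent.H61.PrimeKer

/-! Automorphisms of the Sylow 2-subgroup of `SU₃(2ⁿ)`. -/

set_option autoImplicit false

namespace Cfsg.Agent.H86.U3

open Cfsg Subgroup Dbl

section transport

variable {G H F M : Type*} [Group G] [Group H] [AddCommGroup F] [AddCommGroup M] {qf : M → F}

theorem Spq.transport {z : F → G} {P : Subgroup G} {π : G → M} (h : Spq qf z P π)
    {S : Subgroup H} (e : S ≃* P) : ∃ (z' : F → H) (π' : H → M), Spq qf z' S π' := by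
  classical
  let π' : H → M := fun x => if hx : x ∈ S then π (e ⟨x, hx⟩) else 0
  have hπ : ∀ x : S, π' x = π (e x) := fun x => dif_pos x.2
  refine ⟨fun b => e.symm ⟨z b, h.z_mem b⟩, π', fun b c => ?_, fun b c hbc => ?_,
    fun b => Subtype.prop _, fun b s hs => ?_, fun x hx y hy => ?_, fun b => ?_, fun a => ?_,
    fun s hs h0 => ?_, fun s hs => ?_⟩
  · rw [← coe_mul, ← map_mul]
    exact congrArg (fun x : P => (e.symm x : H)) (Subtype.ext (h.z_add b c))
  · exact h.z_inj (congrArg Subtype.val (e.symm.injective (Subtype.ext hbc)))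
  · have : e.symm ⟨z b, h.z_mem b⟩ * ⟨s, hs⟩ = ⟨s, hs⟩ * e.symm ⟨z b, h.z_mem b⟩ :=
      e.injective (by
        rw [map_mul, map_mul, e.apply_symm_apply]
        exact Subtype.ext (h.z_comm b _ (e ⟨s, hs⟩).2))
    exact congrArg Subtype.val this
  · have := hπ (⟨x, hx⟩ * ⟨y, hy⟩)
    rw [map_mul, coe_mul, coe_mul, h.add _ (e _).2 _ (e _).2, ← hπ, ← hπ] at this
    exact this
  · rw [hπ, e.apply_symm_apply, h.π_z]
  · obtain ⟨s, hs, rfl⟩ := h.surj a
    exact ⟨_, (e.symm ⟨s, hs⟩).2, by rw [hπ, e.apply_symm_apply]⟩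
  · obtain ⟨b, hb⟩ := h.ker _ (e ⟨s, hs⟩).2 ((hπ ⟨s, hs⟩).symm.trans h0)
    exact ⟨b, congrArg Subtype.val (e.eq_symm_apply.2 (Subtype.ext hb) :
      (⟨s, hs⟩ : S) = e.symm ⟨z b, h.z_mem b⟩)⟩
  · have : (⟨s, hs⟩ : S) * ⟨s, hs⟩ = e.symm ⟨z (qf (π (e ⟨s, hs⟩))), h.z_mem _⟩ :=
      e.eq_symm_apply.2 (by rw [map_mul]; exact Subtype.ext (h.sq _ (e _).2))
    rw [← hπ] at this
    exact congrArg Subtype.val this

/-- the squaring map determines the extension -/
theorem Spq.exists_aut [Finite G] {z z' : F → G} {π π' : G → M} (h : Spq qf z ⊤ π)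
    (h' : Spq qf z' ⊤ π') : ∃ φ : MulAut G, ∀ s, π' (φ s) = π s := by
  have m := mem_top (G := G)
  let 𝒞 : Set (Subgroup (G × G)) := {C | (∀ b, (z b, z' b) ∈ C) ∧ (∀ p ∈ C, π p.1 = π' p.2) ∧
    ∀ p ∈ C, p.1 = 1 → p.2 = 1}
  let Δ : Subgroup (G × G) :=
    { carrier := {p | ∃ b, p = (z b, z' b)}
      mul_mem' := by
        rintro _ _ ⟨b, rfl⟩ ⟨c, rfl⟩
        exact ⟨b + c, by rw [h.z_add, h'.z_add]; rfl⟩
      one_mem' := ⟨0, by rw [h.z_zero, h'.z_zero]; rfl⟩
      inv_mem' := by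
        rintro _ ⟨b, rfl⟩
        exact ⟨b, by rw [Prod.inv_mk, h.z_inv, h'.z_inv]⟩ }
  have hΔ : Δ ∈ 𝒞 := ⟨fun b => ⟨b, rfl⟩, by rintro _ ⟨b, rfl⟩; rw [h.π_z, h'.π_z], by
    rintro _ ⟨b, rfl⟩ e
    exact h'.z_eq_one.2 (h.z_eq_one.1 e)⟩
  obtain ⟨C, hC, hmax⟩ := Set.Finite.exists_maximal (Set.toFinite 𝒞) ⟨Δ, hΔ⟩
  obtain ⟨c1, c2, c3⟩ := hC
  have hs : ∀ s, ∃ s', (s, s') ∈ C := fun s => by
    by_contra hn
    push Not at hn
    obtain ⟨s', -, e⟩ := h'.surj (π s)
    have k1 : ∀ c ∈ C, ∃ d ∈ C, c * (s, s') = (s, s') * d := fun c hc =>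
      ⟨c * (z (qf (π c.1 + π s) + qf (π c.1) + qf (π s)),
        z' (qf (π c.1 + π s) + qf (π c.1) + qf (π s))), mul_mem hc (c1 _), Prod.ext
        (by simpa [mul_assoc] using h.comm (m c.1) (m s))
        (by simpa [mul_assoc, e, ← c2 c hc] using h'.comm (m c.2) (m s'))⟩
    have k2 : (s, s') * (s, s') ∈ C := by
      rw [Prod.mk_mul_mk, h.sq s (m s), h'.sq s' (m s'), e]; exact c1 _
    let C' : Subgroup (G × G) :=
      { carrier := {p | p ∈ C ∨ ∃ c ∈ C, p = (s, s') * c}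
        one_mem' := Or.inl C.one_mem
        mul_mem' := by
          rintro p q (hp | ⟨c, hc, rfl⟩) (hq | ⟨d, hd, rfl⟩)
          · exact Or.inl (mul_mem hp hq)
          · obtain ⟨c, hc, e⟩ := k1 p hp
            exact Or.inr ⟨c * d, mul_mem hc hd, by rw [← mul_assoc, e, mul_assoc]⟩
          · exact Or.inr ⟨c * q, mul_mem hc hq, mul_assoc _ _ _⟩
          · obtain ⟨c', hc', e⟩ := k1 c hc
            refine Or.inl ?_
            rw [mul_assoc, ← mul_assoc c, e, ← mul_assoc, ← mul_assoc]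
            exact mul_mem (mul_mem k2 hc') hd
        inv_mem' := by
          rintro p (hp | ⟨c, hc, rfl⟩)
          · exact Or.inl (inv_mem hp)
          · obtain ⟨c', hc', e⟩ := k1 _ (mul_mem (inv_mem hc) (inv_mem k2))
            exact Or.inr ⟨c', hc', by rw [← e]; group⟩ }
    have hC' : C' ∈ 𝒞 := ⟨fun b => Or.inl (c1 b), by
      rintro p (hp | ⟨c, hc, rfl⟩)
      · exact c2 p hp
      · rw [Prod.fst_mul, Prod.snd_mul, h.add _ (m _) _ (m _), h'.add _ (m _) _ (m _), e,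
          c2 c hc], by
      rintro p (hp | ⟨c, hc, rfl⟩) e1
      · exact c3 p hp e1
      · exact absurd (inv_mem hc) (by
          rw [show c⁻¹ = (s, c.2⁻¹) from Prod.ext (eq_inv_of_mul_eq_one_left e1).symm rfl]
          exact hn _)⟩
    exact hn s' (hmax hC' (fun p hp => Or.inl hp) (Or.inr ⟨1, C.one_mem, (mul_one _).symm⟩))
  choose f hf using hs
  have u : ∀ {s a b}, (s, a) ∈ C → (s, b) ∈ C → a = b := fun ha hb =>
    inv_mul_eq_one.1 (c3 _ (mul_mem (inv_mem ha) hb) (inv_mul_cancel _))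
  let φ : G →* G := MonoidHom.mk' f fun a b => u (hf _) (mul_mem (hf a) (hf b))
  have hi : Function.Injective φ := (injective_iff_map_eq_one φ).2 fun s e => by
    have e' : f s = 1 := e
    obtain ⟨b, rfl⟩ := h.ker s (m s) ((c2 _ (hf s)).trans (by rw [e', h'.π_one]))
    exact h.z_eq_one.2 (h'.z_eq_one.1 ((u (c1 b) (hf _)).trans e'))
  exact ⟨MulEquiv.ofBijective φ (Finite.injective_iff_bijective.1 hi), fun s => (c2 _ (hf s)).symm⟩

end transport

universe u v

theorem su_spq {H : Type*} {K : Type v} [Group H] [Field K] [Fintype K] {n : ℕ} (hn : 2 ≤ n)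
    (hK : Fintype.card K = 4 ^ n) (P : Sylow 2 (SU 3 K (2 ^ n))) {S : Subgroup H}
    (e : S ≃* (P : Subgroup (SU 3 K (2 ^ n)))) :
    ∃ (F : Type v) (_ : Field F) (_ : Finite F) (_ : Algebra F K) (Q : QE F K) (z : F → H)
      (π : H → K), Nat.card F = 2 ^ n ∧ Spq Q.N z S π := by
  have : Fact (Nat.Prime 2) := ⟨Nat.prime_two⟩
  have hF := H31.U3B.card_eq hK
  obtain ⟨e0⟩ := (H31.isHerm_hyp3 (H31.isInvol_frobQ hF)).nonempty_sisom_equiv_SU hF (fun _ => rfl)
    (Module.finrank_fin_fun K)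
  obtain ⟨D, hD⟩ := H31.U3B.exists_dat hn hF e0.toMonoidHom fun x hx => by
    have : e0 x = 1 := hx
    rw [map_eq_one_iff _ e0.injective] at this
    rw [this]; exact one_mem _
  rw [MonoidHom.range_eq_top.mpr e0.surjective] at hD
  obtain ⟨a, -, ha⟩ := D.syl.exists_conj (B := P) (hD ▸ le_top) P.isPGroup'
  have hP : ∀ x, x ∈ (P : Subgroup _) ↔ a * x * a⁻¹ ∈ D.S := by
    have := P.is_maximal' (D.syl.isPGroup.comap_of_injective (MulAut.conj a).toMonoidHom
      (MulAut.conj a).injective) ha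
    intro x
    rw [← this]
    rfl
  obtain ⟨z, π, h⟩ := (H31.U3B.spq_conj D.sp a hP).transport e
  exact ⟨_, _, inferInstance, _, D.toQE, z, π, H31.card_fixed hF fun _ => rfl, h⟩

namespace Spq

variable {T F K : Type*} [Group T] [Field F] [Field K] [Algebra F K] {Q : QE F K} {z : F → T}
  {π : T → K} (h : Spq Q.N z ⊤ π) [Finite F] [Finite K]

include h

omit [Finite K] in
theorem aut_z (α : MulAut T) (b : F) : ∃ b', α (z b) = z b' := by
  obtain ⟨s, -, e⟩ := h.z_eq_sq b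
  exact ⟨Q.N (π (α s)), by rw [← e, map_mul, h.sq _ (mem_top _)]⟩

theorem aut_semi (α : MulAut T) :
    ∃ (c : K) (σ : K ≃+* K), c ≠ 0 ∧ ∀ s, π (α s) = c * σ (π s) := by
  have m := mem_top (G := T)
  choose γ hγ using h.aut_z α
  choose s hs1 hs2 using h.surj
  have h1 : ∀ x, π (α x) = π (α (s (π x))) := fun x => by
    obtain ⟨b, hb⟩ := h.eq_mul_z (m x) (m (s (π x))) (hs2 _).symm
    rw [← h.π_mul_z (m (α (s (π x)))) (γ b), ← hγ, ← map_mul, ← hb]
  obtain ⟨c, σ, h0, hc⟩ := Q.semi (fun a => π (α (s a))) (fun a c => by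
    rw [← h.add _ (m _) _ (m _), ← map_mul, h1 (s a * s c), h.add _ (m _) _ (m _), hs2, hs2])
    (fun a e => by
      have := (h.sq_eq_one (m _)).2 e
      rw [← map_mul, map_eq_one_iff _ α.injective, h.sq_eq_one (m _), hs2] at this
      exact this) γ
    (fun a c => h.z_inj (by rw [h.z_add, ← hγ, ← hγ, ← hγ, h.z_add, map_mul]))
    (fun a => h.z_inj (by
      rw [← h.sq _ (m _), ← hγ, ← map_mul, h.sq _ (m _), hs2]))
  exact ⟨c, σ, h0, fun x => (h1 x).trans (hc _)⟩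

theorem aut_exists [Finite T] {c : K} (hc : c ≠ 0) (σ : K ≃+* K) :
    ∃ α : MulAut T, ∀ s, π (α s) = c * σ (π s) := by
  choose τ hτ using Q.map_alg σ
  have i := (algebraMap F K).injective
  have n0 := mt Q.N_eq_zero.1 hc
  have h' : Spq Q.N (fun b => z (Q.N c * τ b)) ⊤ fun s => σ.symm (c⁻¹ * π s) :=
    { z_add := fun a b => by
        rw [← h.z_add, ← mul_add]
        congr 2
        exact i (by rw [← hτ, map_add, map_add, map_add, hτ, hτ])
      z_inj := fun a b e => i (σ.injective (by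
        rw [hτ, hτ, mul_left_cancel₀ n0 (h.z_inj e)]))
      z_mem := fun _ => mem_top _
      z_comm := fun b => h.z_comm _
      add := fun x hx y hy => by rw [h.add x hx y hy, mul_add, map_add]
      π_z := fun b => by rw [h.π_z, mul_zero, map_zero]
      surj := fun a => by
        obtain ⟨s, hs, e⟩ := h.surj (c * σ a)
        exact ⟨s, hs, by rw [e, inv_mul_cancel_left₀ hc, σ.symm_apply_apply]⟩
      ker := fun s hs e => by
        obtain ⟨b, rfl⟩ := h.ker s hs (by simpa [hc] using e)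
        obtain ⟨b', hb⟩ := Q.map_alg σ.symm ((Q.N c)⁻¹ * b)
        refine ⟨b', congrArg z ?_⟩
        rw [← inv_mul_eq_iff_eq_mul₀ n0]
        exact i (by rw [← hτ, ← hb, σ.apply_symm_apply])
      sq := fun s hs => by
        rw [h.sq s hs]
        refine congrArg z (i ?_)
        rw [map_mul, ← hτ, Q.N_eq, Q.N_eq, Q.N_eq, map_mul, Q.map_cj, σ.apply_symm_apply, map_mul,
          map_inv₀]
        have : Q.cj c ≠ 0 := (map_ne_zero _).2 hc
        field_simp }
  obtain ⟨α, hα⟩ := h.exists_aut h'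
  exact ⟨α, fun s => by rw [← hα s, σ.apply_symm_apply, mul_inv_cancel_left₀ hc]⟩

omit [Finite K] in
theorem aut_triv_z {α : MulAut T} (hα : ∀ s, π (α s) = π s) (b : F) : α (z b) = z b := by
  obtain ⟨a, rfl⟩ := Q.N_surj b
  obtain ⟨s, hs, rfl⟩ := h.surj a
  rw [← h.sq s hs, map_mul, h.sq _ (mem_top _), hα, h.sq s hs]

omit [Finite K] in
theorem aut_triv_sq {α : MulAut T} (hα : ∀ s, π (α s) = π s) : α * α = 1 := by
  ext s
  obtain ⟨b, hb⟩ := h.eq_mul_z (mem_top (α s)) (mem_top s) (hα s)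
  rw [MulAut.mul_apply, hb, map_mul, hb, h.aut_triv_z hα, mul_assoc, h.z_sq, mul_one,
    MulAut.one_apply]

omit [Finite F] [Finite K] in
theorem aut_pow {α : MulAut T} {c : K} (hα : ∀ s, π (α s) = c * π s) (n : ℕ) (s : T) :
    π ((α ^ n) s) = c ^ n * π s := by
  induction n with
  | zero => simp
  | succ n ih => rw [pow_succ', MulAut.mul_apply, hα, ih, pow_succ', mul_assoc]

omit [Finite F] [Finite K] in
theorem aut_lin {α : MulAut T} {c : K} (hα : ∀ s, π (α s) = c * π s) {n : ℕ}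
    (hn : α ^ 2 ^ n = 1) : c = 1 := by
  have := Q.charK
  obtain ⟨s, -, e⟩ := h.surj 1
  have h1 := h.aut_pow hα (2 ^ n) s
  rw [hn, MulAut.one_apply, e, mul_one] at h1
  have h2 : (c - 1) ^ 2 ^ n = 0 := by rw [sub_pow_char_pow, ← h1, one_pow, sub_self]
  exact sub_eq_zero.1 (pow_eq_zero_iff (by positivity) |>.1 h2)

/-- the automorphisms trivial on the central quotient -/
def Kr (π : T → K) : Subgroup (MulAut T) where
  carrier := {α | ∀ s, π (α s) = π s}
  mul_mem' ha hb s := by rw [MulAut.mul_apply, ha, hb]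
  one_mem' _ := rfl
  inv_mem' {α} ha s := by rw [← ha, MulAut.apply_inv_self]

theorem Kr_normal : (Kr π).Normal := ⟨fun α hα β s => by
  obtain ⟨c, σ, -, e⟩ := h.aut_semi β
  rw [MulAut.mul_apply, MulAut.mul_apply, e, hα, ← e, MulAut.apply_inv_self]⟩

theorem pCore_aut [Finite T] : pCore 2 (MulAut T) = Kr π := by
  refine le_antisymm (fun α hα => ?_) (le_pCore h.Kr_normal
    (isPGroup_of_pow fun α hα => ⟨1, by rw [pow_one, pow_two, h.aut_triv_sq hα]⟩))
  have hn : (pCore 2 (MulAut T)).Normal := sSup_normal _ fun _ h => h.1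
  have hp : ∀ β ∈ pCore 2 (MulAut T), ∃ n, β ^ 2 ^ n = 1 := fun β hβ =>
    (pCore_isPGroup 2 _ ⟨β, hβ⟩).imp fun _ e => congrArg Subtype.val e
  obtain ⟨c, σ, h0, e⟩ := h.aut_semi α
  have h1 : ∀ d, σ d = d := fun d => by
    by_cases hd : d = 0
    · rw [hd, map_zero]
    obtain ⟨μ, hμ⟩ := h.aut_exists hd (RingEquiv.refl K)
    obtain ⟨n, hn⟩ := hp _ (mul_mem hα (hn.conj_mem _ (inv_mem hα) μ⁻¹))
    have := h.aut_lin (c := (σ d)⁻¹ * d) (fun s => by
      obtain ⟨s, rfl⟩ := μ.symm.surjective s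
      obtain ⟨s, rfl⟩ := α.surjective s
      have h2 := hμ (μ⁻¹ s)
      have h3 := hμ (μ.symm (α s))
      simp only [MulAut.apply_inv_self, RingEquiv.refl_apply, MulEquiv.apply_symm_apply] at h2 h3
      have h4 : (α * (μ⁻¹ * α⁻¹ * μ⁻¹⁻¹)) (μ.symm (α s)) = α (μ⁻¹ s) := by
        simp [MulAut.mul_apply]
      rw [h4, e, mul_assoc, ← h3, e, h2, map_mul]
      have : σ d ≠ 0 := (map_ne_zero _).2 hd
      field_simp) hn
    exact (inv_mul_eq_one₀ ((map_ne_zero _).2 hd)).1 this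
  obtain ⟨n, hn⟩ := hp α hα
  have := h.aut_lin (c := c) (fun s => by rw [e, h1]) hn
  exact fun s => by rw [e, h1, this, one_mul]

omit [Finite K] in
theorem card_Kr [Finite T] : Nat.card (Kr π) = Nat.card (K →+ F) := by
  have m := mem_top (G := T)
  have hi : ∀ f : K →+ F, Function.Injective (MonoidHom.mk' (fun s => s * z (f (π s))) fun a b => by
      rw [h.add a (m a) b (m b), map_add, h.z_add, mul_assoc, mul_assoc, ← mul_assoc b,
        ← h.z_comm _ b (m b), mul_assoc]) := fun f => (injective_iff_map_eq_one _).2 fun s e => by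
    have e' : s * z (f (π s)) = 1 := e
    have h1 := congrArg π e'
    rw [h.π_mul_z (m s), h.π_one] at h1
    rwa [h1, map_zero, h.z_zero, mul_one] at e'
  refine (Nat.card_eq_of_bijective (fun f : K →+ F => (⟨MulEquiv.ofBijective _
    (Finite.injective_iff_bijective.1 (hi f)), fun s => h.π_mul_z (m s) _⟩ : Kr π))
    ⟨fun f g e => AddMonoidHom.ext fun a => ?_, fun α => ?_⟩).symm
  · obtain ⟨s, -, rfl⟩ := h.surj a
    exact h.z_inj (mul_left_cancel (DFunLike.congr_fun (congrArg Subtype.val e) s))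
  · choose s hs1 hs2 using h.surj
    choose g hg using fun x => h.eq_mul_z (m (α.1 x)) (m x) (α.2 x)
    have h1 : ∀ x y, g (x * y) = g x + g y := fun x y => h.z_inj (mul_left_cancel (a := x * y) (by
      rw [← hg, map_mul, hg, hg, h.z_add, mul_assoc, mul_assoc, ← mul_assoc (z _),
        h.z_comm _ y (m y), mul_assoc]))
    have h2 : ∀ x, g (s (π x)) = g x := fun x => by
      obtain ⟨b, hb⟩ := h.eq_mul_z (m x) (m (s (π x))) (hs2 _).symm
      have h3 : g (z b) = 0 := h.z_eq_one.1 (mul_eq_left.1 ((hg _).symm.trans (h.aut_triv_z α.2 b)))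
      conv_rhs => rw [hb, h1, h3, add_zero]
    refine ⟨AddMonoidHom.mk' (fun a => g (s a)) fun a c => ?_, Subtype.ext (MulEquiv.ext fun x => ?_)⟩
    · rw [← h1, ← h2 (s a * s c), h.add _ (m _) _ (m _), hs2, hs2]
    · change x * z (g (s (π x))) = _
      rw [h2, hg]

theorem index_Kr [Finite T] : (Kr π).index = Nat.card (Kˣ × (K ≃+* K)) := by
  choose c σ h0 e using h.aut_semi
  have u : ∀ {c c' : K} {σ σ' : K ≃+* K}, c ≠ 0 → (∀ s, c * σ (π s) = c' * σ' (π s)) →
      c = c' ∧ σ = σ' := fun {c c' σ σ'} h0 e => by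
    obtain ⟨s, -, hs⟩ := h.surj 1
    have h1 : c = c' := by simpa [hs] using e s
    refine ⟨h1, RingEquiv.ext fun a => ?_⟩
    obtain ⟨s, -, rfl⟩ := h.surj a
    exact mul_left_cancel₀ h0 (by rw [e, h1])
  have hn := h.Kr_normal
  refine Nat.card_eq_of_bijective (fun x : MulAut T ⧸ Kr π =>
    (Units.mk0 (c x.out) (h0 _), σ x.out)) ⟨fun x y exy => ?_, fun p => ?_⟩
  · rw [← x.out_eq', ← y.out_eq', QuotientGroup.eq]
    have h1 : c x.out = c y.out := congrArg (fun p => (p.1 : K)) exy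
    have h2 : σ x.out = σ y.out := congrArg Prod.snd exy
    refine hn.mem_comm (a := y.out) fun s => ?_
    rw [MulAut.mul_apply, e, ← h1, ← h2, ← e, MulAut.apply_inv_self]
  · obtain ⟨α, hα⟩ := h.aut_exists p.1.ne_zero p.2
    obtain ⟨k, hk⟩ := QuotientGroup.mk_out_eq_mul (Kr π) α
    obtain ⟨h1, h2⟩ := u (h0 (α : MulAut T ⧸ Kr π).out) (σ := σ (α : MulAut T ⧸ Kr π).out)
      (c' := p.1) (σ' := p.2) fun s => by rw [← e, hk, MulAut.mul_apply, hα, k.2 s]
    exact ⟨α, Prod.ext (Units.ext h1) h2⟩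

end Spq

theorem card_addHom {F K : Type*} [Field F] [Field K] [Finite F] [Finite K] [CharP F 2] [CharP K 2]
    {a b : ℕ} (hF : Nat.card F = 2 ^ a) (hK : Nat.card K = 2 ^ b) :
    Nat.card (K →+ F) = 2 ^ (b * a) := by
  have : Fact (Nat.Prime 2) := ⟨Nat.prime_two⟩
  let _ := ZMod.algebra F 2
  let _ := ZMod.algebra K 2
  have : Finite (K →ₗ[ZMod 2] F) := Finite.of_injective _ DFunLike.coe_injective
  rw [Nat.card_congr (AddMonoidHom.toZModLinearMapEquiv 2).toEquiv,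
    Module.natCard_eq_pow_finrank (K := ZMod 2), Module.finrank_linearMap, Nat.card_zmod]
  rw [Module.natCard_eq_pow_finrank (K := ZMod 2), Nat.card_zmod] at hF hK
  rw [Nat.pow_right_injective le_rfl hF, Nat.pow_right_injective le_rfl hK]

end Cfsg.Agent.H86.U3
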