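import Cfsg.Agent.H99.C1Defs

/-!
# CO1F-X40, the evaluator: `6 × 6` matrices over `ZMod 3` coded by natural numbers
-/

set_option autoImplicit false

namespace Cfsg.Agent.H86.X40

open Cfsg.Agent.H99.C1 Matrix

/-- rows -/
structure R6 : Type where
  (a b c d e f : ℕ)

/-- matrices -/
structure M6 : Type where
  (a b c d e f : R6)

/-- row times matrix -/
def comb (r : R6) (B : M6) : R6 :=
  ⟨Nat.mod (Nat.add (Nat.add (Nat.add (Nat.add (Nat.add (Nat.mul r.a B.a.a) (Nat.mul r.b B.b.a)) (Nat.mul r.c B.c.a)) (Nat.mul r.d B.d.a)) (Nat.mul r.e B.e.a)) (Nat.mul r.f B.f.a)) 3,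
    Nat.mod (Nat.add (Nat.add (Nat.add (Nat.add (Nat.add (Nat.mul r.a B.a.b) (Nat.mul r.b B.b.b)) (Nat.mul r.c B.c.b)) (Nat.mul r.d B.d.b)) (Nat.mul r.e B.e.b)) (Nat.mul r.f B.f.b)) 3,
    Nat.mod (Nat.add (Nat.add (Nat.add (Nat.add (Nat.add (Nat.mul r.a B.a.c) (Nat.mul r.b B.b.c)) (Nat.mul r.c B.c.c)) (Nat.mul r.d B.d.c)) (Nat.mul r.e B.e.c)) (Nat.mul r.f B.f.c)) 3,
    Nat.mod (Nat.add (Nat.add (Nat.add (Nat.add (Nat.add (Nat.mul r.a B.a.d) (Nat.mul r.b B.b.d)) (Nat.mul r.c B.c.d)) (Nat.mul r.d B.d.d)) (Nat.mul r.e B.e.d)) (Nat.mul r.f B.f.d)) 3,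
    Nat.mod (Nat.add (Nat.add (Nat.add (Nat.add (Nat.add (Nat.mul r.a B.a.e) (Nat.mul r.b B.b.e)) (Nat.mul r.c B.c.e)) (Nat.mul r.d B.d.e)) (Nat.mul r.e B.e.e)) (Nat.mul r.f B.f.e)) 3,
    Nat.mod (Nat.add (Nat.add (Nat.add (Nat.add (Nat.add (Nat.mul r.a B.a.f) (Nat.mul r.b B.b.f)) (Nat.mul r.c B.c.f)) (Nat.mul r.d B.d.f)) (Nat.mul r.e B.e.f)) (Nat.mul r.f B.f.f)) 3⟩

/-- the product -/
def mul (A B : M6) : M6 :=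
  ⟨comb A.a B, comb A.b B, comb A.c B, comb A.d B, comb A.e B, comb A.f B⟩

/-- equality modulo three -/
def eq3 (x y : ℕ) : Bool := Nat.beq (Nat.mod x 3) (Nat.mod y 3)

def eqR (r s : R6) : Bool :=
  eq3 r.a s.a && (eq3 r.b s.b && (eq3 r.c s.c && (eq3 r.d s.d && (eq3 r.e s.e && eq3 r.f s.f))))

def eqM (r s : M6) : Bool :=
  eqR r.a s.a && (eqR r.b s.b && (eqR r.c s.c && (eqR r.d s.d && (eqR r.e s.e && eqR r.f s.f))))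

/-- subtract the identity -/
def sub1 (A : M6) : M6 :=
  ⟨{ A.a with a := A.a.a + 2 }, { A.b with b := A.b.b + 2 }, { A.c with c := A.c.c + 2 },
    { A.d with d := A.d.d + 2 }, { A.e with e := A.e.e + 2 }, { A.f with f := A.f.f + 2 }⟩

def toV (r : R6) : Fin 6 → K := ![r.a, r.b, r.c, r.d, r.e, r.f]

def toM (A : M6) : Matrix (Fin 6) (Fin 6) K :=
  of ![toV A.a, toV A.b, toV A.c, toV A.d, toV A.e, toV A.f]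

def oN : M6 := ⟨⟨1, 0, 0, 0, 0, 0⟩, ⟨0, 1, 0, 0, 0, 0⟩, ⟨0, 0, 1, 0, 0, 0⟩, ⟨0, 0, 0, 1, 0, 0⟩, ⟨0, 0, 0, 0, 1, 0⟩, ⟨0, 0, 0, 0, 0, 1⟩⟩
def zN : M6 := ⟨⟨0, 0, 0, 0, 0, 0⟩, ⟨0, 0, 0, 0, 0, 0⟩, ⟨0, 0, 0, 0, 0, 0⟩, ⟨0, 0, 0, 0, 0, 0⟩, ⟨0, 0, 0, 0, 0, 0⟩, ⟨0, 0, 0, 0, 0, 0⟩⟩
def cN : M6 := ⟨⟨1, 0, 2, 0, 0, 1⟩, ⟨0, 1, 0, 0, 1, 0⟩, ⟨0, 0, 1, 0, 0, 1⟩, ⟨0, 0, 0, 1, 0, 0⟩, ⟨0, 0, 0, 0, 1, 0⟩, ⟨0, 0, 0, 0, 0, 1⟩⟩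
def dN : M6 := ⟨⟨1, 0, 1, 0, 0, 1⟩, ⟨0, 1, 0, 0, 2, 0⟩, ⟨0, 0, 1, 0, 0, 2⟩, ⟨0, 0, 0, 1, 0, 0⟩, ⟨0, 0, 0, 0, 1, 0⟩, ⟨0, 0, 0, 0, 0, 1⟩⟩
def bN : M6 := ⟨⟨1, 0, 0, 0, 0, 0⟩, ⟨0, 1, 1, 0, 0, 0⟩, ⟨0, 0, 1, 0, 0, 0⟩, ⟨0, 0, 0, 1, 2, 1⟩, ⟨0, 0, 0, 0, 1, 1⟩, ⟨0, 0, 0, 0, 0, 1⟩⟩
def tN : M6 := ⟨⟨1, 0, 0, 0, 0, 0⟩, ⟨0, 1, 0, 0, 0, 0⟩, ⟨0, 0, 2, 0, 0, 0⟩, ⟨0, 0, 0, 1, 0, 0⟩, ⟨0, 0, 0, 0, 2, 0⟩, ⟨0, 0, 0, 0, 0, 1⟩⟩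
def pN : M6 := ⟨⟨0, 0, 1, 1, 2, 2⟩, ⟨0, 0, 2, 1, 0, 0⟩, ⟨0, 1, 2, 0, 1, 0⟩, ⟨0, 0, 1, 0, 2, 0⟩, ⟨0, 0, 1, 0, 0, 0⟩, ⟨1, 0, 0, 0, 0, 0⟩⟩
def qN : M6 := ⟨⟨0, 0, 0, 0, 0, 1⟩, ⟨0, 0, 1, 1, 0, 0⟩, ⟨0, 0, 0, 0, 1, 0⟩, ⟨0, 1, 0, 0, 1, 0⟩, ⟨0, 0, 0, 2, 1, 0⟩, ⟨2, 1, 0, 1, 1, 0⟩⟩
def m0N : M6 := ⟨⟨2, 0, 1, 0, 0, 2⟩, ⟨0, 0, 0, 0, 2, 0⟩, ⟨2, 0, 2, 2, 0, 1⟩, ⟨1, 0, 2, 2, 0, 2⟩, ⟨0, 1, 0, 0, 2, 0⟩, ⟨0, 0, 1, 1, 0, 1⟩⟩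
def n0N : M6 := ⟨⟨0, 0, 0, 1, 0, 1⟩, ⟨0, 2, 0, 0, 1, 0⟩, ⟨1, 0, 2, 0, 0, 2⟩, ⟨2, 0, 2, 1, 0, 1⟩, ⟨0, 2, 0, 0, 0, 0⟩, ⟨0, 0, 2, 2, 0, 1⟩⟩
def m1N : M6 := ⟨⟨2, 0, 2, 1, 0, 1⟩, ⟨0, 0, 0, 0, 2, 0⟩, ⟨2, 0, 2, 2, 0, 2⟩, ⟨1, 0, 2, 2, 0, 1⟩, ⟨0, 1, 0, 0, 2, 0⟩, ⟨0, 0, 1, 1, 0, 1⟩⟩
def n1N : M6 := ⟨⟨0, 0, 2, 0, 0, 2⟩, ⟨0, 2, 0, 0, 1, 0⟩, ⟨1, 0, 2, 0, 0, 1⟩, ⟨2, 0, 2, 1, 0, 2⟩, ⟨0, 2, 0, 0, 0, 0⟩, ⟨0, 0, 2, 2, 0, 1⟩⟩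
def m2N : M6 := ⟨⟨2, 0, 0, 2, 0, 0⟩, ⟨0, 0, 0, 0, 2, 0⟩, ⟨2, 0, 2, 2, 0, 0⟩, ⟨1, 0, 2, 2, 0, 0⟩, ⟨0, 1, 0, 0, 2, 0⟩, ⟨0, 0, 1, 1, 0, 1⟩⟩
def n2N : M6 := ⟨⟨0, 0, 1, 2, 0, 0⟩, ⟨0, 2, 0, 0, 1, 0⟩, ⟨1, 0, 2, 0, 0, 0⟩, ⟨2, 0, 2, 1, 0, 0⟩, ⟨0, 2, 0, 0, 0, 0⟩, ⟨0, 0, 2, 2, 0, 1⟩⟩

def k3 (z z3 : M6) : Bool :=
  cond (eqM z3 oN) (!eqM z oN && eqM (mul (sub1 z) (sub1 z)) zN) (eqM (mul (mul z3 z3) z3) oN)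

def k2 (z : M6) : Bool := k3 z (mul (mul z z) z)

def k1 (z : M6) : Bool := k2 (mul z z)

/-- the fourth power has order nine or is quadratic -/
def kill (w : M6) : Bool := k1 (mul w w)

def g1 (z : M6) : Bool :=
  eqM z m0N || (eqM z m1N || (eqM z m2N || (eqM z n0N || (eqM z n1N || eqM z n2N))))

def ok (y : M6) : Bool :=
  kill (mul cN y) || (kill (mul dN y) || (kill (mul bN y) || (kill y || (kill (mul tN y) ||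
    (kill (mul cN (mul tN y)) || (kill (mul bN (mul tN y)) || (eqM y cN || (eqM y dN ||
      (g1 y || (g1 (mul (mul cN y) dN) || g1 (mul (mul dN y) cN)))))))))))

/-- the centraliser of the shift -/
def ty (a b c d e f g h i j k l : ℕ) : M6 :=
  ⟨⟨a + 1, b, 0, 0, 0, 0⟩, ⟨c, d + 1, 0, 0, 0, 0⟩, ⟨e, f, a + 1, b, 0, 0⟩, ⟨g, h, c, d + 1, 0, 0⟩, ⟨i, j, e, f, a + 1, b⟩, ⟨k, l, g, h, c, d + 1⟩⟩

def z3 (n : ℕ) : Bool := Nat.beq (Nat.mod n 3) 0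

def f1 (a b c d e f g h : ℕ) : Bool :=
  z3 (e * a + f * c + a * e + b * g) && (z3 (e * b + f * d + a * f + b * h) &&
    (z3 (g * a + h * c + c * e + d * g) && z3 (g * b + h * d + c * f + d * h)))

def f2 (a b c d e f g h i j k l : ℕ) : Bool :=
  z3 (i * a * a + i * b * c + j * c * a + j * d * c + e * e * a + e * f * c + e * a * e + e * b * g + f * g * a + f * h * c + f * c * e + f * d * g + a * i * a + a * j * c + a * e * e + a * f * g + a * a * i + a * b * k + b * k * a + b * l * c + b * g * e + b * h * g + b * c * i + b * d * k) &&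
  (z3 (i * a * b + i * b * d + j * c * b + j * d * d + e * e * b + e * f * d + e * a * f + e * b * h + f * g * b + f * h * d + f * c * f + f * d * h + a * i * b + a * j * d + a * e * f + a * f * h + a * a * j + a * b * l + b * k * b + b * l * d + b * g * f + b * h * h + b * c * j + b * d * l) &&
  (z3 (k * a * a + k * b * c + l * c * a + l * d * c + g * e * a + g * f * c + g * a * e + g * b * g + h * g * a + h * h * c + h * c * e + h * d * g + c * i * a + c * j * c + c * e * e + c * f * g + c * a * i + c * b * k + d * k * a + d * l * c + d * g * e + d * h * g + d * c * i + d * d * k) &&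
  z3 (k * a * b + k * b * d + l * c * b + l * d * d + g * e * b + g * f * d + g * a * f + g * b * h + h * g * b + h * h * d + h * c * f + h * d * h + c * i * b + c * j * d + c * e * f + c * f * h + c * a * j + c * b * l + d * k * b + d * l * d + d * g * f + d * h * h + d * c * j + d * d * l)))

def A3 (p : ℕ → Bool) : Bool := p 0 && (p 1 && p 2)

def chk (a b c d : ℕ) : Bool :=
  A3 fun e => A3 fun f => A3 fun g => A3 fun h => !f1 a b c d e f g h ||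
    A3 fun i => A3 fun j => A3 fun k => A3 fun l => !f2 a b c d e f g h i j k l ||
      ok (mul (mul pN (ty a b c d e f g h i j k l)) qN)

theorem chk0 : chk 0 0 1 0 = true := by decide +kernel
theorem chk1 : chk 0 0 2 0 = true := by decide +kernel
theorem chk2 : chk 0 1 0 0 = true := by decide +kernel
theorem chk3 : chk 0 2 0 0 = true := by decide +kernel
theorem chk4 : chk 1 1 2 2 = true := by decide +kernel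
theorem chk5 : chk 1 2 1 2 = true := by decide +kernel
theorem chk6 : chk 2 1 2 1 = true := by decide +kernel
theorem chk7 : chk 2 2 1 1 = true := by decide +kernel

theorem eqns : True := by
  have := @comb.eq_1
  have := @mul.eq_1
  have := @eq3.eq_1
  have := @eqR.eq_1
  have := @eqM.eq_1
  have := @sub1.eq_1
  have := @toV.eq_1
  have := @toM.eq_1
  have := @oN.eq_1
  have := @zN.eq_1
  have := @cN.eq_1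
  have := @dN.eq_1
  have := @bN.eq_1
  have := @tN.eq_1
  have := @pN.eq_1
  have := @qN.eq_1
  have := @m0N.eq_1
  have := @n0N.eq_1
  have := @m1N.eq_1
  have := @n1N.eq_1
  have := @m2N.eq_1
  have := @n2N.eq_1
  have := @k3.eq_1
  have := @k2.eq_1
  have := @k1.eq_1
  have := @kill.eq_1
  have := @g1.eq_1
  have := @ok.eq_1
  have := @ty.eq_1
  have := @z3.eq_1
  have := @f1.eq_1
  have := @f2.eq_1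
  have := @A3.eq_1
  have := @chk.eq_1
  trivial

end Cfsg.Agent.H86.X40
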