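import Cfsg.Agent.H86.XMod
import Cfsg.Agent.H60.LTB
import Cfsg.Agent.H4.HSEmb
import Cfsg.Agent.H87.Transfer
import Cfsg.Agent.S1777

/-! Type X: `S` is a Sylow subgroup; the Higman–Sims ending. -/

set_option autoImplicit false
set_option maxRecDepth 100000

namespace Cfsg.Agent.H86.XM

open Subgroup H96 H85 H93.LT PP
open H60.LT (isConj_cn)

/-- conjugating elements -/
def tab (i : Fin 4) : ℕ := ![0x9000000003000000001000005000000001400000000000000000000000000000000000000000004200000000000000000006000000000000000043000a05a0000000002200000000000000000000000540000000000000000000000000100000000004200000000800000480800000000000000000000000000400000000000000000900000002300000500200000000100000000b00000000d00000020000000180000000000000000000000000000000000000000000400000000000000000000e00000000000000000b000a4580000000002000000000000000000000000060000000000c000000000000001c0000000000a00000004000000c00c00000000000000000000000000c00000000000000004100000002100000540000000000500000000700000000600000520000000160000000000000000000000000000000000000000000100000000000000000000200000000000000004b000000800000300004000000000000000000000000400000000007000000000000001e0000000004a000000048000001c0200000000000000000000000000800000000000000004900034000500060880000000000d00000000f000000005000000000000001a0000000000000000000000000000000000000000000120000000000000000000a000000000000000003000000a00000200000000000000000000000000005600000000004000000000000001200000000002000000000000001800000000000000000000000000000000000000000000001000240001000000000,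
  0xd00000000300000000d00000000000000000000000000000000000000000000000000000000000000000000000000000000600000000000000000b000a8000000000002200000000000000000000000000000000000000000000000000000000000000a00000000800004000800000000000000000000000000400000000000000004900000000100000000200000000500000000b00000000100000000000000000000000000000000000000000000000000000000000000000000000000000000e000000000000000043000a0000000000002000000000000000000000000000000000000300000000000000000000000004200000004000064000c00000000000000000000000000c000000000000000001000000005000000000000000001000000007000000005000000000000000000000000000000000000000000000004840000000ac000000000000000000000200000000000000000300000000000030000400000000000000000000000000000000000800000000000000000000000000200000004800000000200024000000000000000000000800000000000000000900080002100060000000000000900000000f000000006000000000000000000000000000000000000000000000000840000000a4000000000000000000000a00000000000000004b00000000000020000000000000000000000000000000000000000400000000000000000000000004a000000000000000000000340000000000000000000000000000000000000041004800023000000000,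
  0x900000000700000000100000000000000000000000000000000000000000000000000000000000000000000000000000000600000000000000000300004000000000002200000000000000000000000000000000000000000000000000000000000004200000000800000000800000000000000000000000000400000000000000000900000000500000000200000000100000000f00000000d00000000000000000000000000000000000000000000000000000000000000000000000000000000e00000000000000004b00064000000000002000000000000000000000000000000000000300000000000000000000000000a00000004000000000c00000000000000000000000000c00000000000000004100000000100000000000000000500000000300000000600000000000000000000000000000000000000000000000000000000000000000000000000000000200000000000000000b00000000000030000400000000000000000000000000000000000800000000000000000000000004a00000004800000000200000000000000000000000000800000000000000004900480002300060000000000000d00000000b00000000500000000000000000000000000000000000000000000000000000000000000000000000000000000a000000000000000043000000000000200000000000000000000000000000000000000004000000000000000000000000002000000000000000000000000000000000000000000000000000000000000001000800021000000000,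
  0xd00000000700000000d000005000000001a0000000000000000000000000000000000000000000100000000000000000000600000000000000004b000a81e00000000022000000000000000000000000a00000000000000000000000005e0000000000a000000008000ac180800000000000000000000000000400000000000000004900000002100000500200000000500000000f00000000100000020000000040000000000000000000000000000000000000000000120000000000000000000e000000000000000003000a01c0000000002000000000000000000000000140000000000c000000000000000c00000000042000000040000a45c0c00000000000000000000000000c000000000000000001000000023000001400000000001000000003000000005000005200000001800000000000000000000000000000000340000000040600000000000000000002000000000000000043000000a00000300004000000000000000000000001600000000007000000000000000e0000000000200000004800000840200084000000000000000000000800000000000000000900080000100060880000000000900000000b00000000600000000000000060000000000000000000000000000000024000000064040000000000000000000a00000000000000000b000000800000200000000000000000000000000000800000000004000000000000005c0000000004a000000000000000c00004840000000000000000000000000000000000000041004800005000000000]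 i

/-- the representative of the class of an involution -/
noncomputable def rep (i : Fin 4) (x : (T i).G) : (T i).G := cn x ((T i).el (look 9 511 (tab i) x.val))

/-- `t ^ n` -/
noncomputable def u0 (i : Fin 4) : (T i).G := gt i * gf i * gz i * gb i

theorem rep_z : ∀ (i : Fin 4) (x : (T i).G), x * x = 1 → x * gz i = gz i * x → rep i x = u0 i ∨
    rep i x = ga i ∨ rep i x ∈ [1, gf i, gz i, gb i, gt i, gt i * gy i * gY i, gc i,
      gc i * gt i * gb i * ga i] := by decide +kernel

theorem cc_z : ∀ (i : Fin 4), (Finset.univ.filter fun y => y * u0 i = u0 i * y).card = 64 ∧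
    ∀ x ∈ [1, gf i, gz i, gb i, gt i, gt i * gy i * gY i, gc i, gc i * gt i * gb i * ga i],
      x * x = 1 → (Finset.univ.filter fun y => y * x = x * y).card ≠ 64 := by decide +kernel

theorem z0 : ∀ (i : Fin 4) (y : (T i).G), gf i * y = y * gf i ∧
    ((gz i)⁻¹ * y⁻¹ * gz i * y = 1 ∨ (gz i)⁻¹ * y⁻¹ * gz i * y = gf i) := by decide +kernel

theorem z2 : ∀ (i : Fin 4) (w : (T i).G), w * w = 1 → (∀ y ∈ [gc i, gm i, gb i],
    ∀ v ∈ [gc i, gm i, gb i], w⁻¹ * y⁻¹ * w * y * v = v * (w⁻¹ * y⁻¹ * w * y)) →
    u0 i * w = w * u0 i := by decide +kernel

theorem sq_T : ∀ i : Fin 4, u0 i * u0 i = 1 ∧ gz i * gz i = 1 ∧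
    (gc i * gc i = gz i * gf i * gt i * gy i * gY i → i = 1) := by decide +kernel

universe u

variable {G : Type u} [Group G]

/-- the `2`-subgroups of the centraliser are small -/
def Sm (u : G) : Prop := ∀ R : Subgroup G, IsPGroup 2 R → R ≤ centralizer {u} → Nat.card R ≤ 64

theorem Sm.conj {u v : G} (h : Sm u) (c : IsConj u v) : Sm v := by
  obtain ⟨g, rfl⟩ := isConj_iff.1 c
  intro R h1 h2
  rw [← card_cj g⁻¹]
  refine h _ (isPGroup_cj _ h1) fun x hx => mem_centralizer_singleton_iff.2 ?_
  have := mem_centralizer_singleton_iff.1 (h2 (mem_cj.1 hx))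
  simp only [← mul_assoc, inv_inv, inv_mul_cancel_right, mul_left_inj] at this
  simpa [mul_assoc] using this

theorem map_cent {M : Type*} [Group M] (φ : M →* G) (x : M) :
    (centralizer {x}).map φ ≤ centralizer {φ x} := by
  rintro _ ⟨y, hy, rfl⟩
  rw [mem_centralizer_singleton_iff, ← map_mul, mem_centralizer_singleton_iff.1 hy, map_mul]

theorem sm_t [Finite G] {h : XS G} (K : Kit h.toHyp) {u : G} (c : IsConj h.t u) : Sm u :=
  fun R h1 h2 => by
    obtain ⟨g, -, hg⟩ := K.into u R c h1 h2
    rw [← (K.cT.resolve_left fun e => h.e1 e.1).2.2, ← card_cj g⁻¹]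
    exact card_le_of_le fun x hx => by simpa [cn, mul_assoc] using hg _ (mem_cj.1 hx)

theorem Md.rep {h : XS G} {i : Fin 4} {φ : (T i).G →* G} (x : (T i).G) :
    IsConj (φ x) (φ (rep i x)) := φ.map_isConj (isConj_cn _ _)

theorem Md.u0 {h : XS G} {i : Fin 4} {φ : (T i).G →* G} (M : Md h i φ) :
    IsConj h.t (φ (u0 i)) := by
  rw [XM.u0, map_mul, map_mul, map_mul, M.t, M.f, M.z, M.b, ← h.tn]
  exact isConj_cn _ _

theorem xsyl (hk : KitStmt.{u}) : XSylStmt.{u} := by
  intro G _ _ h
  have K := hk G h.toHyp
  obtain ⟨i, φ, M⟩ := model h
  have pS : IsPGroup 2 h.S :=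
    M.rng ▸ Pc.isPGroup.of_surjective φ.rangeRestrict φ.rangeRestrict_surjective
  obtain ⟨R, hR, le⟩ := exists_isSyl_ge pS le_top
  rcases le.eq_or_lt with e | lt
  · exact e ▸ hR
  obtain ⟨g, ⟨gR, gN⟩, gS⟩ := SetLike.exists_of_lt (lt_inf_normalizer_of_lt hR.isPGroup lt)
  rw [← M.rng] at gN gS le
  obtain ⟨α, hα⟩ := exists_aut M.inj gN
  have cz : α (u0 i) * gz i = gz i * α (u0 i) := by
    obtain ⟨w, hw⟩ := α.surjective (gz i)
    rw [← hw, ← map_mul, ← map_mul, z2 i w (α.injective (by rw [map_mul, hw, (sq_T i).2.1, map_one]))
      fun y _ v _ => α.injective ?_]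
    simp only [map_mul, map_inv, hw]
    rcases (z0 i (α y)).2 with e | e <;> rw [e]
    · rw [one_mul, mul_one]
    · exact (z0 i _).1
  have sq : α (u0 i) * α (u0 i) = 1 := by rw [← map_mul, (sq_T i).1, map_one]
  have c0 : Nat.card (centralizer {u0 i}) = 64 := (card_cent _).trans (cc_z i).1
  exfalso
  rcases rep_z i _ sq cz with e | e | e
  · obtain ⟨s, hs⟩ : ∃ s, cn (α (u0 i)) s = u0 i := ⟨_, e⟩
    have e1 : (centralizer {u0 i}).map φ = R ⊓ centralizer {φ (u0 i)} :=
      eq_of_le_of_card_ge (le_inf ((map_le_range _ _).trans le) (map_cent φ _)) (by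
        rw [card_map_of_injective M.inj, c0]
        exact sm_t K M.u0 _ hR.isPGroup.to_inf_left inf_le_right)
    have e2 : g * φ s ∈ φ.range := map_le_range _ _ (e1.ge ⟨mul_mem gR (le ⟨s, rfl⟩),
      mem_centralizer_singleton_iff.2 (H3.LTB.comm_of_cn (by
        have := congrArg φ hs
        rw [map_mul, map_mul, map_inv, hα] at this
        exact (H60.LT.cn_cn _ _ _).symm.trans this)).symm⟩)
    exact gS ((mul_mem_cancel_right (MonoidHom.mem_range.2 ⟨s, rfl⟩)).1 e2)
  · refine K.zD (((M.u0.trans (isConj_cn _ g)).trans ?_).trans (h.zr ▸ isConj_cn h.z h.r).symm)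
    rw [cn, ← hα, ← M.a, ← e]
    exact Md.rep (h := h) _
  · refine (cc_z i).2 _ e (by simp [rep, cn, mul_assoc, ← mul_assoc (α _) (α _), sq]) ?_
    rw [← card_cent, rep, cn, ← MulAut.conj_symm_apply, card_cent_aut, card_cent_aut, c0]

/-- the subgroup `S₁` of index two -/
def N1 : Subgroup (T 1).G where
  carrier := {x | x.val % 2 = 0}
  one_mem' := rfl
  mul_mem' := fun {a b} ha hb => by
    obtain ⟨C, D, L, e⟩ : ∃ C D L, (T 1).L = (C, D) :: L := ⟨_, _, _, rfl⟩
    change mulL _ _ (T 1).L a.val b.val % 2 = 0
    rw [e, mulL_cons, if_pos (show b.val % 2 = 0 from hb)]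
    have : a.val % 2 = 0 := ha
    split_ifs <;> omega
  inv_mem' := fun {a} => (by decide +kernel : ∀ a : (T 1).G, a.val % 2 = 0 → (a⁻¹).val % 2 = 0) a

theorem index_N1 : N1.index = 2 := index_eq_two_iff.2 ⟨gc 1, (by decide +kernel :
  ∀ b : (T 1).G, Xor ((b * gc 1).val % 2 = 0) (b.val % 2 = 0))⟩

theorem rep_1 : ∀ x : (T 1).G, x * x = 1 → x.val % 2 = 0 → rep 1 x ∈ [1, gt 1, u0 1,
    gt 1 * gy 1 * gY 1, gf 1, gz 1, ga 1, gb 1, gm 1] := by decide +kernel

theorem cc_1 : rep 1 (gY 1) = ga 1 ∧ ∀ x ∈ [gf 1, gt 1 * gy 1 * gY 1],
    64 < (Finset.univ.filter fun y => y * x = x * y).card := by decide +kernel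

theorem rel_HS : Cfsg.Agent.H4.SHS.T.Rel [gb 1, gz 1 * gc 1, gz 1 * gf 1 * ga 1 * gb 1 * gy 1 * gY 1, gm 1,
    gY 1, gz 1 * gf 1 * gt 1 * gy 1 * gY 1, gz 1, gz 1 * ga 1 * gt 1 * gy 1, gf 1] := by
  decide +kernel

theorem bij_HS : Function.Bijective (Pc.lift _ rel_HS) := by
  refine (Nat.bijective_iff_injective_and_card _).2 ⟨Pc.lift_injective _ _ fun y y1 y2 hy => ?_,
    Cfsg.Agent.H4.HS.card_Mo.trans (card_T 1).symm⟩
  rw [(Cfsg.Agent.H4.HS.inv_Zc y (Cfsg.Agent.H4.HS.cent_Q y fun b _ => (hy b).symm) y2).resolve_left y1,
    show Cfsg.Agent.H4.HS.z.val = 2 ^ 8 by decide +kernel, word_two_pow _ _ (by simp)]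
  exact (by decide +kernel : gf 1 ≠ 1)

theorem xx5 (hk : KitStmt.{u}) : XX5Stmt.{u} := by
  intro G _ _ h tX hs cc _
  have K := hk G h.toHyp
  obtain ⟨i, φ, M⟩ := model h
  obtain rfl : i = 1 := (sq_T i).2.2 (M.inj (by simp only [map_mul, M.c, M.z, M.f, M.t, M.y, M.Y, cc]))
  have hX : h.X = ⊤ := by rw [← h.XG, left_eq_sup, zpowers_le]; exact tX
  have sim : IsSimpleGroup G := by
    have := h.Xs
    rw [hX] at this
    exact topEquiv.symm.isSimpleGroup
  rw [← M.rng] at hs
  refine Or.inr ⟨hX, (K.cT.resolve_left fun e => h.e1 e.1).2.2, ?_, fun u u2 u1 hu => ?_⟩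
  · obtain ⟨P, hP⟩ := H67.exists_sylow_top Cfsg.Agent.H4.HS.fr_emb.syl
    exact S1777.result hs.toSylowTop P ⟨((MonoidHom.ofInjective M.inj).symm.trans
      (MulEquiv.ofBijective _ bij_HS).symm).trans ((MonoidHom.ofInjective Cfsg.Agent.H4.HS.fr_emb.inj).trans
        (MulEquiv.subgroupCongr hP.symm))⟩
  obtain ⟨g, x, hx, e⟩ : ∃ g, g * u * g⁻¹ ∈ N1.map φ := by
    by_contra c
    obtain ⟨N, hN, k, -⟩ := H87.thompson_transfer_involution (H := φ.range)
      (Nat.odd_iff.2 (Nat.two_dvd_ne_zero.1 (relIndex_top_right φ.range ▸ hs.not_dvd_relIndex)))
      (by rw [MonoidHom.range_eq_map, relIndex_map_map_of_injective _ _ M.inj, relIndex_top_right,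
        index_N1]) (by rw [pow_two, u2]) (not_exists.1 c)
    have h1 := N.card_mul_index
    have h2 := Nat.card_le_card_of_injective _ M.inj
    rcases hN.eq_bot_or_eq_top with rfl | rfl
    · rw [card_bot, k] at h1
      rw [card_T] at h2
      omega
    · simp at k
  have c1 : IsConj u (φ (rep 1 x)) := (isConj_iff.2 ⟨g, e.symm⟩).trans (Md.rep (h := h) x)
  have big : ∀ y ∈ [gf 1, gt 1 * gy 1 * gY 1], ¬ IsConj u (φ y) := fun y hy c => by
    have := Sm.conj hu c _ ((Pc.isPGroup.to_subgroup _).map φ) (map_cent φ y)
    rw [card_map_of_injective M.inj, card_cent] at this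
    exact (cc_1.2 y hy).not_ge this
  have zf : IsConj h.z (φ (gf 1)) := M.f ▸ h.zn ▸ isConj_cn _ _
  have az : IsConj h.a (φ (gf 1)) := (h.zr ▸ isConj_cn h.z h.r).symm.trans zf
  have := rep_1 x (M.inj (by rw [map_mul, e, conj_mul, u2, map_one]; group)) hx
  simp only [List.mem_cons, List.not_mem_nil, or_false] at this
  rcases this with e | e | e | e | e | e | e | e | e <;> rw [e] at c1
  · exact absurd (isConj_one_left.1 (φ.map_one ▸ c1)) u1
  · exact M.t ▸ c1.symm
  · exact M.u0.trans c1.symm
  · exact absurd c1 (big _ (by simp))
  · exact absurd c1 (big _ (by simp))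
  · exact absurd (c1.trans (M.z ▸ zf)) (big _ (by simp))
  · exact absurd (c1.trans (M.a ▸ az)) (big _ (by simp))
  · exact absurd (c1.trans (M.b ▸ (h.zs ▸ isConj_cn h.z h.s).symm.trans zf)) (big _ (by simp))
  · refine absurd (c1.trans (M.m ▸ h.mY'.symm.trans (IsConj.trans ?_ az))) (big _ (by simp))
    rw [← M.Y, ← M.a, ← cc_1.1]
    exact Md.rep (h := h) _

theorem eqns2 : True := by
  have := @tab.eq_1
  have := @rep.eq_1
  have := @u0.eq_1
  have := @Sm.eq_1.{0}
  have := @N1.eq_1
  trivial

end Cfsg.Agent.H86.XM
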